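import Groth.Agent.H17.FLI.AdjunctionGen
import Groth.Agent.H17.FLI.LciDual
import Groth.Agent.H29Slice.RegImm
import Groth.Agent.H29Omega.DerLocal
import Groth.Agent.H25Theta.Basic
import Groth.Agent.H10Coh.SerreVanishing
import Groth.Agent.H22Alg.ExtPowHom
import Groth.Agent.S9371
import Groth.Agent.S9372
import Groth.Prelude.Def_Canon

/-!
# The canonical sheaf on the smooth locus
-/

set_option autoImplicit false
set_option linter.style.haveILetI false
set_option backward.isDefEq.respectTransparency false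
set_option synthInstance.maxHeartbeats 400000
set_option maxHeartbeats 1600000

universe u

open CategoryTheory CategoryTheory.Limits AlgebraicGeometry Opposite TopologicalSpace

namespace Groth.Agent.H17.CanonSm

/-- The rank of a locally free module is unique. -/
theorem rank_eq {X : Scheme.{u}} {E : X.Modules} {a b : ℕ} (ha : FlatMod.IsFinLocFreeOfRank a E)
    (hb : FlatMod.IsFinLocFreeOfRank b E) [Nonempty X] : a = b := by
  obtain ⟨x⟩ := ‹Nonempty X›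
  obtain ⟨U, hxU, ⟨e⟩⟩ := ha x
  obtain ⟨U', hxU', ⟨e'⟩⟩ := hb x
  obtain ⟨V, hV, hxV, hle⟩ := exists_isAffineOpen_mem_and_subset (x := x) (U := U ⊓ U') ⟨hxU, hxU'⟩
  obtain ⟨bU⟩ := H8Props.FinLocFree.exists_basis_of_chart E e (fun y hy => (hle hy).1)
  obtain ⟨bU'⟩ := H8Props.FinLocFree.exists_basis_of_chart E e' (fun y hy => (hle hy).2)
  haveI : Nontrivial Γ(X, V) := (X.presheaf.germ V x hxV).hom.domain_nontrivial
  simpa using (Module.finrank_eq_card_basis bU).symm.trans (Module.finrank_eq_card_basis bU')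

/-- Exterior powers are insensitive to isomorphisms. -/
theorem isExtPow_congr {X : Scheme.{u}} {i : ℕ} {E L L' : X.Modules} (e : L' ≅ L) (h : ExtPow.IsExtPow i E L) :
    ExtPow.IsExtPow i E L' := by
  obtain ⟨φ, hφ⟩ := h
  let φ' : ∀ U : X.affineOpens, Γ(L, U.1) ≃ₗ[Γ(X, U.1)] ↥(⋀[Γ(X, U.1)]^i Γ(E, U.1)) := fun U => φ U
  let ε : ∀ U : X.Opens, Γ(L', U) ≃ₗ[Γ(X, U)] Γ(L, U) := fun U =>
    LinearEquiv.ofBijective (H22Alg.ExtPowHom.appL e.hom U) (H17.PullSect.bijective_app e.hom U)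
  refine ⟨fun U => (ε U.1).trans (φ' U), fun U V hVU v => ?_⟩
  show L'.presheaf.map (homOfLE hVU).op ((ε U.1).symm ((φ' U).symm (exteriorPower.ιMulti _ i v))) =
    (ε V.1).symm ((φ' V).symm (exteriorPower.ιMulti _ i fun t => E.presheaf.map (homOfLE hVU).op (v t)))
  rw [LinearEquiv.eq_symm_apply]
  exact ((H11Tilde.app_map_apply e.hom hVU _).trans
    (congrArg (L.presheaf.map (homOfLE hVU).op) ((ε U.1).apply_symm_apply _))).trans (hφ U V hVU v)

variable {X Z : Scheme.{u}} (i : X ⟶ Z)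

/-- A regular immersion of constant codimension restricts to opens of the target. -/
theorem regImm_restrict [IsImmersion i] {c : ℕ}
    (h : RegImm.IsRegularImmersionOfCodim RegImm.Kind.regular c i) (W : Z.Opens) :
    RegImm.IsRegularImmersionOfCodim RegImm.Kind.regular c (i ∣_ W) := by
  refine ⟨IsZariskiLocalAtTarget.restrict ‹IsImmersion i› W, fun z => ?_⟩
  obtain ⟨U, hzU, hcl, rs, hlen, hrs, hker⟩ := h.2 z.1
  obtain ⟨D₀, hD₀, hzD₀, hD₀le⟩ := exists_isAffineOpen_mem_and_subset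
    (x := ((i ∣_ W) z : W.toScheme)) (U := W.ι ⁻¹ᵁ U.1) (show W.ι ((i ∣_ W) z) ∈ U.1 by
      rw [← Scheme.Hom.comp_apply, morphismRestrict_ι, Scheme.Hom.comp_apply]; exact hzU)
  let D : Z.affineOpens := ⟨W.ι ''ᵁ D₀, hD₀.image_of_isOpenImmersion _⟩
  have hDU : D.1 ≤ U.1 := by
    rintro y ⟨w, hw, rfl⟩
    exact hD₀le hw
  have H : IsPullback (𝟙 X) i i (𝟙 Z) := IsPullback.of_horiz_isIso ⟨by simp⟩
  obtain ⟨hcl', hker'⟩ := H29Slice.restrict_baseChange H U.2 hcl D.2 (e := hDU)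
  have he : (Scheme.Hom.appLE (𝟙 Z) U.1 D.1 hDU) = Z.presheaf.map (homOfLE hDU).op := by
    simp only [Scheme.Hom.appLE, Scheme.Hom.id_app]
    rfl
  rw [he, hker, Ideal.map_ofList] at hker'
  let rs' := rs.map (Z.presheaf.map (homOfLE hDU).op).hom
  have hker0 : RingHom.ker ((i ∣_ W).app D₀).hom = Ideal.ofList rs' := by
    rw [morphismRestrict_app, CommRingCat.hom_comp, RingHom.ker_comp_of_injective]
    · exact hker'
    · exact (ConcreteCategory.bijective_of_isIso _).1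
  refine ⟨⟨D₀, hD₀⟩, hzD₀, ?_, rs', by simp [rs', hlen], ⟨?_, ?_⟩, hker0⟩
  · exact (MorphismProperty.arrow_mk_iso_iff @IsClosedImmersion (morphismRestrictRestrict i W D₀)).2 hcl'
  · letI : Algebra Γ(Z, U.1) Γ(Z, D.1) := (Z.presheaf.map (homOfLE hDU).op).hom.toAlgebra
    haveI : Module.Flat Γ(Z, U.1) Γ(Z, D.1) := by
      have hfl := Scheme.Hom.flat_appLE (𝟙 Z) U.2 D.2 hDU
      rw [he] at hfl
      exact hfl
    have hw : RingTheory.Sequence.IsWeaklyRegular Γ(Z, D.1) (rs.map (algebraMap Γ(Z, U.1) Γ(Z, D.1))) :=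
      (hrs : RingTheory.Sequence.IsRegular Γ(Z, U.1) rs).toIsWeaklyRegular.of_flat
    exact hw
  · intro htop
    have htop' := (by simpa using htop.symm : _)
    have h1 : ((i ∣_ W).app D₀).hom 1 = 0 := RingHom.mem_ker.1 (hker0.symm ▸ (Ideal.eq_top_iff_one _).1 htop')
    haveI : Nontrivial Γ((i ⁻¹ᵁ W).toScheme, (i ∣_ W) ⁻¹ᵁ D₀) :=
      ((i ⁻¹ᵁ W).toScheme.presheaf.germ _ z hzD₀).hom.domain_nontrivial
    exact one_ne_zero ((map_one _).symm.trans h1)

/-- The conormal sheaf restricts to opens of the target. -/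
theorem nonempty_conormal_restrict [IsImmersion i] [QuasiCompact i] (W : Z.Opens) :
    Nonempty ((Scheme.Modules.pullback (i ⁻¹ᵁ W).ι).obj (Omega.conormal i) ≅ Omega.conormal (i ∣_ W)) := by
  haveI : IsImmersion (i ∣_ W) := IsZariskiLocalAtTarget.restrict ‹IsImmersion i› W
  haveI : QuasiCompact (i ∣_ W) := IsZariskiLocalAtTarget.restrict ‹QuasiCompact i› W
  obtain ⟨φ, hφ, -⟩ := S9371.result (i ∣_ W) i W.ι (i ⁻¹ᵁ W).ι (morphismRestrict_ι i W).symm
  haveI := (S9372.result (i ∣_ W) i W.ι (i ⁻¹ᵁ W).ι (isPullback_morphismRestrict i W) φ hφ).2 inferInstance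
  exact ⟨asIso φ⟩

variable {Y : Scheme.{u}} (g : Z ⟶ Y)

/-- On an open where the composite is smooth, a canonical sheaf is the sheaf of top forms. -/
theorem isTopDiff_restrict [IsLocallyNoetherian Y] [IsImmersion i] [QuasiCompact i] [QuasiSeparated g]
    {c n d : ℕ} [SmoothOfRelativeDimension n g]
    (hreg : RegImm.IsRegularImmersionOfCodim RegImm.Kind.regular c i) {ω DC : X.Modules} {DΩ : Z.Modules}
    (hDC : ExtPow.IsExtPow c (Omega.conormal i) DC) (hDΩ : ExtPow.IsExtPow n (Omega.sheaf g) DΩ)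
    (e : CohB1.tensorMod ω DC ≅ (Scheme.Modules.pullback i).obj DΩ) (W : Z.Opens) [IsClosedImmersion (i ∣_ W)]
    (hd : SmoothOfRelativeDimension d ((i ⁻¹ᵁ W).ι ≫ i ≫ g)) [QuasiSeparated ((i ⁻¹ᵁ W).ι ≫ i ≫ g)] :
    Canon.IsTopDiff ((i ⁻¹ᵁ W).ι ≫ i ≫ g) d ((Scheme.Modules.pullback (i ⁻¹ᵁ W).ι).obj ω) := by
  let U := i ⁻¹ᵁ W
  let ι := i ∣_ W
  let f₀ := U.ι ≫ i ≫ g
  haveI : SmoothOfRelativeDimension d f₀ := hd
  haveI : QuasiSeparated f₀ := ‹_›
  haveI : Smooth g := SmoothOfRelativeDimension.smooth n g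
  haveI : IsLocallyNoetherian Z := LocallyOfFiniteType.isLocallyNoetherian g
  haveI : IsLocallyNoetherian W.toScheme := inferInstance
  haveI : SmoothOfRelativeDimension n (W.ι ≫ g) := IsZariskiLocalAtSource.comp ‹_› W.ι
  haveI : QuasiSeparated (W.ι ≫ g) := inferInstance
  have hι : ι ≫ W.ι ≫ g = f₀ := morphismRestrict_ι_assoc i W g
  obtain ⟨ΩX, hΩX⟩ := H22Alg.ExtPowSheaf.exists_isExtPow d (H29Omega.isQCoh_sheaf f₀)
  refine isExtPow_congr ?_ hΩX
  refine Classical.choice ?_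
  rcases isEmpty_or_nonempty U.toScheme with hE | hE
  · have hz : ∀ M : U.toScheme.Modules, IsZero M := fun M =>
      H16Derived.KFlat.Stalk.isZero_of_stalk fun x => isEmptyElim x
    exact ⟨(hz _).iso (hz _)⟩
  have hqΩ : Coh.IsQCoh (Omega.sheaf g) := H29Omega.isQCoh_sheaf g
  obtain ⟨eW⟩ := H29Omega.nonempty_restrict_iso_sheaf (H17.PrinOmega.isUniversal_dOmega g) W.ι
  have hΩW : ExtPow.IsExtPow n (Omega.sheaf (W.ι ≫ g)) ((Scheme.Modules.pullback W.ι).obj DΩ) :=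
    H22Alg.ExtPowSES.isExtPow_of_iso
      (((Scheme.Modules.restrictFunctorIsoPullback W.ι).app (Omega.sheaf g)).symm ≪≫ eW)
      (H22Alg.ExtPowHom.isExtPow_pullback W.ι hqΩ hDΩ)
  have hrk := (FLI.regImm_of_smooth_gen (W.ι ≫ g) f₀ ι hι n d).2.1
  have hrc := FLI.isFinLocFreeOfRank_conormal ι (regImm_restrict i hreg W)
  obtain rfl : c = n - d := rank_eq hrc hrk
  obtain ⟨eC⟩ := nonempty_conormal_restrict i W
  have hqC : Coh.IsQCoh (Omega.conormal i) := H8Props.FinLocFree.isQCoh_of_isFinLocFree _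
    (H29Ref.ConormalQReg.isFinLocFree_conormal_of_quasi i fun z => by
      obtain ⟨U, hz, hcl, rs, -, hrs, hker⟩ := hreg.2 z
      exact ⟨U, hz, hcl, rs, RegQuasi.quasi_of_regular hrs, hker⟩)
  let L := (Scheme.Modules.pullback U.ι).obj DC
  have hL : ExtPow.IsExtPow (n - d) (Omega.conormal ι) L :=
    H22Alg.ExtPowSES.isExtPow_of_iso eC (H22Alg.ExtPowHom.isExtPow_pullback U.ι hqC hDC)
  obtain ⟨eA⟩ := FLI.nonempty_adjunction_iso_gen (W.ι ≫ g) f₀ ι hι n d hΩW hΩX hL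
  let eB : CohB1.tensorMod L ΩX ≅ CohB1.tensorMod ((Scheme.Modules.pullback U.ι).obj ω) L :=
    eA ≪≫ H25Theta.pC ι W.ι (morphismRestrict_ι i W) DΩ ≪≫ (H25Theta.pC U.ι i rfl DΩ).symm ≪≫
      (Scheme.Modules.pullback U.ι).mapIso e.symm ≪≫ H25Theta.pT U.ι ω DC
  obtain ⟨L', -, ⟨eL⟩⟩ := H11Sym.exists_inverse (FLI.isInvertible_of_rank_one (FLI.isInvertible_extPow hrk hL))
  exact ⟨(H10Coh.Tw.rightUnitIso _).symm ≪≫
    H25Theta.tI (Iso.refl _) (eL.symm ≪≫ H10Coh.Tw.commIso L' L) ≪≫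
    (H10Coh.Tw.assoc _ L L').symm ≪≫
    H25Theta.tI (eB.symm ≪≫ H10Coh.Tw.commIso L ΩX) (Iso.refl L') ≪≫
    H10Coh.Tw.assoc ΩX L L' ≪≫
    H25Theta.tI (Iso.refl ΩX) (H10Coh.Tw.commIso L L' ≪≫ eL) ≪≫
    H10Coh.Tw.rightUnitIso _⟩

end Groth.Agent.H17.CanonSm
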