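import Groth.Agent.H17.Canon.GenericFibre
import Groth.Agent.S8654
import Groth.Prelude.Def_BlowUp2
import Groth.Prelude.Def_ClSub2

/-!
# Adjunction for an effective Cartier divisor
-/

set_option autoImplicit false
set_option linter.style.haveILetI false
set_option backward.isDefEq.respectTransparency false
set_option synthInstance.maxHeartbeats 400000
set_option maxHeartbeats 3200000

universe u

open CategoryTheory CategoryTheory.Limits AlgebraicGeometry Opposite TopologicalSpace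

namespace Groth.Agent.H17.CanonSm

/-- An effective Cartier divisor is regularly immersed with codimension one. -/
theorem regImm_of_effCartier {E X : Scheme.{u}} (ι : E ⟶ X) [IsClosedImmersion ι]
    (h : BlowUp.IsEffCartierIdeal ι.ker) :
    RegImm.IsRegularImmersionOfCodim RegImm.Kind.regular 1 ι := by
  refine ⟨inferInstance, fun z => ?_⟩
  obtain ⟨U, hzU, f, hf, hI⟩ := h (ι z)
  have hker : RingHom.ker (ι.app U.1).hom = Ideal.ofList [f] := by
    rw [← Scheme.Hom.ker_apply, hI, Ideal.ofList_singleton]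
  refine ⟨U, hzU, IsZariskiLocalAtTarget.restrict ‹IsClosedImmersion ι› U.1, [f], rfl, ⟨?_, ?_⟩, hker⟩
  · exact (RingTheory.Sequence.isWeaklyRegular_singleton_iff _ _).2
      ((isRegular_iff_mem_nonZeroDivisors.2 hf).left.isSMulRegular)
  · intro htop
    have htop' : (1 : Γ(X, U.1)) ∈ Ideal.ofList [f] := by
      have h0 : IsUnit f := by simpa using htop.symm
      exact (Ideal.eq_top_iff_one _).1 (Ideal.eq_top_of_isUnit_mem _ (Ideal.subset_span (by simp)) h0)
    haveI : Nontrivial Γ(E, ι ⁻¹ᵁ U.1) := (E.presheaf.germ _ z hzU).hom.domain_nontrivial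
    have h1 : (ι.app U.1).hom 1 = 0 := RingHom.mem_ker.1 (hker.symm ▸ htop')
    exact one_ne_zero ((map_one _).symm.trans h1)

/-- A regular immersion of constant codimension is a regular immersion. -/
theorem regImm_of_ofCodim {E X : Scheme.{u}} {ι : E ⟶ X} {k : RegImm.Kind} {c : ℕ}
    (h : RegImm.IsRegularImmersionOfCodim k c ι) : RegImm.IsRegularImmersion k ι :=
  ⟨h.1, fun z => by obtain ⟨U, hz, hcl, rs, -, hrs, hker⟩ := h.2 z; exact ⟨U, hz, hcl, rs, hrs, hker⟩⟩

/-- Adjunction for an effective Cartier divisor whose structure map factors through a point of codimension one. -/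
theorem adjunction_effCartier {S T E X : Scheme.{u}} [IsLocallyNoetherian S] [IsIntegral E] [Subsingleton T]
    [Nonempty T] {pX : X ⟶ S} {pE : E ⟶ T} (ι : E ⟶ X) [IsClosedImmersion ι] (κ : T ⟶ S) [IsClosedImmersion κ]
    (hw : ι ≫ pX = pE ≫ κ) (hE : BlowUp.IsEffCartierIdeal ι.ker)
    (hκ : RegImm.IsRegularImmersionOfCodim RegImm.Kind.regular 1 κ)
    {L : X.Modules} (hL : ClSub.IsInverseOf L (ClSub.idealMod ι.ker))
    {ω : X.Modules} (hω : Canon.IsCanonical pX ω) {ωE : E.Modules} (hωE : Canon.IsCanonical pE ωE) :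
    Nonempty (ωE ≅ (Scheme.Modules.pullback ι).obj (CohB1.tensorMod L ω)) := by
  obtain ⟨Z, i, g, c, n, hfac, hreg, hn, hqc, hqs, hvia⟩ := hω
  obtain ⟨Z₁, i₁, g₁, c₁, n₁, hfac₁, hreg₁, hn₁, hqc₁, hqs₁, hvia₁⟩ := hωE
  haveI := hreg.1
  haveI := hreg₁.1
  haveI : Smooth g := SmoothOfRelativeDimension.smooth n g
  haveI : IsLocallyNoetherian Z := LocallyOfFiniteType.isLocallyNoetherian g
  haveI : QuasiSeparated pX := hfac ▸ inferInstance
  have hι := regImm_of_effCartier ι hE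
  -- the composite immersion
  let j := ι ≫ i
  haveI : IsImmersion j := inferInstanceAs (IsImmersion (ι ≫ i))
  haveI : QuasiCompact j := inferInstanceAs (QuasiCompact (ι ≫ i))
  have hjk : RegImm.IsRegularImmersion .koszul j :=
    S8654.result i ι ((S8905.result i).1 (regImm_of_ofCodim hreg)) ((S8905.result ι).1 (regImm_of_ofCodim hι))
  have hjq : RegImm.IsRegularImmersion .quasi j := (S8905.result j).2.2 ((S8905.result j).2.1 hjk)
  obtain ⟨c₃, hC₃⟩ := exists_rank (genericPoint E)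
    (fun V x hx => ((genericPoint_spec E).mem_open_set_iff V.isOpen).2 ⟨x, trivial, hx⟩)
    (H29Ref.ConormalQReg.isFinLocFree_conormal_of_quasi j hjq.2)
  have hr₃ := regImm_ofCodim_of_rank j ((S5003.result j).2 hjq) hC₃
  obtain ⟨ω₃, hω₃, -⟩ := exists_via (n := n) j g hC₃
  -- the canonical sheaf of the divisor inclusion
  have hC : FlatMod.IsFinLocFreeOfRank 1 (Omega.conormal ι) :=
    isFinLocFreeOfRank_conormal_of_quasi ι (isQuasiOfCodim_of_regular hι)
  haveI : SmoothOfRelativeDimension 0 (𝟙 X) := inferInstance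
  haveI : SmoothOfRelativeDimension 0 (𝟙 S) := inferInstance
  obtain ⟨DΩ₀, hDΩ₀⟩ := H22Alg.ExtPowSheaf.exists_isExtPow 0 (H29Omega.isQCoh_sheaf (𝟙 X))
  obtain ⟨e₀⟩ := H22Alg.ExtPowHom.nonempty_iso (H22Alg.KExists.isExtPow_zero (Omega.sheaf (𝟙 X))) hDΩ₀
  obtain ⟨eL⟩ := hL
  let ω₁ := (Scheme.Modules.pullback ι).obj L
  have hω₁ : Canon.IsCanonicalVia ι (𝟙 X) 1 0 ω₁ :=
    ⟨Omega.conormal ι, DΩ₀, H22Alg.KExists.isExtPow_one _, hDΩ₀,
      ⟨(H25Theta.pT ι L (ClSub.idealMod ι.ker)).symm ≪≫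
        (Scheme.Modules.pullback ι).mapIso (eL ≪≫ e₀)⟩⟩
  obtain ⟨eA⟩ := nonempty_iso_comp (f := ι) (g := pX) ι (𝟙 X) (Category.comp_id _) i g hfac j g
    (by rw [Category.assoc, hfac]) hι hreg hr₃ hω₁ hvia hω₃
  -- through the point
  obtain ⟨ω₂, hω₂, hω₂inv⟩ := exists_via (n := 0) κ (𝟙 S)
    (isFinLocFreeOfRank_conormal_of_quasi κ (isQuasiOfCodim_of_regular hκ))
  obtain ⟨u⟩ := nonempty_iso_structure_of_subsingleton hω₂inv
  obtain ⟨eB⟩ := nonempty_iso_comp (f := pE) (g := κ) i₁ g₁ hfac₁ κ (𝟙 S) (Category.comp_id _) j g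
    (by rw [Category.assoc, hfac, hw]) hreg₁ hκ hr₃ hvia₁ hω₂ hω₃
  exact ⟨(H10Coh.Tw.rightUnitIso ωE).symm ≪≫
    H25Theta.tI (Iso.refl ωE) ((H16Derived.KFlat.Stalk.structurePullbackIso pE).symm ≪≫
      (Scheme.Modules.pullback pE).mapIso u.symm) ≪≫ eB.symm ≪≫ eA ≪≫ (H25Theta.pT ι L ω).symm⟩

end Groth.Agent.H17.CanonSm
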