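import Groth.Agent.H17.Canon.QuasiRank
import Groth.Agent.H10Coh.Zpair.Main

/-!
# Base change of canonical sheaves
-/

set_option autoImplicit false
set_option linter.style.haveILetI false
set_option backward.isDefEq.respectTransparency false
set_option synthInstance.maxHeartbeats 400000
set_option maxHeartbeats 1600000

universe u

open CategoryTheory CategoryTheory.Limits AlgebraicGeometry Opposite TopologicalSpace

namespace Groth.Agent.H17.CanonSm

/-- A factorisation computing a canonical sheaf pulls back along a base change, `f` or `u` being flat. -/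
theorem exists_via_baseChange {X X' Y Y' Z Z' : Scheme.{u}} {i : X ⟶ Z} {g : Z ⟶ Y} {u : Y' ⟶ Y}
    {pX : X' ⟶ X} {pZ : Z' ⟶ Z} {i' : X' ⟶ Z'} {g' : Z' ⟶ Y'}
    (H : IsPullback pX i' i pZ) (HS : IsPullback pZ g' g u) [IsImmersion i] [QuasiCompact i] [IsImmersion i']
    [QuasiCompact i'] [QuasiSeparated g] [QuasiSeparated g'] [IsLocallyNoetherian X'] {c n : ℕ}
    (hq : IsQuasiOfCodim c i) (hfl : Flat (i ≫ g) ∨ Flat u) {ω : X.Modules}
    (hω : Canon.IsCanonicalVia i g c n ω) :
    FlatMod.IsFinLocFreeOfRank c (Omega.conormal i') ∧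
      Canon.IsCanonicalVia i' g' c n ((Scheme.Modules.pullback pX).obj ω) := by
  obtain ⟨DC, DΩ, hDC, hDΩ, ⟨e⟩⟩ := hω
  have hC := isFinLocFreeOfRank_conormal_of_quasi i hq
  obtain ⟨φ, hφ, -⟩ := S9371.result i' i pZ pX H.w
  obtain ⟨hepi, hiso⟩ := S9372.result i' i pZ pX H.flip φ hφ
  haveI := hepi
  have hp := H26Gr.isFinLocFreeOfRank_pullback pX hC
  have hI : IsIso φ := by
    rcases hfl with hf | hu
    · exact H10Coh.Zpair.isIso_of_epi_rank hp
        (isFinLocFreeOfRank_conormal_of_quasi i' (isQuasiOfCodim_baseChange H HS hq)) φ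
    · haveI := hu
      exact hiso ((MorphismProperty.of_isPullback (P := @Flat) HS.flip) hu)
  refine ⟨H26Gr.isFinLocFreeOfRank_of_iso (asIso φ) hp, _, _,
    H22Alg.ExtPowSES.isExtPow_of_iso (asIso φ) (H22Alg.ExtPowHom.isExtPow_pullback pX (isQCoh_conormal' i) hDC),
    S15539.result _ _ _ _ g g' pZ u HS n DΩ hDΩ, ⟨?_⟩⟩
  exact (H25Theta.pT pX ω DC).symm ≪≫ (Scheme.Modules.pullback pX).mapIso e ≪≫
    H25Theta.pC pX i rfl DΩ ≪≫ (H25Theta.pC i' pZ H.w.symm DΩ).symm

end Groth.Agent.H17.CanonSm
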