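import Groth.Agent.H28Vert.Genus
import Groth.Agent.H28Vert.TrivGeneric
import Groth.Prelude.Def_Neron

/-!
# Dimension of the generic fibre over a discrete valuation ring
-/

set_option autoImplicit false
set_option linter.style.haveILetI false
set_option backward.isDefEq.respectTransparency.types false

universe u

open CategoryTheory CategoryTheory.Limits AlgebraicGeometry TopologicalSpace

namespace Groth.Agent.H17.CanonSm

variable {R : Type u} [CommRing R] [IsDomain R] [IsDiscreteValuationRing R]

/-- The generic fibre of a proper scheme over a DVR has smaller dimension. -/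
theorem dim_genericFibre_le (X : Over (Spec (CommRingCat.of R))) [IsProper X.hom] {d : ℕ}
    (hX : topologicalKrullDim X.left ≤ ((d + 1 : ℕ) : WithBot ℕ∞)) :
    topologicalKrullDim ↥((Neron.genericFibre R).obj X).left ≤ ((d : ℕ) : WithBot ℕ∞) := by
  let jK := Spec.map (CommRingCat.ofHom (algebraMap R (FractionRing R)))
  haveI : IsOpenImmersion (Neron.genPt R) := H28Vert.isOpenImmersion_generic (R := R)
  let j : ((Neron.genericFibre R).obj X).left ⟶ X.left := pullback.fst X.hom (Neron.genPt R)
  haveI : IsOpenImmersion j := inferInstanceAs (IsOpenImmersion (pullback.fst X.hom (Neron.genPt R)))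
  haveI : CompactSpace X.left := QuasiCompact.compactSpace_of_compactSpace X.hom
  refine iSup_le fun s => ?_
  let M := IrreducibleCloseds.map (α := X.left) j j.continuous
  have hM : StrictMono M := IrreducibleCloseds.map_strictMono_of_isInducing j.isOpenEmbedding.isInducing
  obtain ⟨w, hw⟩ := (s.head).isIrreducible.nonempty
  let C : Set X.left := closure {j w}
  have hmap : IsClosed (X.hom '' C) := X.hom.isClosedMap _ isClosed_closure
  have hclosed : IsLocalRing.closedPoint R ∈ X.hom '' C :=
    (IsLocalRing.specializes_closedPoint (X.hom (j w))).mem_closed hmap ⟨j w, subset_closure rfl, rfl⟩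
  obtain ⟨x, hxC, hx⟩ := hclosed
  obtain ⟨z, hz, hzc⟩ := (isClosed_closure (s := ({x} : Set X.left))).exists_closed_singleton
    ⟨x, subset_closure rfl⟩
  have hxz : x ⤳ z := specializes_iff_mem_closure.2 hz
  have hne : z ∉ Set.range j := by
    rintro ⟨v, rfl⟩
    have h1 : X.hom (j v) = Neron.genPt R (pullback.snd X.hom (Neron.genPt R) v) := by
      rw [← Scheme.Hom.comp_apply, ← Scheme.Hom.comp_apply, pullback.condition]
    have h2 : X.hom (j v) = IsLocalRing.closedPoint R :=
      ((hx ▸ hxz.map X.hom.continuous).antisymm (IsLocalRing.specializes_closedPoint _)).eq.symm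
    have h3 : ∀ y : ↥(Spec (CommRingCat.of (FractionRing R))), Neron.genPt R y ≠ IsLocalRing.closedPoint R := by
      intro y hy
      have := congrArg PrimeSpectrum.asIdeal hy
      have hy0 : y.asIdeal = ⊥ := (Ideal.eq_bot_or_top _).resolve_right y.isPrime.ne_top
      change Ideal.comap (algebraMap R (FractionRing R)) y.asIdeal = IsLocalRing.maximalIdeal R at this
      rw [hy0, Ideal.comap_bot_of_injective _ (IsFractionRing.injective R (FractionRing R))] at this
      exact IsDiscreteValuationRing.not_isField R (IsLocalRing.isField_iff_maximalIdeal_eq.2 this.symm)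
    exact h3 _ (h1.symm.trans h2)
  have hjw : j w ∈ (M s.head : Set X.left) := subset_closure ⟨w, hw, rfl⟩
  have hzM : z ∈ (M s.head : Set X.left) := by
    have h1 : C ⊆ (M s.head : Set X.left) := closure_minimal (Set.singleton_subset_iff.2 hjw) isClosed_closure
    exact hxz.mem_closed (M s.head).isClosed (h1 hxC)
  let Zp : IrreducibleCloseds X.left := ⟨{z}, isIrreducible_singleton, hzc⟩
  have hlt : Zp < M s.head := lt_of_le_of_ne (fun a ha => Set.mem_singleton_iff.1 ha ▸ hzM) fun h => by
    have h2 : j w ∈ (Zp : Set X.left) := h ▸ hjw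
    exact hne ⟨w, Set.mem_singleton_iff.1 h2⟩
  have h := le_trans (Order.LTSeries.length_le_krullDim ((s.map M hM).cons Zp hlt)) hX
  have h1 : ((s.length + 1 : ℕ) : WithBot ℕ∞) ≤ ((d + 1 : ℕ) : WithBot ℕ∞) := by
    simpa [LTSeries.map] using h
  have h' : s.length + 1 ≤ d + 1 := by exact_mod_cast h1
  exact_mod_cast Nat.le_of_succ_le_succ h'

end Groth.Agent.H17.CanonSm
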