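import Groth.Agent.H17.Canon.VertAdj
import Groth.Agent.H17.Canon.GenericFibreDim
import Groth.Agent.H17.Canon.BaseChange
import Groth.Agent.H05EGA4.DimOneBase
import Groth.Agent.H22Alg.CurveAmple
import Groth.Agent.H28Vert.ClosedFibre
import Groth.Agent.H28Vert.CompList2
import Groth.Agent.H28Vert.Sub
import Groth.Agent.H28Vert.SmoothRelMin
import Groth.Agent.H11Ample.AmpleOn
import Groth.Agent.H22Alg.SnapperConst
import Groth.Agent.H16Derived.BaseChange.RelFlatPull

/-!
# Surfaces over a discrete valuation ring with ample canonical sheaf: few components in the closed fibre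
-/

set_option autoImplicit false
set_option linter.style.haveILetI false
set_option backward.isDefEq.respectTransparency.types false
set_option synthInstance.maxHeartbeats 400000
set_option maxHeartbeats 3200000

universe u

open CategoryTheory CategoryTheory.Limits AlgebraicGeometry Opposite TopologicalSpace
open Groth.Agent.H28Vert Groth.Agent.H28Int

namespace Groth.Agent.H17.CanonSm

variable {R : Type u} [CommRing R] [IsDomain R] [IsDiscreteValuationRing R]
  {Y : Over (Spec (CommRingCat.of R))} [IsIntegral Y.left] [Flat Y.hom] [IsProper Y.hom]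

/-- The generic fibre of an integral surface over a DVR is a curve. -/
theorem dim_genericFibre_eq_one (hd : topologicalKrullDim Y.left = 2) :
    topologicalKrullDim ↥(pullback Y.hom (Neron.genPt R)) = 1 := by
  refine le_antisymm (dim_genericFibre_le Y hd.le) ?_
  obtain ⟨n, Γ, hΓ⟩ := exists_isComponentList' hd
  let S := Spec (CommRingCat.of R)
  have hη : Y.hom (genericPoint Y.left) = (⊥ : PrimeSpectrum R) := hom_genericPoint_eq_bot
  haveI : IsIntegral S := inferInstance
  have hgS : genericPoint S = (⊥ : PrimeSpectrum R) := genericPoint_eq_bot_of_affine (CommRingCat.of R)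
  have hdense : DenseRange Y.hom := by
    refine Dense.mono (Set.singleton_subset_iff.2 ⟨genericPoint Y.left, hη.trans hgS.symm⟩) ?_
    rw [dense_iff_closure_eq]
    exact (genericPoint_spec S).def
  have hR : topologicalKrullDim S = 1 := (PrimeSpectrum.topologicalKrullDim_eq_ringKrullDim R).trans (IsDiscreteValuationRing.ringKrullDim_eq_one R)
  let c : S := IsLocalRing.closedPoint R
  obtain ⟨l, -⟩ : ∃ l : Fin n, True := by
    obtain ⟨y, hy⟩ : ∃ y : Y.left, Y.hom y = c :=
      ⟨_, ((IsLocalRing.specializes_closedPoint (Y.hom (genericPoint Y.left))).mem_closed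
        Y.hom.isClosedMap.isClosed_range ⟨_, rfl⟩).choose_spec⟩
    obtain ⟨z, hz⟩ : y ∈ Set.range (pullback.fst Y.hom (closedPt R)) := by
      rw [Scheme.Pullback.range_fst]
      exact ⟨IsLocalRing.closedPoint _, (IsLocalRing.PrimeSpectrum.comap_residue R _).trans hy.symm⟩
    exact ⟨(exists_mem_range_toFibre hΓ z).choose, trivial⟩
  have hmem : ∀ w, (Γ l).ι w ∈ Set.range (Y.hom.fiberι c) := fun w => by
    rw [Y.hom.range_fiberι]
    show Y.hom ((Γ l).ι w) = c
    rw [← Scheme.Hom.comp_apply, (Γ l).w, Scheme.Hom.comp_apply]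
    exact IsLocalRing.PrimeSpectrum.comap_residue R _
  choose φ hφ using hmem
  have hind : Topology.IsInducing φ := by
    have h1 : Topology.IsInducing (Y.hom.fiberι c ∘ φ) := by
      rw [show (Y.hom.fiberι c) ∘ φ = (Γ l).ι from funext hφ]
      exact (Γ l).ι.isClosedEmbedding.isInducing
    have hc : Continuous φ := (Y.hom.fiberι c).isEmbedding.isInducing.continuous_iff.2 h1.continuous
    exact Topology.IsInducing.of_comp hc (Y.hom.fiberι c).continuous h1
  obtain ⟨Z, hZ, hle⟩ := exists_mem_irreducibleComponents_subset_of_isIrreducible (Set.range φ)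
    (by rw [← Set.image_univ]; exact (IrreducibleSpace.isIrreducible_univ _).image _ hind.continuous.continuousOn)
  have h1 : (1 : WithBot ℕ∞) ≤ topologicalKrullDim Z := by
    rw [← (Γ l).dim_eq]
    have hcod : Topology.IsInducing (fun w => (⟨φ w, hle ⟨w, rfl⟩⟩ : Z)) := hind.codRestrict _
    exact hcod.topologicalKrullDim_le
  rw [H05EGA4.DimOneBase.main Y.hom hR hdense c Z hZ] at h1
  refine h1.trans (le_of_eq ?_)
  have hr : Set.range (Y.hom.fiberι (genericPoint S)) = Set.range (pullback.fst Y.hom (Neron.genPt R)) := by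
    rw [Y.hom.range_fiberι, Scheme.Pullback.range_fst, range_genPt, hgS]
    rfl
  haveI : IsOpenImmersion (Neron.genPt R) := isOpenImmersion_generic (R := R)
  exact IsHomeomorph.topologicalKrullDim_eq _ ((((Y.hom.fiberι (genericPoint S)).isEmbedding.toHomeomorph).trans
    ((Homeomorph.setCongr hr).trans
      (pullback.fst Y.hom (Neron.genPt R)).isOpenEmbedding.isEmbedding.toHomeomorph.symm)).isHomeomorph)

/-- The number of components of the closed fibre is bounded by the degree of an ample canonical sheaf. -/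
theorem ncard_fibreComponents_le (hd : topologicalKrullDim Y.left = 2) {ω : Y.left.Modules}
    (hω : Canon.IsCanonical Y.hom ω) (hamp : CohB1.IsAmple ω) :
    (Set.ncard (Models.fibreComponents R Y) : ℤ) ≤
      -2 * FGA.eulerCharLE (FractionRing R) ((Neron.genericFibre R).obj Y).left
        (Coh.structureModule ((Neron.genericFibre R).obj Y).left) 1 := by
  let K := FractionRing R
  let k := IsLocalRing.ResidueField R
  let C := pullback Y.hom (Neron.genPt R)
  let g := pullback.fst Y.hom (Neron.genPt R)
  letI : C.Over (Spec (CommRingCat.of K)) := ⟨pullback.snd Y.hom (Neron.genPt R)⟩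
  haveI : IsProper (C ↘ Spec (CommRingCat.of K)) :=
    inferInstanceAs (IsProper (pullback.snd Y.hom (Neron.genPt R)))
  haveI : IsOpenImmersion (Neron.genPt R) := isOpenImmersion_generic (R := R)
  haveI : IsOpenImmersion g := inferInstanceAs (IsOpenImmersion (pullback.fst Y.hom (Neron.genPt R)))
  haveI : IsLocallyNoetherian Y.left := LocallyOfFiniteType.isLocallyNoetherian Y.hom
  haveI : IsLocallyNoetherian C := LocallyOfFiniteType.isLocallyNoetherian (C ↘ Spec (CommRingCat.of K))
  have hCd : topologicalKrullDim C = 1 := dim_genericFibre_eq_one hd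
  haveI : Nonempty C := by
    by_contra h
    haveI : IsEmpty C := not_nonempty_iff.1 h
    have h2 : topologicalKrullDim C = ⊥ := Order.krullDim_eq_bot_iff.2 ⟨fun Z => (isEmptyElim Z.isIrreducible.nonempty.choose : False)⟩
    rw [hCd] at h2
    exact WithBot.coe_ne_bot h2
  haveI : IsIntegral C := isIntegral_of_isOpenImmersion g
  -- the canonical sheaf of the generic fibre
  have hω' := hω
  obtain ⟨Z, i, q, c, m, hfac, hreg, hn, hqc, hqs, hvia⟩ := hω'
  haveI := hreg.1
  haveI : Smooth q := SmoothOfRelativeDimension.smooth m q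
  have hkY : ∀ y, Synt.IsKoszulAt Y.hom y := fun y => by
    rw [← hfac]
    exact H8Props.KoszImm.isKoszulAt_comp _ _ _
        (S9773.result i _ (Or.inl rfl) (regImm_of_ofCodim hreg) _) (H8Props.AlgSpLci.isKoszulAt_of_smooth q _)
  have hkC : ∀ x, Synt.IsKoszulAt (C ↘ Spec (CommRingCat.of K)) x := fun x =>
    H8Props.KoszImm.isKoszulAt_baseChange Y.hom (Neron.genPt R) _ g (IsPullback.of_hasPullback _ _) x (hkY _)
  obtain ⟨ω₀, hω₀i, hω₀, t, ht⟩ := exists_canonical_dual_curve (k := K) (X := C) hCd hkC
  let ωC := (Scheme.Modules.pullback g).obj ω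
  have heω : Nonempty (ωC ≅ ω₀) := by
    let pZ := pullback.fst q (Neron.genPt R)
    let q' := pullback.snd q (Neron.genPt R)
    let i' : C ⟶ pullback q (Neron.genPt R) :=
      pullback.lift (g ≫ i) (pullback.snd Y.hom (Neron.genPt R)) (by rw [Category.assoc, hfac, pullback.condition])
    have HS : IsPullback pZ q' q (Neron.genPt R) := IsPullback.of_hasPullback _ _
    have hall : IsPullback g (i' ≫ q') (i ≫ q) (Neron.genPt R) := by
      rw [pullback.lift_snd, hfac]
      exact IsPullback.of_hasPullback _ _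
    have H : IsPullback g i' i pZ := IsPullback.of_bot hall (pullback.lift_fst _ _ _).symm HS
    haveI : IsImmersion i' := MorphismProperty.of_isPullback H hreg.1
    haveI : IsLocallyNoetherian (pullback q (Neron.genPt R)) := LocallyOfFiniteType.isLocallyNoetherian q'
    haveI : QuasiCompact i' := quasiCompact_of_immersion i'
    haveI : Flat (i ≫ q) := hfac ▸ inferInstance
    obtain ⟨hC', hvia'⟩ := exists_via_baseChange H HS (isQuasiOfCodim_of_regular hreg) (Or.inl inferInstance) hvia
    obtain ⟨Z₀, i₀, q₀, c₀, m₀, hfac₀, hreg₀, hn₀, hqc₀, hqs₀, hvia₀⟩ := hω₀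
    haveI := hreg₀.1
    haveI : Smooth q₀ := SmoothOfRelativeDimension.smooth m₀ q₀
    haveI := smoothOfRelativeDimension_isStableUnderBaseChange (n := m)
    haveI : SmoothOfRelativeDimension m q' := MorphismProperty.of_isPullback (P := @SmoothOfRelativeDimension m) HS hn
    refine nonempty_iso_of_via i' q' i₀ q₀ ?_ hC'
      (isFinLocFreeOfRank_conormal_of_quasi i₀ (isQuasiOfCodim_of_regular hreg₀)) hvia' hvia₀
    rw [pullback.lift_snd, hfac₀]
    rfl
  -- an inverse
  obtain ⟨N, hN, ⟨eN⟩⟩ := H11Sym.exists_inverse hamp.1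
  let e : CohB1.tensorMod ω N ≅ Coh.structureModule Y.left := H10Coh.Tw.commIso _ _ ≪≫ eN
  let NC := (Scheme.Modules.pullback g).obj N
  have hωC : PicF.IsInvertible ωC := H11Ample.isInvertible_pullback g hamp.1
  have hNC : PicF.IsInvertible NC := H11Ample.isInvertible_pullback g hN
  haveI := H28Int.isNoetherian K (X := C)
  have hdeg : H28Int.D K [NC] (Coh.structureModule C) = -2 * Curv2.euler K C (Coh.structureModule C) := by
    let eC : CohB1.tensorMod ωC NC ≅ Coh.structureModule C :=
      ((H16Derived.KFlat.Stalk.pullTensorLIso g N).app ω).symm ≪≫ (Scheme.Modules.pullback g).mapIso e ≪≫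
        H16Derived.KFlat.Stalk.structurePullbackIso g
    have h1 := H28Vert.D_flip K (l := []) (by simp) hωC hNC eC hCd.le
    have h2 := euler_canonical_curve hω₀i ht
    rw [H28Int.eulerCharLE_eq K hCd.le (H11Ample.isCoh_of_isInvertible hω₀i).1,
      H28Int.eulerCharLE_eq K hCd.le H10Coh.isQuasicoherent_unit] at h2
    obtain ⟨eω⟩ := heω
    have h3 : H28Int.D K [ωC] (Coh.structureModule C) =
        Curv2.euler K C (Coh.structureModule C) - Curv2.euler K C ω₀ := by
      show Curv2.euler K C _ - Curv2.euler K C (CohB1.tensorMod ωC _) = _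
      rw [H25Euler.euler_congr (H10Coh.Tw.rightUnitIso ωC ≪≫ eω)]
    rw [h3, h2] at h1
    linarith [h1]
  -- the closed fibre
  obtain ⟨n, Γ, hΓ⟩ := exists_isComponentList' hd
  let Ys := pullback Y.hom (closedPt R)
  let b := pullback.fst Y.hom (closedPt R)
  haveI := H28Int.isNoetherian k (X := Ys)
  let Nb := (Scheme.Modules.pullback b).obj N
  have hNb : ∀ A ∈ [Nb], PicF.IsInvertible A := by simpa using H11Ample.isInvertible_pullback b hN
  have hflO : FlatMod.IsFlatOver Y.hom (Coh.structureModule Y.left) := fun x =>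
    (H06EGA9.isFlatOverAt_structureModule_iff Y.hom x).2 (Flat.stalkMap Y.hom x)
  have hFP : ∀ M : Y.left.Modules, PicF.IsInvertible M →
      CohB1.IsFP M ∧ FlatMod.IsFlatOver Y.hom M := fun M hM => by
    have eM := H10Coh.Tw.leftUnitIso M
    exact ⟨H16Derived.KFlat.Stalk.isFP_of_iso eM (H22Alg.SnapperConst.isFP_tensor H06EGA9.isFP_structureModule hM),
      fun x => H16Derived.BaseChange.isFlatOverAt_of_iso eM (H12Pic.AlgEquivEuler.isFlatOverAt_tensor Y.hom hM (hflO x))⟩
  have hbc : ∀ M : Y.left.Modules, PicF.IsInvertible M →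
      Curv2.euler k Ys ((Scheme.Modules.pullback b).obj M) = Curv2.euler K C ((Scheme.Modules.pullback g).obj M) :=
    fun M hM => H28Bc.euler_eq_euler Y.hom M (H11Ample.isCoh_of_isInvertible hM)
      (hFP M hM).2 (hFP M hM).1 b (closedPt R)
      (IsPullback.of_hasPullback _ _) g (Neron.genPt R) (IsPullback.of_hasPullback _ _)
  have hO : H28Int.D k [Nb] (Coh.structureModule Ys) = H28Int.D K [NC] (Coh.structureModule C) := by
    show Curv2.euler k Ys _ - Curv2.euler k Ys (CohB1.tensorMod Nb _) =
      Curv2.euler K C _ - Curv2.euler K C (CohB1.tensorMod NC _)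
    rw [H25Euler.euler_congr (H10Coh.Tw.rightUnitIso Nb), H25Euler.euler_congr (H10Coh.Tw.rightUnitIso NC),
      hbc N hN,
      ← H25Euler.euler_congr (H16Derived.KFlat.Stalk.structurePullbackIso b),
      ← H25Euler.euler_congr (H16Derived.KFlat.Stalk.structurePullbackIso g),
      hbc _ (H28Int.isInvertible_structureModule Y.left)]
  have hmain := H28Vert.eq_sum_len (fun l => toFibre (Γ l)) (fun l => (Γ l).dim_eq) (exists_mem_range_toFibre hΓ)
    (fun l m hlm h => by
      obtain ⟨z, hz⟩ := h
      refine genPt_notMem_range hΓ hlm ⟨z, ?_⟩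
      rw [← toFibre_fst (Γ l), ← toFibre_fst (Γ m)]
      exact congrArg b hz)
    (isAddFn_D k [Nb] hNb) (fun F hF hdF => D_eq_zero k [Nb] hNb F hF hdF) (Coh.structureModule Ys)
    (H10Coh.isCoh_structureModule' Ys)
  rw [hO, hdeg] at hmain
  show _ ≤ -2 * FGA.eulerCharLE K C (Coh.structureModule C) 1
  rw [H28Int.eulerCharLE_eq K (X := C) hCd.le H10Coh.isQuasicoherent_unit,
    show Set.ncard (Models.fibreComponents R Y) = n by
      rw [← hΓ.2, Set.ncard_range_of_injective hΓ.1, Nat.card_fin], hmain]
  have hle : ∀ l, (1 : ℤ) ≤ ((len ((toFibre (Γ l)) (genericPoint (Γ l).curve.left))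
      (Coh.structureModule Ys)).toNat : ℤ) *
        H28Int.D k [Nb] ((Coh.push (toFibre (Γ l))).obj (Coh.structureModule (Γ l).curve.left)) := by
    intro l
    rw [← inter_eq_D (Γ l) e]
    haveI := isProper_curve (Γ l)
    haveI : IsProper ((Γ l).curve.left ↘ Spec (CommRingCat.of k)) := inferInstanceAs (IsProper (Γ l).curve.hom)
    haveI := (Γ l).isIntegral
    have hpos : (1 : ℤ) ≤ ArSurf.inter R Y ω (Γ l) := by
      have h := H22Alg.CurveAmple.deg_pos_of_ample (k := k) (Γ l).dim_eq
        (H11Ample.isAmple_pullback_of_isAffineHom (Γ l).ι hamp)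
      have h' : (0 : ℤ) < ArSurf.inter R Y ω (Γ l) := by
        refine lt_of_lt_of_eq h ?_
        show _ = FGA.eulerCharLE _ _ _ 1 - FGA.eulerCharLE _ _ _ 1
        rw [H28Int.eulerCharLE_eq k (Γ l).dim_eq.le
            (H11Ample.isCoh_of_isInvertible (H11Ample.isInvertible_pullback (Γ l).ι hamp.1)).1,
          H28Int.eulerCharLE_eq k (Γ l).dim_eq.le H10Coh.isQuasicoherent_unit, Curv2.deg, Nat.cast_one, one_mul]
      omega
    have hlen : 1 ≤ (len ((toFibre (Γ l)) (genericPoint (Γ l).curve.left)) (Coh.structureModule Ys)).toNat := by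
      let ξ : Ys := (toFibre (Γ l)) (genericPoint (Γ l).curve.left)
      have hfin : len ξ (Coh.structureModule Ys) ≠ ⊤ := by
        refine (H28Vert.sum_len_le (fun m => toFibre (Γ m)) (dim_fibre_le hd) (fun m => (Γ m).dim_eq)
          (fun a m hlm h => by
            obtain ⟨z, hz⟩ := h
            refine genPt_notMem_range hΓ hlm ⟨z, ?_⟩
            rw [← toFibre_fst (Γ a), ← toFibre_fst (Γ m)]
            exact congrArg b hz)
          (ψ := fun _ => (0 : ℤ)) ?_ (fun F _ _ => rfl) (fun Z i _ _ _ => le_rfl) (Coh.structureModule Ys)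
          (H10Coh.isCoh_structureModule' Ys)).1 l
        exact ⟨fun _ => rfl, fun _ _ _ _ _ => (add_zero (0 : ℤ)).symm⟩
      have hne : len ξ (Coh.structureModule Ys) ≠ 0 := by
        rw [len_structure_eq, ne_eq, Module.length_eq_zero_iff, Submodule.Quotient.subsingleton_iff]
        intro htop
        have hξ : Y.hom (b ξ) = IsLocalRing.closedPoint R := by
          rw [← Scheme.Hom.comp_apply, pullback.condition, Scheme.Hom.comp_apply]
          exact IsLocalRing.PrimeSpectrum.comap_residue R _
        obtain ⟨ϖ, hϖ⟩ := IsDiscreteValuationRing.exists_irreducible R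
        refine (notMem_specialFibreSet_iff hϖ (b ξ)).2 ?_ hξ
        rw [hϖ.maximalIdeal_eq, Ideal.map_span, Set.image_singleton, Ideal.span_singleton_eq_top] at htop
        exact htop
      exact Nat.one_le_iff_ne_zero.2 fun h => (ENat.toNat_eq_zero.1 h).elim hne hfin
    calc (1 : ℤ) = 1 * 1 := (one_mul 1).symm
      _ ≤ _ := mul_le_mul (by exact_mod_cast hlen) hpos zero_le_one (Nat.cast_nonneg _)
  calc (n : ℤ) = ∑ _l : Fin n, (1 : ℤ) := by simp
    _ ≤ _ := Finset.sum_le_sum fun l _ => hle l

end Groth.Agent.H17.CanonSm
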