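import Groth.Agent.H28Vert.TrivGeneric
import Groth.Agent.H28Vert.PicVert
import Groth.Agent.H28Vert.PicInter
import Groth.Agent.H22Alg.KosTwist

/-!
# Invertible modules trivial off a component of the closed fibre
-/

set_option autoImplicit false
set_option linter.style.haveILetI false
set_option linter.unusedSectionVars false
set_option backward.isDefEq.respectTransparency.types false
set_option synthInstance.maxHeartbeats 400000
set_option maxHeartbeats 3200000

universe u

open CategoryTheory CategoryTheory.Limits AlgebraicGeometry Opposite TopologicalSpace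
open Groth.Agent.H28Vert

namespace Groth.Agent.H17.CanonSm

attribute [local instance] picLaw

variable {R : Type u} [CommRing R] [IsDomain R] [IsDiscreteValuationRing R]
  {X : Over (Spec (CommRingCat.of R))} [IsLocallyNoetherian X.left] [Flat X.hom] [IsProper X.hom]
  [IsIntegral X.left] {n : ℕ} {Γ : Fin n → ArSurf.VertComp R X}
  (hreg : Models.IsRegularScheme X.left) (hΓ : Models.IsComponentList R X Γ)

include hreg hΓ in
/-- Powers of the maximal ideal at the generic point of a component are distinct. -/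
theorem pow_maximalIdeal_inj (l : Fin n) {a b : ℕ}
    (h : IsLocalRing.maximalIdeal (X.left.presheaf.stalk (Models.genPtOf R X (Γ l))) ^ a =
      IsLocalRing.maximalIdeal (X.left.presheaf.stalk (Models.genPtOf R X (Γ l))) ^ b) : a = b := by
  let ξ := Models.genPtOf R X (Γ l)
  haveI := (ufd_stalk hreg ξ).1
  haveI : IsNoetherianRing (X.left.presheaf.stalk ξ) := (hreg ξ).toIsNoetherian
  let m := IsLocalRing.maximalIdeal (X.left.presheaf.stalk ξ)
  have hne0 : m ≠ ⊥ := by
    intro h0
    obtain ⟨ϖ, hϖ⟩ := IsDiscreteValuationRing.exists_irreducible R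
    refine stalkHom_ne_zero (X := X) hϖ.ne_zero ξ ?_
    have hm : Models.stalkHom R X ξ ϖ ∈ m := fun hu =>
      (notMem_specialFibreSet_iff hϖ ξ).2 hu
        ((hΓ.2 ▸ ⟨l, rfl⟩ : Set.range (Γ l).ι.base ∈ Models.fibreComponents R X).1.2 ⟨_, rfl⟩)
    rw [h0] at hm
    exact Ideal.mem_bot.1 hm
  have key : ∀ a b : ℕ, a < b → m ^ a ≠ m ^ b := fun a b hab heq => by
    have hle : m ^ a ≤ m • (m ^ a) := by
      rw [smul_eq_mul, ← pow_succ']
      exact heq.le.trans (Ideal.pow_le_pow_right hab)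
    exact pow_ne_zero a hne0
      (Submodule.eq_bot_of_le_smul_of_le_jacobson_bot m (m ^ a) (IsNoetherian.noetherian _) hle
        (IsLocalRing.maximalIdeal_le_jacobson _))
  rcases lt_trichotomy a b with h1 | h1 | h1
  · exact absurd h (key _ _ h1)
  · exact h1
  · exact absurd h.symm (key _ _ h1)

include hΓ in
/-- The stalk of a vertical divisor at the generic point of a component. -/
theorem stalkId_divIdeal_genPt (l : Fin n) (a : Fin n → ℕ) (V : X.left.affineOpens)
    (hV : Models.genPtOf R X (Γ l) ∈ V.1) :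
    stalkId (∏ j, (Γ j).ι.ker ^ a j) V hV =
      IsLocalRing.maximalIdeal (X.left.presheaf.stalk (Models.genPtOf R X (Γ l))) ^ a l := by
  classical
  rw [stalkId_prod Finset.univ, Finset.prod_eq_single l (fun j _ hjl => ?_) (fun h => absurd (Finset.mem_univ l) h),
    stalkId_ker_genPt l V hV]
  have h1 : stalkId (Γ j).ι.ker V hV = ⊤ := by
    refine H29Blow.map_germ_eq_top_of_notMem_support _ _ V hV fun h' => genPt_notMem_range hΓ (Ne.symm hjl) ?_
    exact ((Γ j).ι.support_ker.trans (Γ j).ι.isClosedEmbedding.isClosed_range.closure_eq).subset h'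
  rw [h1, Ideal.top_pow]
  exact Ideal.one_eq_top.symm

include hreg hΓ in
/-- An invertible module trivial off a component of the closed fibre is a power of the ideal of the component. -/
theorem cls_eq_zpow_of_gen (i : Fin n) (U : X.left.Opens)
    (hU : ∀ z : X.left, z ∉ Set.range (Γ i).ι.base → z ∈ U) {M : X.left.Modules} (hM : PicF.IsInvertible M)
    {e : Γ(M, U)} (he : H11Tilde.IsGen M e) :
    ∃ c : ℤ, PicGrp.cls M hM = idealCls (isEffCartierIdeal_ker hreg hΓ i) ^ c := by
  classical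
  obtain ⟨ϖ, hϖ⟩ := IsDiscreteValuationRing.exists_irreducible R
  haveI : CompactSpace X.left := QuasiCompact.compactSpace_of_compactSpace X.hom
  haveI : QuasiSeparatedSpace X.left := (quasiSeparated_iff_quasiSeparatedSpace X.hom).1 inferInstance
  haveI : ∀ x : X.left, IsDomain (X.left.presheaf.stalk x) := fun x => (ufd_stalk hreg x).1
  let φ : Γ(X.left, ⊤) := Coh.toGlobal X.hom ϖ
  let D := X.left.basicOpen φ
  have hnot : ∀ (j : Fin n) (z : X.left), z ∈ Set.range (Γ j).ι.base → z ∈ Models.specialFibreSet R X :=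
    fun j z hz => (hΓ.2 ▸ ⟨j, rfl⟩ : Set.range (Γ j).ι.base ∈ Models.fibreComponents R X).1.2 hz
  have hmem : ∀ x : X.left, x ∈ D ↔ IsUnit (Models.stalkHom R X x ϖ) :=
    fun x => mem_basicOpen_uniformizer R X.hom ϖ x
  have hD : D ≤ U := fun x hx => hU x fun h => (notMem_specialFibreSet_iff hϖ x).2 ((hmem x).1 hx) (hnot i x h)
  let e' : Γ(M, D) := M.presheaf.map (homOfLE hD).op e
  have he' : H11Tilde.IsGen M e' := he.res hD
  haveI : M.IsQuasicoherent := (H11Ample.isCoh_of_isInvertible hM).1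
  obtain ⟨N, s, hs⟩ := H10Coh.exists_pow_smul_eq_res_of_isCompact M (W := ⊤) (by simpa using isCompact_univ) φ e'
  -- the coefficient on `U`
  obtain ⟨c, hc⟩ := H11Ample.exists_coeff he (M.presheaf.map (homOfLE (le_top : U ≤ ⊤)).op s)
  obtain ⟨M', hM', ⟨ε⟩⟩ := H11Sym.exists_inverse hM
  let μ : M' ⟶ Coh.structureModule X.left := H22Alg.KosTwist.mulHom M' s ≫ ε.hom
  have himg : ∀ (y : X.left) (hy : y ∈ U), imGerm μ y = Ideal.span {X.left.presheaf.germ U y hy c} := by
    intro y hy
    obtain ⟨W₀, f, hyW₀, hf⟩ := H11Ample.exists_gen hM' y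
    let W := W₀ ⊓ U
    have hfW : H11Tilde.IsGen M' (M'.presheaf.map (homOfLE (inf_le_left : W ≤ W₀)).op f) := hf.res _
    have heW : H11Tilde.IsGen M (M.presheaf.map (homOfLE (inf_le_right : W ≤ U)).op e) := he.res _
    have hg := H11Tilde.IsGen.map_iso ε (H11Ample.isGen_tm hfW heW)
    have hsW : M.presheaf.map (homOfLE (le_top : W ≤ ⊤)).op s =
        X.left.presheaf.map (homOfLE (inf_le_right : W ≤ U)).op c • M.presheaf.map (homOfLE (inf_le_right : W ≤ U)).op e := by
      rw [← Scheme.Modules.map_smul, ← hc, H10Coh.mres_mres]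
    rw [imGerm_eq_span μ hfW y ⟨hyW₀, hy⟩]
    have hμ : μ.app W (M'.presheaf.map (homOfLE (inf_le_left : W ≤ W₀)).op f) =
        X.left.presheaf.map (homOfLE (inf_le_right : W ≤ U)).op c • ε.hom.app W
          (H11Ample.tm (M'.presheaf.map (homOfLE (inf_le_left : W ≤ W₀)).op f)
            (M.presheaf.map (homOfLE (inf_le_right : W ≤ U)).op e)) := by
      show ε.hom.app W ((H22Alg.KosTwist.mulHom M' s).app W _) = _
      rw [H22Alg.KosTwist.mulHom_app, hsW, H11Ample.tm_smul_right, Scheme.Modules.Hom.app_smul]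
    rw [hμ]
    let u : Γ(X.left, W) := ε.hom.app W
          (H11Ample.tm (M'.presheaf.map (homOfLE (inf_le_left : W ≤ W₀)).op f)
            (M.presheaf.map (homOfLE (inf_le_right : W ≤ U)).op e))
    have hu : IsUnit u := by
      obtain ⟨r, hr⟩ := (hg.bijective (le_refl W)).2 (1 : Γ(X.left, W))
      refine IsUnit.of_mul_eq_one_right r ?_
      have h1 : r * u = (1 : Γ(X.left, W)) := by
        refine Eq.trans ?_ hr
        exact congrArg (r • ·) (H10Coh.mres_self (Coh.structureModule X.left) le_rfl u).symm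
      exact h1
    show Ideal.span {X.left.presheaf.germ W y ⟨hyW₀, hy⟩ (X.left.presheaf.map (homOfLE (inf_le_right : W ≤ U)).op c * u)} = _
    rw [map_mul, TopCat.Presheaf.germ_res_apply, Ideal.span_singleton_mul_right_unit (hu.map (X.left.presheaf.germ W y ⟨hyW₀, hy⟩).hom)]
  have hcD : X.left.presheaf.map (homOfLE hD).op c = (X.left.presheaf.map (homOfLE (X.left.basicOpen_le φ)).op φ) ^ N := by
    refine (he'.bijective (le_refl D)).1 ?_
    show X.left.presheaf.map (homOfLE hD).op c • M.presheaf.map (homOfLE (le_refl D)).op e' =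
      (X.left.presheaf.map (homOfLE (X.left.basicOpen_le φ)).op φ) ^ N • M.presheaf.map (homOfLE (le_refl D)).op e'
    rw [H10Coh.mres_self, ← map_pow]
    refine Eq.trans ?_ hs
    show _ • M.presheaf.map (homOfLE hD).op e = _
    rw [← Scheme.Modules.map_smul, ← hc, H10Coh.mres_mres]
  have hcgerm : ∀ (y : X.left) (hy : y ∈ U),
      X.left.presheaf.germ U y hy c = Models.stalkHom R X y ϖ ^ N := by
    intro y hy
    have h1 : c = (X.left.presheaf.map (homOfLE (le_top : U ≤ ⊤)).op φ) ^ N := by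
      haveI : Nonempty U := ⟨⟨y, hy⟩⟩
      haveI : Nonempty D := by
        obtain ⟨z, hz⟩ : ∃ z : X.left, z ∈ D := ⟨genericPoint X.left, (hmem _).2
          (Ne.isUnit (stalkHom_ne_zero hϖ.ne_zero (genericPoint X.left)) : IsUnit (Models.stalkHom R X (genericPoint X.left) ϖ : X.left.functionField))⟩
        exact ⟨⟨z, hz⟩⟩
      refine map_injective_of_isIntegral X.left (homOfLE hD) ?_
      refine hcD.trans ?_
      rw [map_pow, ← CategoryTheory.comp_apply, ← X.left.presheaf.map_comp]
      rfl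
    rw [h1, map_pow, TopCat.Presheaf.germ_res_apply]
    rfl
  have hone : ∀ y : X.left, y ∈ D → imGerm μ y = ⊤ := fun y hy => by
    rw [himg y (hD hy), hcgerm y (hD hy), Ideal.span_singleton_eq_top]
    exact ((hmem y).1 hy).pow N
  have hne : ∀ y : X.left, imGerm μ y ≠ ⊥ := fun y h0 => by
    obtain ⟨W, f, hyW, hf⟩ := H11Ample.exists_gen hM' y
    let cc : Γ(X.left, W) := μ.app W f
    rw [imGerm_eq_span μ hf y hyW, Ideal.span_singleton_eq_bot] at h0
    change X.left.presheaf.germ W y hyW cc = 0 at h0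
    have hη : genericPoint X.left ∈ W := (genericPoint_spec X.left).mem_open_set_iff W.2 |>.2 ⟨y, trivial, hyW⟩
    have h2 := hone (genericPoint X.left) ((hmem _).2
      (Ne.isUnit (stalkHom_ne_zero hϖ.ne_zero (genericPoint X.left)) : IsUnit (Models.stalkHom R X (genericPoint X.left) ϖ : X.left.functionField)))
    rw [imGerm_eq_span μ hf _ hη, Ideal.span_singleton_eq_top] at h2
    change IsUnit (X.left.presheaf.germ W (genericPoint X.left) hη cc) at h2
    haveI : Nonempty W := ⟨⟨y, hyW⟩⟩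
    have h3 : cc = 0 := germ_injective_of_isIntegral X.left y hyW (h0.trans (map_zero (X.left.presheaf.germ W y hyW).hom).symm)
    rw [h3, map_zero] at h2
    exact not_isUnit_zero h2
  obtain ⟨I, hI, ⟨ι⟩, hIs⟩ := exists_ideal_of_hom hM' μ hne
  obtain ⟨a, ha⟩ := exists_exponent (Z := X) hreg hΓ I hI fun y V hy hys => by
    rw [hIs]
    exact hone y ((hmem y).2 ((notMem_specialFibreSet_iff hϖ y).1 hys))
  have haj : ∀ j, j ≠ i → a j = N * Models.mult R X (Γ j) := fun j hj => by
    let ξ := Models.genPtOf R X (Γ j)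
    have hξ : ξ ∈ U := hU ξ (genPt_notMem_range hΓ hj)
    obtain ⟨V, hV, hξV, -⟩ := exists_isAffineOpen_mem_and_subset (U := (⊤ : X.left.Opens)) (x := ξ) trivial
    refine pow_maximalIdeal_inj hreg hΓ j ?_
    have h1 := hIs ξ ⟨V, hV⟩ hξV
    rw [himg ξ hξ, hcgerm ξ hξ] at h1
    rw [ha] at h1
    have hm : IsLocalRing.maximalIdeal (X.left.presheaf.stalk ξ) ^ Models.mult R X (Γ j) =
        Ideal.span {Models.stalkHom R X ξ ϖ} := by
      have h2 := stalkId_divIdeal_genPt hΓ j (fun l => Models.mult R X (Γ l)) ⟨V, hV⟩ hξV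
      rw [← h2, ← specialFibreIdeal_eq_prod hreg hΓ, specialFibreIdeal_stalk ⟨V, hV⟩ hξV, hϖ.maximalIdeal_eq,
        Ideal.map_span, Set.image_singleton]
    rw [pow_mul', hm, Ideal.span_singleton_pow, ← stalkId_divIdeal_genPt hΓ j a ⟨V, hV⟩ hξV]
    exact h1
  refine ⟨(Models.mult R X (Γ i) : ℤ) * N - a i, ?_⟩
  have hcls : PicGrp.cls M' hM' = ∏ j, idealCls (isEffCartierIdeal_ker hreg hΓ j) ^ a j := by
    rw [← idealCls_prod Finset.univ (fun j => (Γ j).ι.ker) (fun j => isEffCartierIdeal_ker hreg hΓ j)]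
    refine (PicGrp.cls_eq_cls_iff hM' _).2 ⟨ι ≪≫ eqToIso (congrArg ClSub.idealMod ha)⟩
  have hfib := congrArg (· ^ N) (prod_idealCls_mult (R := R) (X := X) hreg hΓ)
  simp only [one_pow, ← Finset.prod_pow, ← pow_mul] at hfib
  let Q := fun j => idealCls (isEffCartierIdeal_ker hreg hΓ j)
  have hsplit : (∏ j, Q j ^ a j) * Q i ^ (Models.mult R X (Γ i) * N) = Q i ^ a i := by
    rw [← Finset.prod_erase_mul Finset.univ _ (Finset.mem_univ i), mul_right_comm]
    have : ∏ j ∈ Finset.univ.erase i, Q j ^ a j =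
        ∏ j ∈ Finset.univ.erase i, Q j ^ (Models.mult R X (Γ j) * N) :=
      Finset.prod_congr rfl fun j hj => by rw [haj j (Finset.ne_of_mem_erase hj), Nat.mul_comm]
    rw [this, Finset.prod_erase_mul Finset.univ (fun j => Q j ^ (Models.mult R X (Γ j) * N)) (Finset.mem_univ i)]
    show (∏ j, Q j ^ (Models.mult R X (Γ j) * N)) * _ = _
    rw [hfib, one_mul]
  have hinv : PicGrp.cls M hM = (PicGrp.cls M' hM')⁻¹ :=
    (PicGrp.cls_inv_eq_cls hM' hM ⟨ε⟩).symm
  rw [hinv, hcls]
  show (∏ j, Q j ^ a j)⁻¹ = Q i ^ _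
  rw [zpow_sub, ← Nat.cast_mul, zpow_natCast, zpow_natCast, ← hsplit]
  group

end Groth.Agent.H17.CanonSm
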