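import Groth.Agent.H17.Canon.VertAdj
import Groth.Agent.H17.Canon.PrincipalOff
import Groth.Agent.H17.Reduced
import Groth.Agent.H28Contr.ExcGlobal
import Groth.Agent.H28Contr.Dominate
import Groth.Agent.H28Vert.VertGroup
import Groth.Agent.H28Vert.CompList2
import Groth.Agent.H28Vert.ExcNum
import Groth.Agent.H28Vert.SmoothRelMin
import Groth.Agent.H18Subtr.OverValuation
import Groth.Agent.H12Pic.OpenLine.Main
import Groth.Agent.H13CI.ExcSmooth
import Groth.Agent.S2348

/-!
# The canonical sheaf of the blow-up of an arithmetic surface in a closed point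
-/

set_option autoImplicit false
set_option linter.style.haveILetI false
set_option backward.isDefEq.respectTransparency false
set_option synthInstance.maxHeartbeats 400000
set_option maxHeartbeats 3200000

universe u

open CategoryTheory CategoryTheory.Limits AlgebraicGeometry Opposite TopologicalSpace

namespace Groth.Agent.H17.CanonSm

attribute [local instance] H28Vert.picLaw

/-- An open immersion is a regular immersion of codimension zero. -/
theorem regImm_of_isOpenImmersion {V X : Scheme.{u}} (j : V ⟶ X) [IsOpenImmersion j] :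
    RegImm.IsRegularImmersionOfCodim RegImm.Kind.regular 0 j := by
  refine ⟨inferInstance, fun z => ?_⟩
  obtain ⟨U, hU, hzU, hle⟩ := exists_isAffineOpen_mem_and_subset (X := X) (x := j z) (U := j.opensRange) ⟨z, rfl⟩
  haveI : IsIso (j ∣_ U) := by
    haveI : IsOpenImmersion (j ∣_ U) := IsZariskiLocalAtTarget.restrict ‹IsOpenImmersion j› U
    haveI : Surjective (j ∣_ U) := ⟨fun y => by
      obtain ⟨w, hw⟩ := hle y.2
      exact ⟨⟨w, show j w ∈ U from hw ▸ y.2⟩, Subtype.ext ((morphismRestrict_base_coe j U _).trans hw)⟩⟩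
    exact isIso_iff_isOpenImmersion_and_epi_base (j ∣_ U) |>.mpr
      ⟨inferInstance, (TopCat.epi_iff_surjective _).2 (j ∣_ U).surjective⟩
  haveI : Nontrivial Γ(X, U) := (X.presheaf.germ U (j z) hzU).hom.domain_nontrivial
  refine ⟨⟨U, hU⟩, hzU, inferInstance, [], rfl, ⟨RingTheory.Sequence.IsWeaklyRegular.nil _ _, ?_⟩, ?_⟩
  · intro h
    have h' : (⊤ : Ideal Γ(X, U)) = ⊥ := by simpa using h
    exact one_ne_zero ((Submodule.mem_bot _).1 (h' ▸ Submodule.mem_top) : (1 : Γ(X, U)) = 0)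
  · rw [Ideal.ofList_nil]
    haveI : IsIso (j.app U) := by
      refine Scheme.Hom.isIso_app j U fun x hx => ?_
      exact hle hx
    exact (RingHom.injective_iff_ker_eq_bot _).1 (ConcreteCategory.bijective_of_isIso (j.app U)).1

/-- The pullback of a canonical sheaf to an integral open is canonical through the composite immersion. -/
theorem exists_via_pullback_open {S X V : Scheme.{u}} [IsLocallyNoetherian S] [IsIntegral V] {pX : X ⟶ S}
    (j : V ⟶ X) [IsOpenImmersion j] {ω : X.Modules} (hω : Canon.IsCanonical pX ω) :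
    ∃ (Z : Scheme.{u}) (i : V ⟶ Z) (g : Z ⟶ S) (c n : ℕ) (_ : IsImmersion i) (_ : QuasiCompact i)
      (_ : QuasiSeparated g) (_ : SmoothOfRelativeDimension n g), i ≫ g = j ≫ pX ∧
        FlatMod.IsFinLocFreeOfRank c (Omega.conormal i) ∧
        Canon.IsCanonicalVia i g c n ((Scheme.Modules.pullback j).obj ω) := by
  obtain ⟨Z, i, g, c, n, hfac, hreg, hn, hqc, hqs, hvia⟩ := hω
  haveI := hreg.1
  haveI : Smooth g := SmoothOfRelativeDimension.smooth n g
  haveI : IsLocallyNoetherian Z := LocallyOfFiniteType.isLocallyNoetherian g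
  haveI : QuasiSeparated pX := hfac ▸ inferInstance
  haveI : IsLocallyNoetherian X := LocallyOfFiniteType.isLocallyNoetherian i
  haveI : QuasiCompact j := quasiCompact_of_immersion j
  haveI : QuasiCompact (j ≫ i) := inferInstance
  have hι := regImm_of_isOpenImmersion j
  have hjk : RegImm.IsRegularImmersion .koszul (j ≫ i) :=
    S8654.result i j ((S8905.result i).1 (regImm_of_ofCodim hreg)) ((S8905.result j).1 (regImm_of_ofCodim hι))
  have hjq : RegImm.IsRegularImmersion .quasi (j ≫ i) :=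
    (S8905.result (j ≫ i)).2.2 ((S8905.result (j ≫ i)).2.1 hjk)
  obtain ⟨c₃, hC₃⟩ := exists_rank (genericPoint V)
    (fun W x hx => ((genericPoint_spec V).mem_open_set_iff W.isOpen).2 ⟨x, trivial, hx⟩)
    (H29Ref.ConormalQReg.isFinLocFree_conormal_of_quasi (j ≫ i) hjq.2)
  have hr₃ := regImm_ofCodim_of_rank (j ≫ i) ((S5003.result (j ≫ i)).2 hjq) hC₃
  obtain ⟨ω₃, hω₃, -⟩ := exists_via (n := n) (j ≫ i) g hC₃
  haveI : SmoothOfRelativeDimension 0 (𝟙 X) := inferInstance
  obtain ⟨DC, hDC⟩ := H22Alg.ExtPowSheaf.exists_isExtPow 0 (isQCoh_conormal' j)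
  obtain ⟨DΩ, hDΩ⟩ := H22Alg.ExtPowSheaf.exists_isExtPow 0 (H29Omega.isQCoh_sheaf (𝟙 X))
  obtain ⟨eC⟩ := H22Alg.ExtPowHom.nonempty_iso (H22Alg.KExists.isExtPow_zero (Omega.conormal j)) hDC
  obtain ⟨eΩ⟩ := H22Alg.ExtPowHom.nonempty_iso (H22Alg.KExists.isExtPow_zero (Omega.sheaf (𝟙 X))) hDΩ
  have hω₁ : Canon.IsCanonicalVia j (𝟙 X) 0 0 (Coh.structureModule V) :=
    ⟨DC, DΩ, hDC, hDΩ, ⟨H10Coh.Tw.leftUnitIso DC ≪≫ eC.symm ≪≫
      (H16Derived.KFlat.Stalk.structurePullbackIso j).symm ≪≫ (Scheme.Modules.pullback j).mapIso eΩ⟩⟩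
  obtain ⟨e⟩ := nonempty_iso_comp (f := j) (g := pX) j (𝟙 X) (Category.comp_id _) i g hfac (j ≫ i) g
    (by rw [Category.assoc, hfac]) hι hreg hr₃ hω₁ hvia hω₃
  obtain ⟨DC₃, DΩ₃, h1, h2, ⟨e₃⟩⟩ := hω₃
  refine ⟨Z, j ≫ i, g, c₃, n, inferInstance, inferInstance, hqs, hn, by rw [Category.assoc, hfac], hC₃, DC₃, DΩ₃, h1, h2,
    ⟨H25Theta.tI ((H10Coh.Tw.leftUnitIso _).symm ≪≫ e.symm) (Iso.refl DC₃) ≪≫ e₃⟩⟩

/-- Canonical sheaves agree on a common integral open. -/
theorem nonempty_pullback_iso_of_isCanonical {S X₁ X₂ V : Scheme.{u}} [IsLocallyNoetherian S] [IsIntegral V]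
    {p₁ : X₁ ⟶ S} {p₂ : X₂ ⟶ S} (j₁ : V ⟶ X₁) (j₂ : V ⟶ X₂) [IsOpenImmersion j₁] [IsOpenImmersion j₂]
    (h : j₁ ≫ p₁ = j₂ ≫ p₂) {ω₁ : X₁.Modules} {ω₂ : X₂.Modules} (h₁ : Canon.IsCanonical p₁ ω₁)
    (h₂ : Canon.IsCanonical p₂ ω₂) :
    Nonempty ((Scheme.Modules.pullback j₁).obj ω₁ ≅ (Scheme.Modules.pullback j₂).obj ω₂) := by
  obtain ⟨Z₁, i₁, g₁, c₁, n₁, _, _, _, _, f₁, hC₁, v₁⟩ := exists_via_pullback_open j₁ h₁
  obtain ⟨Z₂, i₂, g₂, c₂, n₂, _, _, _, _, f₂, hC₂, v₂⟩ := exists_via_pullback_open j₂ h₂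
  exact nonempty_iso_of_via i₁ g₁ i₂ g₂ (by rw [f₁, f₂, h]) hC₁ hC₂ v₁ v₂

variable {R : Type u} [CommRing R] [IsDomain R] [IsDiscreteValuationRing R]

/-- Closed points of the closed fibre of a regular surface have two-dimensional local rings. -/
theorem ringKrullDim_stalk_eq_two {Y : Over (Spec (CommRingCat.of R))} [IsIntegral Y.left] [Flat Y.hom]
    [IsProper Y.hom] (hreg : Models.IsRegularScheme Y.left) (hd : topologicalKrullDim Y.left = 2) {y : Y.left}
    (hy : IsClosed ({y} : Set Y.left)) (hys : Y.hom y = IsLocalRing.closedPoint R) :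
    ringKrullDim (Y.left.presheaf.stalk y) = 2 := by
  haveI : IsLocallyNoetherian Y.left := LocallyOfFiniteType.isLocallyNoetherian Y.hom
  refine le_antisymm ((H28Contr.ringKrullDim_stalk_le_top y).trans hd.le) ?_
  obtain ⟨n, Γ, hΓ⟩ := H28Vert.exists_isComponentList' hd
  obtain ⟨z, hz⟩ : y ∈ Set.range (pullback.fst Y.hom (H28Vert.closedPt R)) := by
    rw [Scheme.Pullback.range_fst]
    exact ⟨IsLocalRing.closedPoint _, (IsLocalRing.PrimeSpectrum.comap_residue R _).trans hys.symm⟩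
  obtain ⟨l, w, hw⟩ := H28Vert.exists_mem_range_toFibre hΓ z
  have hwy : (Γ l).ι w = y := by
    rw [← hz, ← hw, ← Scheme.Hom.comp_apply,
      show H28Vert.toFibre (Γ l) ≫ pullback.fst Y.hom (H28Vert.closedPt R) = (Γ l).ι from H28Vert.toFibre_fst _]
  let ξ := Models.genPtOf R Y (Γ l)
  have hsp : ξ ⤳ y := hwy ▸ (genericPoint_specializes w).map (Γ l).ι.continuous
  have hne : ξ ≠ y := by
    intro he
    haveI : Subsingleton (Γ l).curve.left := ⟨fun a b => by
      have h1 : ∀ c, (Γ l).ι c = y := fun c => by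
        have h2 := ((genericPoint_specializes c).map (Γ l).ι.continuous).mem_closure
        rw [show (Γ l).ι (genericPoint (Γ l).curve.left) = y from he, hy.closure_eq] at h2
        exact h2
      exact (Γ l).ι.isClosedEmbedding.injective ((h1 a).trans (h1 b).symm)⟩
    haveI : DiscreteTopology (Γ l).curve.left := inferInstance
    have h3 := topologicalKrullDim_zero_of_discreteTopology (Γ l).curve.left
    rw [(Γ l).dim_eq] at h3
    exact not_le.2 zero_lt_one h3
  have h1 := H28Contr.ringKrullDim_stalk_lt hsp hne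
  rw [H28Vert.dim_stalk_genPt hreg hΓ l] at h1
  exact Order.succ_le_of_lt h1

/-- An integral effective Cartier divisor supported on the preimage of a blown-up regular closed point of a
two-dimensional local ring is an exceptional curve of the first kind. -/
theorem isExcCurve_of_isBlowUp {Y X C : Scheme.{u}} [IsNoetherian Y] {y : Y} (hy : IsClosed ({y} : Set Y))
    (hry : IsRegularLocalRing (Y.presheaf.stalk y)) (hdy : ringKrullDim (Y.presheaf.stalk y) = 2)
    {f : X ⟶ Y} (hf : BlowUp.IsBlowUp f (Scheme.IdealSheafData.vanishingIdeal ⟨{y}, hy⟩))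
    (ι : C ⟶ X) [IsClosedImmersion ι] [IsIntegral C] (hE : Set.range (ι.base : C → X) = f.base ⁻¹' {y})
    (hEff : BlowUp.IsEffCartierIdeal ι.ker) : Models.IsExcCurve ι := by
  obtain ⟨⟨hJ, K, hK, e, hη⟩, -, hpf, -⟩ := H28Contr.isExcCurve_and_isContractionOf hy hry hdy hf
  let J := (Scheme.IdealSheafData.vanishingIdeal (⟨{y}, hy⟩ : Closeds Y)).comap f
  haveI : IsIntegral (CohB1.ProjSpace 1 K) := LeadPic.PnRel.isIntegral_projSpace (n := 1) K
  haveI : Nonempty J.subscheme := ⟨e.hom (genericPoint _)⟩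
  haveI : IsIntegral J.subscheme := isIntegral_of_isOpenImmersion e.inv
  have hsupp : (J.support : Set X) = f.base ⁻¹' {y} := by
    rw [Scheme.IdealSheafData.support_comap]
    show f.base ⁻¹' ((Scheme.IdealSheafData.vanishingIdeal ⟨{y}, hy⟩).support : Set Y) = _
    rw [Scheme.IdealSheafData.coe_support_vanishingIdeal]
    rfl
  have hk : J.subschemeι.ker = ι.ker := by
    rw [H17.ker_eq_vanishingIdeal, H17.ker_eq_vanishingIdeal]
    refine congrArg Scheme.IdealSheafData.vanishingIdeal (Closeds.ext ?_)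
    show closure (Set.range J.subschemeι) = closure (Set.range ι.base)
    rw [Scheme.IdealSheafData.range_subschemeι, hsupp, hE]
  obtain ⟨ε, hε⟩ := H13CI.ExcSmooth.exists_iso_of_ker_eq J.subschemeι ι hk
  refine ⟨hEff, K, hK, e ≪≫ ε, ?_⟩
  rw [Iso.trans_hom, Category.assoc, hε, ← hk]
  exact hη

/-- The canonical sheaf of the blow-up of a closed point. -/
theorem nonempty_canonical_blowUp_iso {Y : Over (Spec (CommRingCat.of R))} [IsIntegral Y.left] [Flat Y.hom]
    [IsProper Y.hom] (hreg : Models.IsRegularScheme Y.left) (hd : topologicalKrullDim Y.left = 2) {y : Y.left}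
    (hy : IsClosed ({y} : Set Y.left)) (hys : Y.hom y = IsLocalRing.closedPoint R)
    {X : Scheme.{u}} (f : X ⟶ Y.left)
    (hf : BlowUp.IsBlowUp f (Scheme.IdealSheafData.vanishingIdeal ⟨{y}, hy⟩))
    (E : ArSurf.VertComp R (Over.mk (f ≫ Y.hom)))
    (hE : Set.range (E.ι.base : E.curve.left → X) = f.base ⁻¹' {y})
    (L : X.Modules) (hL : ClSub.IsInverseOf L (ClSub.idealMod E.ι.ker))
    (ωY : Y.left.Modules) (hωY : Canon.IsCanonical Y.hom ωY)
    (ωX : X.Modules) (hωX : Canon.IsCanonical (f ≫ Y.hom) ωX) :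
    Nonempty (ωX ≅ CohB1.tensorMod ((Scheme.Modules.pullback f).obj ωY) L) := by
  haveI : IsLocallyNoetherian Y.left := LocallyOfFiniteType.isLocallyNoetherian Y.hom
  haveI : CompactSpace Y.left := QuasiCompact.compactSpace_of_compactSpace Y.hom
  haveI : IsNoetherian Y.left := ⟨⟩
  have hdy := ringKrullDim_stalk_eq_two hreg hd hy hys
  obtain ⟨hexc, -, hpf, -⟩ := H28Contr.isExcCurve_and_isContractionOf hy (hreg y) hdy hf
  haveI := hpf
  let P : Over (Spec (CommRingCat.of R)) := Over.mk (f ≫ Y.hom)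
  haveI : IsProper P.hom := inferInstanceAs (IsProper (f ≫ Y.hom))
  have hηy : genericPoint Y.left ≠ y := by
    intro he
    have h1 := congrArg Y.hom he
    rw [hys, H28Vert.hom_genericPoint_eq_bot] at h1
    exact IsDiscreteValuationRing.not_isField R (IsLocalRing.isField_iff_maximalIdeal_eq.2 (congrArg PrimeSpectrum.asIdeal h1).symm)
  have hI0 : Scheme.IdealSheafData.vanishingIdeal (⟨{y}, hy⟩ : Closeds Y.left) ≠ ⊥ := fun h => by
    have h1 := congrArg (fun I : Y.left.IdealSheafData => (I.support : Set Y.left)) h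
    simp only [Scheme.IdealSheafData.coe_support_vanishingIdeal, Scheme.IdealSheafData.support_bot] at h1
    exact hηy (h1.ge (Set.mem_univ (genericPoint Y.left)))
  obtain ⟨hint, hgen, -⟩ := S2348.result _ hI0 f hf
  haveI := hint
  haveI : IsIntegral P.left := hint
  haveI : Flat P.hom := by
    refine H18Subtr.flat_of_isIntegral_of_map_genericPoint (Z := X) (f ≫ Y.hom) ?_
    rw [Scheme.Hom.comp_apply, hgen]
    exact H28Vert.hom_genericPoint_eq_bot
  haveI : IsLocallyNoetherian P.left := LocallyOfFiniteType.isLocallyNoetherian P.hom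
  let U : Y.left.Opens := ⟨{y}ᶜ, hy.isOpen_compl⟩
  haveI : IsIso (f ∣_ U) := H29Blow.isIso_morphismRestrict hf U fun x hx hsupp => by
    rw [← SetLike.mem_coe, Scheme.IdealSheafData.coe_support_vanishingIdeal] at hsupp
    exact hx hsupp
  -- regularity and dimension
  have hst : ∀ x : X, IsRegularLocalRing (X.presheaf.stalk x) ∧ ringKrullDim (X.presheaf.stalk x) ≤ 2 := by
    intro x
    by_cases hx : f x = y
    · subst hx
      obtain ⟨h1, h2, -⟩ := H28Contr.stepHom_stalkMap hy (hreg _) hdy hf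
      exact ⟨h1, h2⟩
    · haveI := H28Contr.isIso_stalkMap_of_restrict f U x hx
      let e := (asIso (f.stalkMap x)).commRingCatIsoToRingEquiv
      haveI := hreg (f x)
      exact ⟨IsRegularLocalRing.of_ringEquiv e, (ringKrullDim_eq_of_ringEquiv e.symm).trans_le
        ((H28Contr.ringKrullDim_stalk_le_top (f x)).trans hd.le)⟩
  have hregX : Models.IsRegularScheme P.left := fun x => (hst x).1
  have hηE : genericPoint X ∉ Set.range E.ι.base := by
    intro h
    rw [hE] at h
    exact hηy (hgen.symm.trans h)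
  have hdX : topologicalKrullDim P.left = 2 := by
    refine le_antisymm (H28Vert.topologicalKrullDim_le_of_stalks _ fun x => (hst x).2) ?_
    by_contra hlt
    rw [not_le] at hlt
    have h1 : topologicalKrullDim P.left ≤ ((1 : ℕ) : WithBot ℕ∞) := H28Vert.le_one_of_lt_two hlt
    have h2 := H28Int.dim_lt_of_notMem (X := X) (C := Set.univ) (ξ := genericPoint X) (genericPoint_spec X).def
      ((topologicalKrullDim_subspace_le X Set.univ).trans h1) E.ι.isClosedEmbedding.isClosed_range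
      (fun x _ => trivial) hηE
    rw [← IsHomeomorph.topologicalKrullDim_eq _ E.ι.isClosedEmbedding.isEmbedding.toHomeomorph.isHomeomorph,
      E.dim_eq] at h2
    exact lt_irrefl _ h2
  have hEff := isEffCartierIdeal_vert hregX hdX E
  -- the exceptional curve
  haveI := E.isIntegral
  have hexcE : Models.IsExcCurve E.ι := isExcCurve_of_isBlowUp hy (hreg y) hdy hf E.ι hE hEff
  obtain ⟨hh1, hLE⟩ := H28Vert.exc_facts (X := P) hexcE
    (H17.InvertibleTensor.isInvertible_of_tensor_iso _ _ hL.some) hL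
  have hinvL : PicF.IsInvertible L := H17.InvertibleTensor.isInvertible_of_tensor_iso _ _ hL.some
  -- degrees on the exceptional curve
  have hωXi := isInvertible_of_isCanonical hωX
  have hωYi := isInvertible_of_isCanonical hωY
  have hWi := H11Ample.isInvertible_pullback f hωYi
  have hW0 : ArSurf.inter R P ((Scheme.Modules.pullback f).obj ωY) E = 0 := by
    obtain ⟨U₀, g, hyU₀, hg⟩ := H11Ample.exists_gen hωYi y
    have htop : (⊤ : E.curve.left.Opens) ≤ (E.ι ≫ f) ⁻¹ᵁ U₀ := fun z _ => by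
      show f (E.ι z) ∈ U₀
      have h1 : E.ι z ∈ f.base ⁻¹' {y} := hE ▸ ⟨z, rfl⟩
      rw [show f (E.ι z) = y from h1]
      exact hyU₀
    obtain ⟨t⟩ := H12Pic.OpenLine.nonempty_iso_of_isGen_top _ _ ((hg.pullSect (E.ι ≫ f)).res htop)
    let t' := (Scheme.Modules.pullbackComp E.ι f).app ωY ≪≫ t
    haveI := H28Vert.isProper_curve E
    show ArSurf.curveDeg (IsLocalRing.ResidueField R) E.curve.left _ = 0
    simp only [ArSurf.curveDeg, FGA.eulerCharLE,
      show ∀ i, Module.finrank (IsLocalRing.ResidueField R) (Coh.HH E.curve.left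
          ((Scheme.Modules.pullback E.ι).obj ((Scheme.Modules.pullback f).obj ωY)) i) =
        Module.finrank (IsLocalRing.ResidueField R) (Coh.HH E.curve.left (Coh.structureModule E.curve.left) i) from
        fun i => H29CurveDual.finrank_h0_congr t' i, sub_self]
  have hωE : ArSurf.inter R P ωX E = -(Models.wdeg R P E : ℤ) := by
    have h := inter_add_inter_eq_of_regular (X := P) hregX hdX E hL hωX
    simp only [FGA.eulerCharLE, Finset.sum_range_succ, Finset.sum_range_zero, zero_add, pow_zero, pow_one] at h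
    rw [hLE] at h
    simp only [Models.h1] at hh1
    rw [show (Module.finrank (IsLocalRing.ResidueField R)
      (Coh.HH E.curve.left (Coh.structureModule E.curve.left) 1) : ℤ) = 0 by exact_mod_cast hh1] at h
    simp only [Models.wdeg] at h ⊢
    linarith
  -- a generator off the exceptional curve
  obtain ⟨n, Γ, hΓ⟩ := H28Vert.exists_isComponentList' (X := P) hdX
  obtain ⟨i, hi⟩ : Set.range E.ι.base ∈ Set.range fun i => Set.range (Γ i).ι.base := by
    rw [hΓ.2]
    exact H28Vert.mem_fibreComponents (H28Vert.dim_fibre_le hdX) E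
  have hker : (Γ i).ι.ker = E.ι.ker := by
    haveI := (Γ i).isIntegral
    rw [H17.ker_eq_vanishingIdeal, H17.ker_eq_vanishingIdeal]
    exact congrArg Scheme.IdealSheafData.vanishingIdeal (Closeds.ext (congrArg closure hi))
  let j : (U : Scheme.{u}) ⟶ X := inv (f ∣_ U) ≫ (f ⁻¹ᵁ U).ι
  have hj : j ≫ f = U.ι := by rw [Category.assoc, ← morphismRestrict_ι, IsIso.inv_hom_id_assoc]
  have hηU : genericPoint Y.left ∈ U := hηy
  haveI : Nonempty (U : Scheme.{u}) := ⟨⟨genericPoint Y.left, hηU⟩⟩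
  haveI : IsIntegral (U : Scheme.{u}) := isIntegral_of_isOpenImmersion U.ι
  obtain ⟨w⟩ := nonempty_pullback_iso_of_isCanonical j U.ι (p₁ := f ≫ Y.hom) (p₂ := Y.hom)
    (by rw [← Category.assoc, hj]) hωX hωY
  obtain ⟨W', hW', ⟨eW⟩⟩ := H11Sym.exists_inverse hWi
  have hM := H11Ample.isInvertible_tensor hωXi hW'
  obtain ⟨g₀, hg₀⟩ := H28Vert.exists_gen_of_trivial_pullback j (CohB1.tensorMod ωX W')
    ⟨H25Theta.pT j ωX W' ≪≫
      H25Theta.tI (w ≪≫ (H25Theta.pC j f hj ωY).symm) (Iso.refl _) ≪≫ (H25Theta.pT j _ W').symm ≪≫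
      (Scheme.Modules.pullback j).mapIso (H10Coh.Tw.commIso _ _ ≪≫ eW) ≪≫
      H16Derived.KFlat.Stalk.structurePullbackIso j⟩
  obtain ⟨c, hc⟩ := cls_eq_zpow_of_gen (X := P) hregX hΓ i j.opensRange (fun z hz => by
    have hz' : f z ∈ U := fun h => hz (hi.ge (hE.ge (show z ∈ f.base ⁻¹' {y} from h)))
    refine ⟨(f ∣_ U) ⟨z, hz'⟩, ?_⟩
    show (inv (f ∣_ U) ≫ (f ⁻¹ᵁ U).ι) ((f ∣_ U) ⟨z, hz'⟩) = z
    rw [← Scheme.Hom.comp_apply, IsIso.hom_inv_id_assoc]
    rfl) hM hg₀
  -- the exponent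
  obtain ⟨eL⟩ := hL
  have hIi := H29Blow.isInvertible_of_isEffCartierIdeal _ hEff
  have hQ : H28Vert.idealCls (H28Vert.isEffCartierIdeal_ker hregX hΓ i) = (PicGrp.cls (Y := P.left) L hinvL)⁻¹ := by
    rw [H28Vert.idealCls_congr _ hEff hker]
    exact (PicGrp.cls_inv_eq_cls hinvL hIi ⟨eL⟩).symm
  have hWinv : PicGrp.cls (Y := P.left) W' hW' = (PicGrp.cls _ hWi)⁻¹ :=
    (PicGrp.cls_inv_eq_cls hWi hW' ⟨H10Coh.Tw.commIso _ _ ≪≫ eW⟩).symm
  have hcls : PicGrp.cls (Y := P.left) ωX hωXi =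
      PicGrp.cls _ hWi * (PicGrp.cls L hinvL) ^ (-c) := by
    rw [zpow_neg, ← inv_zpow, ← hQ, ← hc,
      show PicGrp.cls _ hM = PicGrp.cls ωX hωXi * PicGrp.cls W' hW' from
        Subtype.ext (PicGrp.cls_mul_cls_val hωXi hW').symm, hWinv, mul_comm (PicGrp.cls ωX hωXi),
      mul_inv_cancel_left]
  have hdeg := congrArg (H28Vert.degHom (X := P) E) hcls
  rw [map_mul, map_zpow, H28Vert.degHom_cls E hωXi, H28Vert.degHom_cls E hWi, H28Vert.degHom_cls E hinvL,
    hW0, hLE, hωE] at hdeg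
  have hdeg' := congrArg Multiplicative.toAdd hdeg
  simp only [toAdd_mul, toAdd_zpow, toAdd_ofAdd, zero_add, smul_eq_mul] at hdeg'
  have hpos : (0 : ℤ) < Models.wdeg R P E := by exact_mod_cast H28Vert.wdeg_pos (X := P) E
  have hc1 : -c = 1 := by
    have : (-c - 1) * (Models.wdeg R P E : ℤ) = 0 := by linear_combination hdeg'
    rcases mul_eq_zero.1 this with h | h <;> omega
  rw [hc1, zpow_one] at hcls
  exact (PicGrp.cls_eq_cls_iff hωXi (H11Ample.isInvertible_tensor hWi hinvL)).1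
    (hcls.trans (Subtype.ext (PicGrp.cls_mul_cls_val hWi hinvL)))

end Groth.Agent.H17.CanonSm
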