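import Groth.Agent.H17.Canon.BaseChange
import Groth.Agent.S8919
import Groth.Agent.S8652
import Groth.Agent.S8661
import Groth.Agent.S9773
import Groth.Agent.S8656
import Groth.Agent.S8905

/-!
# Canonical sheaves of composites
-/

set_option autoImplicit false
set_option linter.style.haveILetI false
set_option backward.isDefEq.respectTransparency false
set_option synthInstance.maxHeartbeats 400000
set_option maxHeartbeats 3200000

universe u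

open CategoryTheory CategoryTheory.Limits AlgebraicGeometry Opposite TopologicalSpace

namespace Groth.Agent.H17.CanonSm

/-- The rank of a locally free quotient, from a second presentation of the middle term. -/
theorem isFinLocFreeOfRank_right {X : Scheme.{u}} {S T : ShortComplex X.Modules} (hS : S.ShortExact)
    (hT : T.ShortExact) (h : S.X₂ = T.X₂) {a b a' : ℕ}
    (hA : FlatMod.IsFinLocFreeOfRank a S.X₁) (hC : FlatMod.IsFinLocFreeOfRank b S.X₃)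
    (hA' : FlatMod.IsFinLocFreeOfRank a' T.X₁) (hC' : FlatMod.IsFinLocFree T.X₃)
    (hq : Coh.IsQCoh S.X₂) :
    FlatMod.IsFinLocFreeOfRank (a + b - a') T.X₃ ∧ (Nonempty X → a' ≤ a + b) := by
  haveI := hS.epi_g
  haveI := hT.epi_g
  haveI : S.X₂.IsQuasicoherent := hq
  haveI : T.X₂.IsQuasicoherent := h ▸ hq
  haveI : S.X₃.IsQuasicoherent :=
    H8Props.FinLocFree.isQCoh_of_isFinLocFree _ (FLI.isFinLocFree_of_rank hC)
  haveI : T.X₃.IsQuasicoherent := H8Props.FinLocFree.isQCoh_of_isFinLocFree _ hC'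
  have key : ∀ (x : X) (U₄ : X.Opens) (m : ℕ), x ∈ U₄ →
      Nonempty (T.X₃.restrict U₄.ι ≅ FlatMod.freeMod (↑U₄) m) → a + b = a' + m := by
    intro x U₄ m hx₄ ⟨e₄⟩
    obtain ⟨U₁, hx₁, ⟨e₁⟩⟩ := hA x
    obtain ⟨U₂, hx₂, ⟨e₂⟩⟩ := hC x
    obtain ⟨U₃, hx₃, ⟨e₃⟩⟩ := hA' x
    obtain ⟨V, hV, hxV, hle⟩ := exists_isAffineOpen_mem_and_subset (x := x) (U := U₁ ⊓ U₂ ⊓ U₃ ⊓ U₄)
      ⟨⟨⟨hx₁, hx₂⟩, hx₃⟩, hx₄⟩
    obtain ⟨u₁⟩ := H8Props.FinLocFree.exists_basis_of_chart S.X₁ e₁ (fun y hy => (hle hy).1.1.1)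
    obtain ⟨u₂⟩ := H8Props.FinLocFree.exists_basis_of_chart S.X₃ e₂ (fun y hy => (hle hy).1.1.2)
    obtain ⟨u₃⟩ := H8Props.FinLocFree.exists_basis_of_chart T.X₁ e₃ (fun y hy => (hle hy).1.2)
    obtain ⟨u₄⟩ := H8Props.FinLocFree.exists_basis_of_chart T.X₃ e₄ (fun y hy => (hle hy).2)
    choose l hl using fun j => H10Coh.surjective_app_of_epi S.g hV (u₂ j)
    choose l' hl' using fun j => H10Coh.surjective_app_of_epi T.g hV (u₄ j)
    obtain ⟨B, -⟩ := FLI.DetSES.exists_basis_app2 finSumFinEquiv hS u₁ u₂ l hl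
    obtain ⟨B', -⟩ := FLI.DetSES.exists_basis_app2 finSumFinEquiv hT u₃ u₄ l' hl'
    haveI : Nontrivial Γ(X, V) := (X.presheaf.germ V x hxV).hom.domain_nontrivial
    have h1 := Module.finrank_eq_card_basis B
    have h2 := Module.finrank_eq_card_basis B'
    simp only [Fintype.card_fin] at h1 h2
    rw [← h1, ← h2]
    congr 1 <;> rw [h]
  refine ⟨fun x => ?_, fun ⟨x⟩ => ?_⟩
  · obtain ⟨U, m, hxU, he⟩ := hC' x
    have := key x U m hxU he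
    obtain rfl : m = a + b - a' := by omega
    exact ⟨U, hxU, he⟩
  · obtain ⟨U, m, hxU, he⟩ := hC' x
    have := key x U m hxU he
    omega

/-- A canonical sheaf of `f` exists on the fibre product, whenever canonical sheaves of `g` and `f ≫ g` are given. -/
theorem exists_via_fibreProduct {X Y Z Z₂ Z₃ : Scheme.{u}} [Nonempty X] {f : X ⟶ Y} {g : Y ⟶ Z}
    (i₂ : Y ⟶ Z₂) (g₂ : Z₂ ⟶ Z) (h₂ : i₂ ≫ g₂ = g)
    (i₃ : X ⟶ Z₃) (g₃ : Z₃ ⟶ Z) (h₃ : i₃ ≫ g₃ = f ≫ g)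
    [IsImmersion i₂] [IsImmersion i₃] [QuasiCompact i₂] [QuasiCompact i₃]
    [QuasiSeparated g₂] [QuasiSeparated g₃] [QuasiSeparated g]
    {c₂ n₂ c₃ n₃ : ℕ} [SmoothOfRelativeDimension n₂ g₂] [SmoothOfRelativeDimension n₃ g₃]
    (hC₂ : FlatMod.IsFinLocFreeOfRank c₂ (Omega.conormal i₂)) (hC₃ : FlatMod.IsFinLocFreeOfRank c₃ (Omega.conormal i₃))
    (hfK : ∀ x : X, Synt.IsKoszulAt f x)
    {ω₃ : X.Modules} {ω₂ : Y.Modules}
    (hω₂ : Canon.IsCanonicalVia i₂ g₂ c₂ n₂ ω₂) (hω₃ : Canon.IsCanonicalVia i₃ g₃ c₃ n₃ ω₃) :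
    ∃ (c' : ℕ) (ω' : X.Modules),
      FlatMod.IsFinLocFreeOfRank c' (Omega.conormal (pullback.lift f i₃ h₃.symm)) ∧
      Canon.IsCanonicalVia (pullback.lift f i₃ h₃.symm) (pullback.fst g g₃) c' n₃ ω' ∧
      Nonempty (ω₃ ≅ CohB1.tensorMod ω' ((Scheme.Modules.pullback f).obj ω₂)) := by
  haveI : Smooth g₂ := SmoothOfRelativeDimension.smooth n₂ g₂
  haveI : Smooth g₃ := SmoothOfRelativeDimension.smooth n₃ g₃
  let a := pullback.fst g g₃
  let b := pullback.snd g g₃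
  let i' : X ⟶ pullback g g₃ := pullback.lift f i₃ h₃.symm
  have ha : i' ≫ a = f := pullback.lift_fst _ _ _
  have hb : i' ≫ b = i₃ := pullback.lift_snd _ _ _
  haveI : QuasiSeparated a := inferInstanceAs (QuasiSeparated (pullback.fst g g₃))
  haveI : QuasiSeparated b := inferInstanceAs (QuasiSeparated (pullback.snd g g₃))
  haveI : SmoothOfRelativeDimension n₃ a :=
    (smoothOfRelativeDimension_isStableUnderBaseChange n₃).of_isPullback (IsPullback.of_hasPullback g g₃).flip ‹_›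
  haveI : Smooth a := SmoothOfRelativeDimension.smooth n₃ a
  haveI : IsImmersion (i' ≫ b) := hb ▸ ‹IsImmersion i₃›
  haveI : IsImmersion i' := IsImmersion.of_comp i' b
  haveI : QuasiCompact (i' ≫ b) := hb ▸ ‹QuasiCompact i₃›
  haveI : QuasiCompact i' := QuasiCompact.of_comp i' b
  -- the ambient fibre product
  let q₂ := pullback.fst g₂ g₃
  let q₃ := pullback.snd g₂ g₃
  haveI : QuasiSeparated q₃ := inferInstanceAs (QuasiSeparated (pullback.snd g₂ g₃))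
  haveI : SmoothOfRelativeDimension n₂ q₃ :=
    (smoothOfRelativeDimension_isStableUnderBaseChange n₂).of_isPullback (IsPullback.of_hasPullback g₂ g₃) ‹_›
  haveI : Flat q₂ := by
    haveI : Smooth q₂ := MorphismProperty.of_isPullback (P := @Smooth) (IsPullback.of_hasPullback g₂ g₃).flip ‹Smooth g₃›
    infer_instance
  let m : pullback g g₃ ⟶ pullback g₂ g₃ :=
    pullback.lift (a ≫ i₂) b (by rw [Category.assoc, h₂]; exact pullback.condition)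
  have hm₂ : m ≫ q₂ = a ≫ i₂ := pullback.lift_fst _ _ _
  have hm₃ : m ≫ q₃ = b := pullback.lift_snd _ _ _
  have H : IsPullback a m i₂ q₂ := by
    refine IsPullback.of_bot ?_ hm₂.symm (IsPullback.of_hasPullback g₂ g₃)
    rw [hm₃, h₂]
    exact IsPullback.of_hasPullback g g₃
  haveI : IsImmersion m := MorphismProperty.of_isPullback H ‹_›
  haveI : QuasiCompact m := MorphismProperty.of_isPullback H ‹_›
  obtain ⟨DC₂, DΩ₂, hDC₂, hDΩ₂, ⟨e₂⟩⟩ := hω₂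
  obtain ⟨DC₃, DΩ₃, hDC₃, hDΩ₃, ⟨e₃⟩⟩ := hω₃
  -- the conormal sheaf of the base-changed immersion
  obtain ⟨φ, hφ, -⟩ := S9371.result m i₂ q₂ a H.w
  haveI hφi : IsIso φ := (S9372.result m i₂ q₂ a H.flip φ hφ).2 ‹_›
  have hCm := H26Gr.isFinLocFreeOfRank_of_iso (asIso φ) (H26Gr.isFinLocFreeOfRank_pullback a hC₂)
  have hDm := H22Alg.ExtPowSES.isExtPow_of_iso (asIso φ)
    (H22Alg.ExtPowHom.isExtPow_pullback a (isQCoh_conormal' i₂) hDC₂)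
  have hi'k : RegImm.IsRegularImmersion .koszul i' := S8656.result f hfK a i' ha
  have hi'h : RegImm.IsRegularImmersion .h1 i' := (S8905.result i').2.1 hi'k
  obtain ⟨α, hα, -⟩ := S9371.result (i' ≫ m) m (𝟙 _) i' (Category.comp_id _).symm
  obtain ⟨β, hβ, -⟩ := S9371.result i' (i' ≫ m) m (𝟙 X) (Category.id_comp _)
  obtain ⟨w, hT, hlf'⟩ := S8919.result i' m α hα β hβ hi'h
  have hT := hT w
  -- the same middle term over `Z₃`
  have hm' : (i' ≫ m) ≫ q₃ = i₃ := by rw [Category.assoc, hm₃, hb]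
  haveI : Smooth q₃ := SmoothOfRelativeDimension.smooth n₂ q₃
  have hΩq := S15539.result _ _ _ _ g₂ q₃ q₂ g₃ (IsPullback.of_hasPullback g₂ g₃) n₂ DΩ₂ hDΩ₂
  obtain ⟨S, hS, ⟨a₃⟩, hS₂, hS₃⟩ := exists_ses q₃ (i' ≫ m) i₃ hm'
  have hA := H26Gr.isFinLocFreeOfRank_pullback i' hCm
  obtain ⟨hC', hle⟩ := isFinLocFreeOfRank_right hS hT hS₂ (H26Gr.isFinLocFreeOfRank_of_iso a₃ hC₃)
    (hS₃ ▸ H26Gr.isFinLocFreeOfRank_pullback (i' ≫ m) (H28RR.isFinLocFreeOfRank_omega q₃ n₂))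
    hA hlf' (hS₂ ▸ isQCoh_conormal' (i' ≫ m))
  have hle := hle inferInstance
  obtain ⟨DC', hDC'⟩ := H22Alg.ExtPowSheaf.exists_isExtPow (c₃ + n₂ - c₂) (isQCoh_conormal' i')
  obtain ⟨DB, hDB⟩ := H22Alg.ExtPowSheaf.exists_isExtPow (c₃ + n₂) (isQCoh_conormal' (i' ≫ m))
  obtain ⟨sA⟩ := FLI.DetSES.nonempty_iso (finSumFinEquiv.trans (finCongr (by omega))) hT hA
    (isQCoh_conormal' (i' ≫ m)) hC'
    (H22Alg.ExtPowHom.isExtPow_pullback i' (isQCoh_conormal' m) hDm) hDB hDC'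
  obtain ⟨sB⟩ := nonempty_det_step q₃ (i' ≫ m) i₃ hm' hC₃ hDC₃ hΩq hDB
  -- the canonical sheaf of `f` through the fibre product
  have hinv' := FLI.isInvertible_of_rank_one (FLI.isInvertible_extPow hC' hDC')
  obtain ⟨I, -, ⟨eI⟩⟩ := H11Sym.exists_inverse hinv'
  let A₃ := (Scheme.Modules.pullback i₃).obj DΩ₃
  have hΩa := S15539.result _ _ _ _ g₃ a b g (IsPullback.of_hasPullback g g₃).flip n₃ DΩ₃ hDΩ₃
  have hvia : Canon.IsCanonicalVia i' a (c₃ + n₂ - c₂) n₃ (CohB1.tensorMod A₃ I) :=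
    ⟨DC', (Scheme.Modules.pullback b).obj DΩ₃, hDC', hΩa,
      ⟨H10Coh.Tw.assoc A₃ I DC' ≪≫ H25Theta.tI (Iso.refl A₃) eI ≪≫ H10Coh.Tw.rightUnitIso A₃ ≪≫
        (H25Theta.pC i' b hb DΩ₃).symm⟩⟩
  let eω' : CohB1.tensorMod (CohB1.tensorMod A₃ I) DC' ≅ A₃ :=
    H10Coh.Tw.assoc A₃ I DC' ≪≫ H25Theta.tI (Iso.refl A₃) eI ≪≫ H10Coh.Tw.rightUnitIso A₃
  let F := Scheme.Modules.pullback f
  let t : (Scheme.Modules.pullback (i' ≫ m)).obj ((Scheme.Modules.pullback q₂).obj DΩ₂) ≅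
      CohB1.tensorMod (F.obj ω₂) (F.obj DC₂) :=
    H25Theta.pC (i' ≫ m) q₂ (show (i' ≫ m) ≫ q₂ = f ≫ i₂ by
      rw [Category.assoc, hm₂, ← Category.assoc, ha]) DΩ₂ ≪≫ (H25Theta.pC f i₂ rfl DΩ₂).symm ≪≫
      F.mapIso e₂.symm ≪≫ H25Theta.pT f ω₂ DC₂
  let tA : (Scheme.Modules.pullback i').obj ((Scheme.Modules.pullback a).obj DC₂) ≅ F.obj DC₂ :=
    H25Theta.pC i' a ha DC₂
  let R := CohB1.tensorMod A₃ (CohB1.tensorMod (F.obj ω₂) (F.obj DC₂))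
  let lhs : CohB1.tensorMod ω₃ DB ≅ R :=
    H25Theta.tI (Iso.refl ω₃) (sB.symm ≪≫ H25Theta.tI (Iso.refl DC₃) t) ≪≫ (H10Coh.Tw.assoc _ _ _).symm ≪≫
      H25Theta.tI e₃ (Iso.refl _)
  let rhs : CohB1.tensorMod (CohB1.tensorMod (CohB1.tensorMod A₃ I) (F.obj ω₂)) DB ≅ R :=
    H25Theta.tI (Iso.refl _) (sA.symm ≪≫ H25Theta.tI tA (Iso.refl DC') ≪≫ H10Coh.Tw.commIso _ _) ≪≫
      (H10Coh.Tw.assoc _ _ _).symm ≪≫ H25Theta.tI (rot (CohB1.tensorMod A₃ I) (F.obj ω₂) DC' ≪≫ H25Theta.tI eω' (Iso.refl _))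
        (Iso.refl _) ≪≫ H10Coh.Tw.assoc _ _ _
  have hDBinv : PicF.IsInvertible DB := H11Tilde.isInvertible_of_iso sA
    (H28Mero.isInvertible_tensor
      (FLI.isInvertible_of_rank_one (FLI.isInvertible_extPow hA
        (H22Alg.ExtPowHom.isExtPow_pullback i' (isQCoh_conormal' m) hDm))) hinv')
  exact ⟨_, _, hC', hvia, nonempty_iso_of_tensor_iso hDBinv (lhs ≪≫ rhs.symm)⟩


/-- Canonical sheaves are multiplicative in composites. -/
theorem nonempty_iso_comp {X Y Z Z₁ Z₂ Z₃ : Scheme.{u}} {f : X ⟶ Y} {g : Y ⟶ Z}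
    (i₁ : X ⟶ Z₁) (g₁ : Z₁ ⟶ Y) (h₁ : i₁ ≫ g₁ = f) (i₂ : Y ⟶ Z₂) (g₂ : Z₂ ⟶ Z) (h₂ : i₂ ≫ g₂ = g)
    (i₃ : X ⟶ Z₃) (g₃ : Z₃ ⟶ Z) (h₃ : i₃ ≫ g₃ = f ≫ g)
    [IsImmersion i₁] [IsImmersion i₂] [IsImmersion i₃] [QuasiCompact i₁] [QuasiCompact i₂] [QuasiCompact i₃]
    [QuasiSeparated g₁] [QuasiSeparated g₂] [QuasiSeparated g₃] [QuasiSeparated g]
    {c₁ n₁ c₂ n₂ c₃ n₃ : ℕ} [SmoothOfRelativeDimension n₁ g₁] [SmoothOfRelativeDimension n₂ g₂]
    [SmoothOfRelativeDimension n₃ g₃]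
    (hr₁ : RegImm.IsRegularImmersionOfCodim RegImm.Kind.regular c₁ i₁)
    (hr₂ : RegImm.IsRegularImmersionOfCodim RegImm.Kind.regular c₂ i₂)
    (hr₃ : RegImm.IsRegularImmersionOfCodim RegImm.Kind.regular c₃ i₃)
    {ω₁ ω₃ : X.Modules} {ω₂ : Y.Modules} (hω₁ : Canon.IsCanonicalVia i₁ g₁ c₁ n₁ ω₁)
    (hω₂ : Canon.IsCanonicalVia i₂ g₂ c₂ n₂ ω₂) (hω₃ : Canon.IsCanonicalVia i₃ g₃ c₃ n₃ ω₃) :
    Nonempty (ω₃ ≅ CohB1.tensorMod ω₁ ((Scheme.Modules.pullback f).obj ω₂)) := by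
  rcases isEmpty_or_nonempty X with hE | hE
  · have hz : ∀ M : X.Modules, IsZero M := fun M =>
      H16Derived.KFlat.Stalk.isZero_of_stalk fun x => isEmptyElim x
    exact ⟨(hz _).iso (hz _)⟩
  haveI : Smooth g₁ := SmoothOfRelativeDimension.smooth n₁ g₁
  have hk₁ : RegImm.IsRegularImmersion .regular i₁ := ⟨inferInstance, fun z => by
    obtain ⟨U, hz, hcl, rs, -, hrs, hker⟩ := hr₁.2 z
    exact ⟨U, hz, hcl, rs, hrs, hker⟩⟩
  have hfK : ∀ x : X, Synt.IsKoszulAt f x := fun x => by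
    have := S8661.result i₁ g₁ (fun z => S9773.result i₁ .regular (Or.inl rfl) hk₁ z)
      (fun z => H8Props.AlgSpLci.isKoszulAt_of_smooth g₁ z) x
    rwa [h₁] at this
  obtain ⟨c', ω', hC', hvia, ⟨e⟩⟩ := exists_via_fibreProduct i₂ g₂ h₂ i₃ g₃ h₃
    (isFinLocFreeOfRank_conormal_of_quasi i₂ (isQuasiOfCodim_of_regular hr₂))
    (isFinLocFreeOfRank_conormal_of_quasi i₃ (isQuasiOfCodim_of_regular hr₃)) hfK hω₂ hω₃
  have hb : pullback.lift f i₃ h₃.symm ≫ pullback.snd g g₃ = i₃ := pullback.lift_snd _ _ _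
  haveI : IsImmersion (pullback.lift f i₃ h₃.symm ≫ pullback.snd g g₃) := by rw [hb]; infer_instance
  haveI : IsImmersion (pullback.lift f i₃ h₃.symm) := IsImmersion.of_comp _ (pullback.snd g g₃)
  haveI : QuasiCompact (pullback.lift f i₃ h₃.symm ≫ pullback.snd g g₃) := by rw [hb]; infer_instance
  haveI : QuasiCompact (pullback.lift f i₃ h₃.symm) := QuasiCompact.of_comp _ (pullback.snd g g₃)
  haveI : SmoothOfRelativeDimension n₃ (pullback.fst g g₃) :=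
    (smoothOfRelativeDimension_isStableUnderBaseChange n₃).of_isPullback (IsPullback.of_hasPullback g g₃).flip ‹_›
  obtain ⟨e₁⟩ := nonempty_iso_of_via i₁ g₁ (pullback.lift f i₃ h₃.symm) (pullback.fst g g₃)
    (h₁.trans (pullback.lift_fst _ _ _).symm)
    (isFinLocFreeOfRank_conormal_of_quasi i₁ (isQuasiOfCodim_of_regular hr₁)) hC' hω₁ hvia
  exact ⟨e ≪≫ H25Theta.tI e₁.symm (Iso.refl _)⟩

end Groth.Agent.H17.CanonSm
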