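import Groth.Prelude.Def_Omega3
import Groth.Prelude.Def_CohB1

/-!
# A universal derivation exists for every morphism of schemes
-/

set_option autoImplicit false
set_option linter.style.haveILetI false
set_option backward.isDefEq.respectTransparency false
set_option maxHeartbeats 1600000

universe u

open CategoryTheory CategoryTheory.Limits AlgebraicGeometry TopologicalSpace Opposite PresheafOfModules

namespace Groth.Agent.H17.CanonSm

variable {X Y : Scheme.{u}} (f : X ⟶ Y)

/-- The functions coming from the base. -/
def baseRing (U : X.Opens) : Subring Γ(X, U) :=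
  Subring.closure {a | ∃ (V : Y.Opens) (h : U ≤ f ⁻¹ᵁ V) (c : Γ(Y, V)), f.appLE V U h c = a}

theorem baseRing_map {U U' : X.Opens} (h : U' ≤ U) (a : Γ(X, U)) (ha : a ∈ baseRing f U) :
    X.presheaf.map (homOfLE h).op a ∈ baseRing f U' := by
  suffices baseRing f U ≤ (baseRing f U').comap (X.presheaf.map (homOfLE h).op).hom from this ha
  refine Subring.closure_le.2 ?_
  rintro _ ⟨V, hV, c, rfl⟩
  refine Subring.subset_closure ⟨V, h.trans hV, c, ?_⟩
  rw [← Scheme.Hom.appLE_map f hV (homOfLE h).op]
  rfl

/-- The presheaf of functions coming from the base. -/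
noncomputable def basePresheaf : (Opens X)ᵒᵖ ⥤ CommRingCat.{u} where
  obj U := CommRingCat.of (baseRing f U.unop)
  map {U U'} g := CommRingCat.ofHom
    (RingHom.restrict (X.presheaf.map g).hom _ _ fun a ha => baseRing_map f (leOfHom g.unop) a ha)
  map_id U := by ext a; exact congr($(X.presheaf.map_id U) a.1)
  map_comp g g' := by ext a; exact congr($(X.presheaf.map_comp g g') a.1)

/-- The inclusion. -/
noncomputable def baseIncl : basePresheaf f ⟶ X.presheaf where
  app U := CommRingCat.ofHom (baseRing f U.unop).subtype
  naturality _ _ _ := rfl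

/-- A derivation over `Y` is one over the functions coming from the base. -/
noncomputable def toBase {M : PresheafOfModules.{u} (X.presheaf ⋙ forget₂ _ _)}
    (D : PresheafOfModules.Derivation (S := Y.presheaf) (F := Opens.map f.base) (R := X.presheaf) M f.c) :
    M.Derivation' (baseIncl f) where
  d := D.d
  d_mul := D.d_mul
  d_map := D.d_map
  d_app {U} a := by
    obtain ⟨a, ha⟩ := a
    show D.d (X := U) a = 0
    induction ha using Subring.closure_induction with
    | mem a ha =>
      obtain ⟨V, hV, c, rfl⟩ := ha
      exact ((D.d_map (X := op (f ⁻¹ᵁ V)) (homOfLE hV).op _).trans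
        (congrArg _ (D.d_app (X := op V) c))).trans (map_zero _)
    | zero => exact map_zero _
    | one => exact D.d_one _
    | add a b _ _ ha hb => rw [map_add, ha, hb, add_zero]
    | neg a _ ha => rw [map_neg, ha, neg_zero]
    | mul a b _ _ ha hb => rw [D.d_mul, ha, hb, smul_zero, smul_zero, add_zero]

/-- A derivation over the functions coming from the base is one over `Y`. -/
noncomputable def ofBase {M : PresheafOfModules.{u} (X.presheaf ⋙ forget₂ _ _)} (D : M.Derivation' (baseIncl f)) :
    PresheafOfModules.Derivation (S := Y.presheaf) (F := Opens.map f.base) (R := X.presheaf) M f.c where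
  d := D.d
  d_mul := D.d_mul
  d_map := D.d_map
  d_app {V} c := D.d_app (X := op (f ⁻¹ᵁ V.unop))
    ⟨f.app V.unop c, Subring.subset_closure ⟨V.unop, le_rfl, c, by rw [Scheme.Hom.app_eq_appLE]⟩⟩

theorem exists_isUniversal : ∃ (Ω : X.Modules) (d : OmegaSh.Der f Ω), OmegaSh.IsUniversal d := by
  let P := DifferentialsConstruction.relativeDifferentials' (baseIncl f)
  let d₀ := DifferentialsConstruction.derivation' (baseIncl f)
  let hd₀ := DifferentialsConstruction.isUniversal' (baseIncl f)
  let adj := PresheafOfModules.sheafificationAdjunction (𝟙 X.ringCatSheaf.obj)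
  refine ⟨(CohB1.sheafifyMod X).obj P, ofBase f (d₀.postcomp (adj.unit.app P)), fun F D => ?_⟩
  let d := ofBase f (d₀.postcomp (adj.unit.app P))
  have key : ∀ (α : (CohB1.sheafifyMod X).obj P ⟶ F) {U : (Opens X)ᵒᵖ} (b : X.presheaf.obj U),
      (d₀.postcomp (adj.homEquiv P F α)).d b = (d.postcomp α.val).d b := fun α U b => by
    rw [Adjunction.homEquiv_unit]
    rfl
  refine ⟨(adj.homEquiv P F).symm (hd₀.desc (toBase f D)), ?_, fun β hβ => ?_⟩
  · ext U b
    refine (key _ b).symm.trans ?_
    rw [Equiv.apply_symm_apply]
    exact PresheafOfModules.Derivation.congr_d (hd₀.fac (toBase f D)) b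
  · refine (adj.homEquiv P F).injective ?_
    rw [Equiv.apply_symm_apply]
    refine hd₀.postcomp_injective _ _ ?_
    rw [hd₀.fac]
    ext U b
    exact (key β b).trans (PresheafOfModules.Derivation.congr_d hβ b)

end Groth.Agent.H17.CanonSm
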