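import Groth.Agent.H17.Canon.Comp
import Groth.Agent.H17.Canon.DerExists
import Groth.Agent.H06Unram.OmegaLocFree
import Groth.Agent.H16Derived.KFlat.FinLocFree
import Groth.Agent.S9386
import Groth.Agent.S9370

/-!
# Virtual relative dimension and cotangent class of an lci morphism
-/

set_option autoImplicit false
set_option linter.style.haveILetI false
set_option backward.isDefEq.respectTransparency false
set_option synthInstance.maxHeartbeats 400000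
set_option maxHeartbeats 3200000

universe u

open CategoryTheory CategoryTheory.Limits AlgebraicGeometry Opposite TopologicalSpace

namespace Groth.Agent.H17.CanonSm

/-- Differentials of a smooth morphism, on any receptacle. -/
theorem isFinLocFree_universal {X S : Scheme.{u}} {g : X ⟶ S} [Smooth g] {Ω : X.Modules} {d : OmegaSh.Der g Ω}
    (hd : OmegaSh.IsUniversal d) : FlatMod.IsFinLocFree Ω :=
  H06Unram.OmegaLocFree.isFinLocFree
    ((H8Props.FormallySmoothScheme.isFormallySmoothHom_iff g).mpr fun U V hU hV hUV =>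
      RingHom.Smooth.formallySmooth (g.smooth_appLE hV hU hUV)) hd

/-- Koszul-regular immersions have locally free conormal sheaves. -/
theorem isFinLocFree_conormal_of_koszul {X Z : Scheme.{u}} (i : X ⟶ Z) [IsImmersion i] [QuasiCompact i]
    (h : RegImm.IsRegularImmersion .koszul i) : FlatMod.IsFinLocFree (Omega.conormal i) :=
  H29Ref.ConormalQReg.isFinLocFree_conormal_of_quasi i ((S8905.result i).2.2 ((S8905.result i).2.1 h)).2

/-- The conormal sequence through a smooth morphism, for any receptacle of differentials. -/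
theorem exists_ses_universal {X P Z : Scheme.{u}} (p : P ⟶ Z) (i : X ⟶ P) (j : X ⟶ Z) [IsImmersion i]
    [IsImmersion j] [QuasiCompact i] [QuasiCompact j] (hij : i ≫ p = j) [Smooth p]
    {Ω : P.Modules} (d : OmegaSh.Der p Ω) (hd : OmegaSh.IsUniversal d) :
    ∃ (S : ShortComplex X.Modules), S.ShortExact ∧ Nonempty (Omega.conormal j ≅ S.X₁) ∧
      S.X₂ = Omega.conormal i ∧ S.X₃ = (Scheme.Modules.pullback i).obj Ω := by
  obtain ⟨ψ, hψ, -⟩ := S9371.result i j p (𝟙 X) ((Category.id_comp j).trans hij.symm)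
  obtain ⟨φ, hφ⟩ := H19AbSch.OmegaGrp.exists_isConormalDiff i d
  obtain ⟨w, hS⟩ := S9711.result p i j hij _ _ hd ψ hψ φ hφ
  exact ⟨_, hS, ⟨((Scheme.Modules.pullbackId X).app (Omega.conormal j)).symm⟩, rfl, rfl⟩

/-- A short exact sequence of finite locally free modules with named ends. -/
structure Ext3 {X : Scheme.{u}} (A M C : X.Modules) : Prop where
  exists_ses : ∃ S : ShortComplex X.Modules, S.ShortExact ∧ S.X₂ = M ∧ Nonempty (A ≅ S.X₁) ∧ Nonempty (C ≅ S.X₃)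

/-- Two factorisations through smooth morphisms: one module is an extension in both ways. -/
theorem exists_two_extensions {X Y V V' : Scheme.{u}} (f : X ⟶ Y) (hf : ∀ x : X, Synt.IsKoszulAt f x)
    (g : V ⟶ Y) [Smooth g] (i : X ⟶ V) [IsImmersion i] [QuasiCompact i] (hi : i ≫ g = f)
    (g' : V' ⟶ Y) [Smooth g'] (i' : X ⟶ V') [IsImmersion i'] [QuasiCompact i'] (hi' : i' ≫ g' = f)
    {Ω : V.Modules} (d : OmegaSh.Der g Ω) (hd : OmegaSh.IsUniversal d)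
    {Ω' : V'.Modules} (d' : OmegaSh.Der g' Ω') (hd' : OmegaSh.IsUniversal d') :
    ∃ M : X.Modules, FlatMod.IsFinLocFree M ∧
      Ext3 (Omega.conormal i) M ((Scheme.Modules.pullback i').obj Ω') ∧
      Ext3 (Omega.conormal i') M ((Scheme.Modules.pullback i).obj Ω) := by
  let p₁ := pullback.fst g g'
  let p₂ := pullback.snd g g'
  let k : X ⟶ pullback g g' := pullback.lift i i' (hi.trans hi'.symm)
  have hk₁ : k ≫ p₁ = i := pullback.lift_fst _ _ _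
  have hk₂ : k ≫ p₂ = i' := pullback.lift_snd _ _ _
  haveI : Smooth p₁ := inferInstanceAs (Smooth (pullback.fst g g'))
  haveI : Smooth p₂ := inferInstanceAs (Smooth (pullback.snd g g'))
  haveI : IsImmersion (k ≫ p₁) := by rw [hk₁]; infer_instance
  haveI : IsImmersion k := IsImmersion.of_comp k p₁
  obtain ⟨Ω₁, d₁, hd₁⟩ := exists_isUniversal p₁
  obtain ⟨Ω₂, d₂, hd₂⟩ := exists_isUniversal p₂
  have sq₁ : IsPullback p₂ p₁ g' g := (IsPullback.of_hasPullback g g').flip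
  have sq₂ : IsPullback p₁ p₂ g g' := IsPullback.of_hasPullback g g'
  obtain ⟨c₁, hc₁, -⟩ := S9370.result g' p₁ p₂ g sq₁.w.symm Ω' d' hd' Ω₁ d₁ hd₁
  obtain ⟨c₂, hc₂, -⟩ := S9370.result g p₂ p₁ g' sq₂.w.symm Ω d hd Ω₂ d₂ hd₂
  haveI := S9386.result g' g p₂ p₁ sq₁ Ω' d' hd' Ω₁ d₁ hd₁ c₁ hc₁
  haveI := S9386.result g g' p₁ p₂ sq₂ Ω d hd Ω₂ d₂ hd₂ c₂ hc₂
  -- shrink the product to an open in which `k` is closed, so that it is quasi-compact
  let W := k.coborderRange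
  let k₀ : X ⟶ W.toScheme := k.liftCoborder
  have hk₀ : k₀ ≫ W.ι = k := k.liftCoborder_ι
  obtain ⟨S, hS, hS₁, hS₂, hS₃⟩ := exists_ses_universal (W.ι ≫ p₁) k₀ i (by rw [← Category.assoc, hk₀, hk₁])
    (H29Omega.restrDer W.ι d₁) (H29Omega.isUniversal_restrDer W.ι d₁ hd₁)
  obtain ⟨T, hT, hT₁, hT₂, hT₃⟩ := exists_ses_universal (W.ι ≫ p₂) k₀ i' (by rw [← Category.assoc, hk₀, hk₂])
    (H29Omega.restrDer W.ι d₂) (H29Omega.isUniversal_restrDer W.ι d₂ hd₂)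
  have hkk : k₀ ≫ W.ι ≫ p₁ ≫ g = f := by rw [reassoc_of% hk₀, reassoc_of% hk₁, hi]
  refine ⟨_, isFinLocFree_conormal_of_koszul k₀ (S8656.result f hf (W.ι ≫ p₁ ≫ g) k₀ hkk), ⟨S, hS, hS₂, hS₁, ⟨?_⟩⟩,
    ⟨T, hT, hT₂, hT₁, ⟨?_⟩⟩⟩
  · exact (H25Theta.pC k p₂ hk₂ Ω').symm ≪≫ (Scheme.Modules.pullback k).mapIso (asIso c₁) ≪≫
      (H25Theta.pC k₀ W.ι hk₀ Ω₁).symm ≪≫
      (Scheme.Modules.pullback k₀).mapIso ((Scheme.Modules.restrictFunctorIsoPullback W.ι).app Ω₁).symm ≪≫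
      eqToIso hS₃.symm
  · exact (H25Theta.pC k p₁ hk₁ Ω).symm ≪≫ (Scheme.Modules.pullback k).mapIso (asIso c₂) ≪≫
      (H25Theta.pC k₀ W.ι hk₀ Ω₂).symm ≪≫
      (Scheme.Modules.pullback k₀).mapIso ((Scheme.Modules.restrictFunctorIsoPullback W.ι).app Ω₂).symm ≪≫
      eqToIso hT₃.symm

/-- A module has rank `a` at `x`. -/
def RankAt {X : Scheme.{u}} (M : X.Modules) (x : X) (a : ℕ) : Prop :=
  ∃ U : X.Opens, x ∈ U ∧ Nonempty (M.restrict U.ι ≅ FlatMod.freeMod (↑U) a)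

theorem RankAt.of_iso {X : Scheme.{u}} {M N : X.Modules} {x : X} {a : ℕ} (e : M ≅ N) (h : RankAt M x a) :
    RankAt N x a := by
  obtain ⟨U, hx, ⟨eU⟩⟩ := h
  exact ⟨U, hx, ⟨(Scheme.Modules.restrictFunctor U.ι).mapIso e.symm ≪≫ eU⟩⟩

/-- Reading the rank at a point off a restriction to a neighbourhood. -/
theorem rankAt_of_restrict {X : Scheme.{u}} {M : X.Modules} (hM : FlatMod.IsFinLocFree M) {x : X} {U : X.Opens}
    (hx : x ∈ U) {a : ℕ} (ha : FlatMod.IsFinLocFreeOfRank a ((Scheme.Modules.restrictFunctor U.ι).obj M)) :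
    RankAt M x a := by
  obtain ⟨W, m, hxW, ⟨e⟩⟩ := hM x
  let O := U ⊓ W
  let jU : O.toScheme ⟶ U.toScheme := X.homOfLE inf_le_left
  let jW : O.toScheme ⟶ W.toScheme := X.homOfLE inf_le_right
  have hW : FlatMod.IsFinLocFreeOfRank m ((Scheme.Modules.pullback O.ι).obj M) :=
    H26Gr.isFinLocFreeOfRank_of_iso
      ((Scheme.Modules.pullback jW).mapIso (((Scheme.Modules.restrictFunctorIsoPullback W.ι).app M)) ≪≫
        H25Theta.pC jW W.ι (Scheme.homOfLE_ι _ _) M)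
      (H26Gr.isFinLocFreeOfRank_pullback jW
        (H26Gr.isFinLocFreeOfRank_of_iso e.symm (H26Gr.isFinLocFreeOfRank_freeMod _ m)))
  have hU : FlatMod.IsFinLocFreeOfRank a ((Scheme.Modules.pullback O.ι).obj M) :=
    H26Gr.isFinLocFreeOfRank_of_iso
      ((Scheme.Modules.pullback jU).mapIso (((Scheme.Modules.restrictFunctorIsoPullback U.ι).app M)) ≪≫
        H25Theta.pC jU U.ι (Scheme.homOfLE_ι _ _) M) (H26Gr.isFinLocFreeOfRank_pullback jU ha)
  haveI : Nonempty O.toScheme := ⟨⟨x, hx, hxW⟩⟩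
  obtain rfl := rank_eq hW hU
  exact ⟨W, hxW, ⟨e⟩⟩

theorem rankAt_pullback {X Y : Scheme.{u}} (f : X ⟶ Y) {M : Y.Modules} (hM : FlatMod.IsFinLocFree M) {x : X}
    {U : Y.Opens} (hx : f x ∈ U) {a : ℕ}
    (ha : FlatMod.IsFinLocFreeOfRank a ((Scheme.Modules.restrictFunctor U.ι).obj M)) :
    RankAt ((Scheme.Modules.pullback f).obj M) x a :=
  rankAt_of_restrict (H16Derived.KFlat.Stalk.isFinLocFree_pullback f hM) (U := f ⁻¹ᵁ U) hx
    (H26Gr.isFinLocFreeOfRank_of_iso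
      ((Scheme.Modules.pullback (f ∣_ U)).mapIso ((Scheme.Modules.restrictFunctorIsoPullback U.ι).app M) ≪≫
        H25Theta.pC (f ∣_ U) U.ι (morphismRestrict_ι f U) M ≪≫ (H25Theta.pC (f ⁻¹ᵁ U).ι f rfl M).symm ≪≫
        ((Scheme.Modules.restrictFunctorIsoPullback (f ⁻¹ᵁ U).ι).app _).symm)
      (H26Gr.isFinLocFreeOfRank_pullback (f ∣_ U) ha))

/-- Ranks at a point add up in extensions with a common middle term. -/
theorem rank_add_at {X : Scheme.{u}} {A C A' C' M : X.Modules} (hS : Ext3 A M C) (hT : Ext3 A' M C')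
    (hM : FlatMod.IsFinLocFree M) (hC : FlatMod.IsFinLocFree C) (hC' : FlatMod.IsFinLocFree C') {x : X}
    {a b a' b' : ℕ} (ra : RankAt A x a) (rb : RankAt C x b) (ra' : RankAt A' x a') (rb' : RankAt C' x b') :
    a + b = a' + b' := by
  obtain ⟨⟨S, hS, hS₂, ⟨eA⟩, ⟨eC⟩⟩⟩ := hS
  obtain ⟨⟨T, hT, hT₂, ⟨eA'⟩, ⟨eC'⟩⟩⟩ := hT
  haveI := hS.epi_g
  haveI := hT.epi_g
  haveI : S.X₂.IsQuasicoherent := hS₂ ▸ H8Props.FinLocFree.isQCoh_of_isFinLocFree _ hM
  haveI : T.X₂.IsQuasicoherent := hT₂ ▸ H8Props.FinLocFree.isQCoh_of_isFinLocFree _ hM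
  haveI : S.X₃.IsQuasicoherent :=
    H8Props.FinLocFree.isQCoh_of_isFinLocFree _ (H16Derived.KFlat.Stalk.isFinLocFree_of_iso eC hC)
  haveI : T.X₃.IsQuasicoherent :=
    H8Props.FinLocFree.isQCoh_of_isFinLocFree _ (H16Derived.KFlat.Stalk.isFinLocFree_of_iso eC' hC')
  obtain ⟨U₁, hx₁, ⟨e₁⟩⟩ := ra.of_iso eA
  obtain ⟨U₂, hx₂, ⟨e₂⟩⟩ := rb.of_iso eC
  obtain ⟨U₃, hx₃, ⟨e₃⟩⟩ := ra'.of_iso eA'
  obtain ⟨U₄, hx₄, ⟨e₄⟩⟩ := rb'.of_iso eC'
  obtain ⟨V, hV, hxV, hle⟩ := exists_isAffineOpen_mem_and_subset (x := x) (U := U₁ ⊓ U₂ ⊓ U₃ ⊓ U₄)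
    ⟨⟨⟨hx₁, hx₂⟩, hx₃⟩, hx₄⟩
  obtain ⟨u₁⟩ := H8Props.FinLocFree.exists_basis_of_chart S.X₁ e₁ (fun y hy => (hle hy).1.1.1)
  obtain ⟨u₂⟩ := H8Props.FinLocFree.exists_basis_of_chart S.X₃ e₂ (fun y hy => (hle hy).1.1.2)
  obtain ⟨u₃⟩ := H8Props.FinLocFree.exists_basis_of_chart T.X₁ e₃ (fun y hy => (hle hy).1.2)
  obtain ⟨u₄⟩ := H8Props.FinLocFree.exists_basis_of_chart T.X₃ e₄ (fun y hy => (hle hy).2)
  choose l hl using fun j => H10Coh.surjective_app_of_epi S.g hV (u₂ j)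
  choose l' hl' using fun j => H10Coh.surjective_app_of_epi T.g hV (u₄ j)
  obtain ⟨B, -⟩ := FLI.DetSES.exists_basis_app2 finSumFinEquiv hS u₁ u₂ l hl
  obtain ⟨B', -⟩ := FLI.DetSES.exists_basis_app2 finSumFinEquiv hT u₃ u₄ l' hl'
  haveI : Nontrivial Γ(X, V) := (X.presheaf.germ V x hxV).hom.domain_nontrivial
  have h1 := Module.finrank_eq_card_basis B
  have h2 := Module.finrank_eq_card_basis B'
  simp only [Fintype.card_fin] at h1 h2
  rw [← h1, ← h2]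
  congr 1 <;> rw [hS₂, hT₂]

end Groth.Agent.H17.CanonSm
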