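import Groth.Agent.H17.Canon.Cotangent

/-!
# Virtual relative dimension of a composite of lci morphisms
-/

set_option autoImplicit false
set_option linter.style.haveILetI false
set_option backward.isDefEq.respectTransparency false
set_option synthInstance.maxHeartbeats 400000
set_option maxHeartbeats 3200000

universe u

open CategoryTheory CategoryTheory.Limits AlgebraicGeometry Opposite TopologicalSpace

namespace Groth.Agent.H17.CanonSm

/-- The cotangent classes of `f ≫ g`, `f` and `g`, linked by three extensions. -/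
theorem exists_extensions_comp {X Y Z V W T : Scheme.{u}} (f : X ⟶ Y) (g : Y ⟶ Z)
    (hf : ∀ x : X, Synt.IsKoszulAt f x) (hg : ∀ y : Y, Synt.IsKoszulAt g y)
    (gf : V ⟶ Y) [Smooth gf] (jf : X ⟶ V) [IsClosedImmersion jf] (hjf : jf ≫ gf = f)
    (gg : W ⟶ Z) [Smooth gg] (jg : Y ⟶ W) [IsClosedImmersion jg] (hjg : jg ≫ gg = g)
    (gh : T ⟶ Z) [Smooth gh] (jh : X ⟶ T) [IsClosedImmersion jh] (hjh : jh ≫ gh = f ≫ g)
    {Ωf : V.Modules} (df : OmegaSh.Der gf Ωf) (hdf : OmegaSh.IsUniversal df)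
    {Ωg : W.Modules} (dg : OmegaSh.Der gg Ωg) (hdg : OmegaSh.IsUniversal dg)
    {Ωh : T.Modules} (dh : OmegaSh.Der gh Ωh) (hdh : OmegaSh.IsUniversal dh) :
    ∃ C M N : X.Modules, FlatMod.IsFinLocFree C ∧ FlatMod.IsFinLocFree M ∧ FlatMod.IsFinLocFree N ∧
      Ext3 ((Scheme.Modules.pullback f).obj (Omega.conormal jg)) M C ∧
      Ext3 (Omega.conormal jh) M ((Scheme.Modules.pullback f).obj ((Scheme.Modules.pullback jg).obj Ωg)) ∧
      Ext3 (Omega.conormal jf) N ((Scheme.Modules.pullback jh).obj Ωh) ∧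
      Ext3 C N ((Scheme.Modules.pullback jf).obj Ωf) := by
  let a := pullback.fst g gh
  let b := pullback.snd g gh
  let q₂ := pullback.fst gg gh
  let q₃ := pullback.snd gg gh
  let m : pullback g gh ⟶ pullback gg gh :=
    pullback.lift (a ≫ jg) b (by rw [Category.assoc, hjg]; exact pullback.condition)
  have hm₂ : m ≫ q₂ = a ≫ jg := pullback.lift_fst _ _ _
  have hm₃ : m ≫ q₃ = b := pullback.lift_snd _ _ _
  have H : IsPullback a m jg q₂ := by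
    refine IsPullback.of_bot ?_ hm₂.symm (IsPullback.of_hasPullback gg gh)
    rw [hm₃, hjg]
    exact IsPullback.of_hasPullback g gh
  haveI : IsClosedImmersion m := MorphismProperty.of_isPullback H ‹_›
  let i' : X ⟶ pullback g gh := pullback.lift f jh hjh.symm
  have ha : i' ≫ a = f := pullback.lift_fst _ _ _
  have hb : i' ≫ b = jh := pullback.lift_snd _ _ _
  haveI : IsImmersion (i' ≫ b) := by rw [hb]; infer_instance
  haveI : IsImmersion i' := IsImmersion.of_comp i' b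
  -- opens in which everything is closed
  obtain ⟨O₀, hO₀, hO₀eq⟩ := m.isEmbedding.isInducing.isOpen_iff.1 i'.coborderRange.isOpen
  let O : (pullback gg gh).Opens := ⟨O₀, hO₀⟩
  have hOeq : m ⁻¹ᵁ O = i'.coborderRange := TopologicalSpace.Opens.ext hO₀eq
  let W₀ := m ⁻¹ᵁ O
  let k : X ⟶ W₀.toScheme := i'.liftCoborder ≫ (Scheme.isoOfEq _ hOeq.symm).hom
  have hk : k ≫ W₀.ι = i' := by
    show (i'.liftCoborder ≫ (Scheme.isoOfEq _ hOeq.symm).hom) ≫ W₀.ι = i'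
    rw [Category.assoc, Scheme.isoOfEq_hom_ι, i'.liftCoborder_ι]
  haveI : IsClosedImmersion k := MorphismProperty.comp_mem (W := @IsClosedImmersion) _ _ inferInstance inferInstance
  let m₀ := m ∣_ O
  haveI : IsClosedImmersion m₀ := IsZariskiLocalAtTarget.restrict ‹IsClosedImmersion m› O
  haveI : Smooth q₃ := inferInstanceAs (Smooth (pullback.snd gg gh))
  haveI : Smooth a := inferInstanceAs (Smooth (pullback.fst g gh))
  haveI : Smooth q₂ := inferInstanceAs (Smooth (pullback.fst gg gh))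
  haveI : Flat (O.ι ≫ q₂) := inferInstance
  have hjgK : RegImm.IsRegularImmersion .koszul jg := S8656.result g hg gg jg hjg
  have Hm : IsPullback (W₀.ι ≫ a) m₀ jg (O.ι ≫ q₂) :=
    ((isPullback_morphismRestrict m O).flip.paste_horiz H)
  obtain ⟨φ, hφ, -⟩ := S9371.result m₀ jg (O.ι ≫ q₂) (W₀.ι ≫ a) Hm.w
  haveI hφi : IsIso φ := (S9372.result m₀ jg (O.ι ≫ q₂) (W₀.ι ≫ a) Hm.flip φ hφ).2 ‹_›
  -- the transitivity sequence for `k` and `m₀`
  have hka : k ≫ W₀.ι ≫ a = f := by rw [reassoc_of% hk, ha]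
  have hkk : RegImm.IsRegularImmersion .koszul k := S8656.result f hf (W₀.ι ≫ a) k hka
  obtain ⟨α, hα, -⟩ := S9371.result (k ≫ m₀) m₀ (𝟙 _) k (Category.comp_id _).symm
  obtain ⟨β, hβ, -⟩ := S9371.result k (k ≫ m₀) m₀ (𝟙 X) (Category.id_comp _)
  obtain ⟨w, hT, hClf⟩ := S8919.result k m₀ α hα β hβ ((S8905.result k).2.1 hkk)
  have hT := hT w
  -- the sequence over `T`
  have hkq : (k ≫ m₀) ≫ O.ι ≫ q₃ = jh := by
    show (k ≫ m ∣_ O) ≫ O.ι ≫ q₃ = jh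
    rw [Category.assoc, morphismRestrict_ι_assoc, reassoc_of% hk, hm₃, hb]
  obtain ⟨Ω₃, d₃, hd₃⟩ := exists_isUniversal q₃
  have sq₃ : IsPullback q₂ q₃ gg gh := IsPullback.of_hasPullback gg gh
  obtain ⟨c₃, hc₃, -⟩ := S9370.result gg q₃ q₂ gh sq₃.w.symm Ωg dg hdg Ω₃ d₃ hd₃
  haveI := S9386.result gg gh q₂ q₃ sq₃ Ωg dg hdg Ω₃ d₃ hd₃ c₃ hc₃
  obtain ⟨S, hS, hS₁, hS₂, hS₃⟩ := exists_ses_universal (O.ι ≫ q₃) (k ≫ m₀) jh hkq
    (H29Omega.restrDer O.ι d₃) (H29Omega.isUniversal_restrDer O.ι d₃ hd₃)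
  have hkm : RegImm.IsRegularImmersion .koszul (k ≫ m₀) := by
    refine S8656.result (f ≫ g) (S8661.result f g hf hg) (O.ι ≫ q₃ ≫ gh) (k ≫ m₀) ?_
    rw [← Category.assoc O.ι, ← Category.assoc (k ≫ m₀), hkq, hjh]
  have hkO : (k ≫ m₀) ≫ O.ι ≫ q₂ = f ≫ jg := by
    show (k ≫ m ∣_ O) ≫ O.ι ≫ q₂ = f ≫ jg
    rw [Category.assoc, morphismRestrict_ι_assoc, reassoc_of% hk, hm₂, reassoc_of% ha]
  -- the two factorisations of `f`
  obtain ⟨Ωa, da, hda⟩ := exists_isUniversal a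
  have sqa : IsPullback b a gh g := (IsPullback.of_hasPullback g gh).flip
  obtain ⟨ca, hca, -⟩ := S9370.result gh a b g sqa.w.symm Ωh dh hdh Ωa da hda
  haveI := S9386.result gh g b a sqa Ωh dh hdh Ωa da hda ca hca
  obtain ⟨N, hN, hN₁, ⟨⟨T', hT', hT'₂, ⟨eA'⟩, ⟨eC'⟩⟩⟩⟩ :=
    exists_two_extensions f hf gf jf hjf (W₀.ι ≫ a) k hka df hdf
      (H29Omega.restrDer W₀.ι da) (H29Omega.isUniversal_restrDer W₀.ι da hda)
  obtain ⟨⟨S', hS', hS'₂, ⟨eA⟩, ⟨eC⟩⟩⟩ := hN₁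
  refine ⟨Omega.conormal k, Omega.conormal (k ≫ m₀), N, hClf, isFinLocFree_conormal_of_koszul _ hkm, hN,
    ⟨_, hT, rfl, ⟨?_⟩, ⟨Iso.refl _⟩⟩, ⟨S, hS, hS₂, hS₁, ⟨?_⟩⟩, ⟨S', hS', hS'₂, ⟨eA⟩, ⟨?_ ≪≫ eC⟩⟩,
    ⟨T', hT', hT'₂, ⟨eA'⟩, ⟨eC'⟩⟩⟩
  · exact (H25Theta.pC k (W₀.ι ≫ a) hka (Omega.conormal jg)).symm ≪≫
      (Scheme.Modules.pullback k).mapIso (asIso φ)
  · exact H25Theta.pC f jg rfl Ωg ≪≫ (H25Theta.pC (k ≫ m₀) (O.ι ≫ q₂) hkO Ωg).symm ≪≫
      (Scheme.Modules.pullback (k ≫ m₀)).mapIso ((H25Theta.pC O.ι q₂ rfl Ωg).symm ≪≫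
        (Scheme.Modules.pullback O.ι).mapIso (asIso c₃) ≪≫
        ((Scheme.Modules.restrictFunctorIsoPullback O.ι).app Ω₃).symm) ≪≫ eqToIso hS₃.symm
  · exact (H25Theta.pC k (W₀.ι ≫ b) (show k ≫ W₀.ι ≫ b = jh by rw [reassoc_of% hk, hb]) Ωh).symm ≪≫
      (Scheme.Modules.pullback k).mapIso ((H25Theta.pC W₀.ι b rfl Ωh).symm ≪≫
        (Scheme.Modules.pullback W₀.ι).mapIso (asIso ca) ≪≫
        ((Scheme.Modules.restrictFunctorIsoPullback W₀.ι).app Ωa).symm)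

end Groth.Agent.H17.CanonSm
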