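import Groth.Agent.H17.Canon.GenericFibre
import Groth.Agent.H17.FLI.LciDual
import Groth.Agent.H17.FLI.ProjTop
import Groth.Agent.H17.FLI.SmoothDual
import Groth.Agent.H17.DualSh.Equidim
import Groth.Agent.H22Alg.CurveProj
import Groth.Agent.H22Alg.PnPoints
import Groth.Agent.H29CurveDual.Canonical
import Groth.Agent.S8656
import Groth.Prelude.Def_FGA

/-!
# The canonical sheaf of an lci curve over a field
-/

set_option autoImplicit false
set_option linter.style.haveILetI false
set_option linter.unusedSectionVars false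
set_option backward.isDefEq.respectTransparency false
set_option synthInstance.maxHeartbeats 400000
set_option maxHeartbeats 3200000

universe u

open CategoryTheory CategoryTheory.Limits AlgebraicGeometry Opposite TopologicalSpace RingTheory.Sequence

namespace Groth.Agent.H17.CanonSm

/-- The codimension of a regular immersion is the drop of the dimension of the local rings. -/
theorem ringKrullDim_stalk_add {X P : Scheme.{u}} (ι : X ⟶ P) [IsClosedImmersion ι] [IsLocallyNoetherian P] {c : ℕ}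
    (h : RegImm.IsRegularImmersionOfCodim RegImm.Kind.regular c ι) (x : X) :
    ringKrullDim (X.presheaf.stalk x) + (c : WithBot ℕ∞) = ringKrullDim (P.presheaf.stalk (ι x)) := by
  obtain ⟨U, hzU, hcl, rs, hlen, hrs, hker⟩ := h.2 x
  haveI := U.2.isLocalization_stalk ⟨ι.base x, hzU⟩
  letI := P.presheaf.algebra_section_stalk (⟨ι.base x, hzU⟩ : U.1)
  haveI : Module.Flat Γ(P, U.1) (P.presheaf.stalk (ι.base x)) :=
    IsLocalization.flat _ (U.2.primeIdealOf ⟨ι.base x, hzU⟩).asIdeal.primeCompl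
  let φ := algebraMap Γ(P, U.1) (P.presheaf.stalk (ι.base x))
  have hspan : Ideal.ofList (rs.map φ) = RingHom.ker (ι.stalkMap x).hom := by
    rw [← H29Omega.range_idealStalk_ker ι x, H29Omega.range_idealStalk ι.ker (ι.base x) U hzU,
      show ι.ker.ideal U = Ideal.ofList rs by rw [Scheme.Hom.ker_apply]; exact hker, Ideal.map_ofList]
    rfl
  have hw : IsWeaklyRegular (P.presheaf.stalk (ι.base x)) (rs.map φ) :=
    (hrs : IsRegular Γ(P, U.1) rs).toIsWeaklyRegular.of_flat
  have hreg : IsRegular (P.presheaf.stalk (ι.base x)) (rs.map φ) := by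
    refine ⟨hw, fun h' => ?_⟩
    have h1 : Ideal.ofList (rs.map φ) = ⊤ := by simpa using h'.symm
    exact RingHom.ker_ne_top (ι.stalkMap x).hom (hspan.symm.trans h1)
  haveI : IsNoetherianRing (P.presheaf.stalk (ι.base x)) := inferInstance
  have h1 := ringKrullDim_add_length_eq_ringKrullDim_of_isRegular (rs.map φ) hreg
  rw [List.length_map, hlen, ringKrullDim_eq_of_ringEquiv
    ((Ideal.quotientEquiv _ _ (RingEquiv.refl _) (by rw [hspan]; simp)).trans
      (RingHom.quotientKerEquivOfSurjective (ι.stalkMap_surjective x)))] at h1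
  exact h1

variable {k : Type u} [Field k] {X : Scheme.{u}} [X.Over (Spec (CommRingCat.of k))] [IsIntegral X]
  [IsProper (X ↘ Spec (CommRingCat.of k))]

/-- An lci curve has an invertible canonical sheaf that is dualizing. -/
theorem exists_canonical_dual_curve (hdim : topologicalKrullDim X = 1)
    (hk : ∀ x : X, Synt.IsKoszulAt (X ↘ Spec (CommRingCat.of k)) x) :
    ∃ ω : X.Modules, PicF.IsInvertible ω ∧ Canon.IsCanonical (X ↘ Spec (CommRingCat.of k)) ω ∧
      ∃ t : Coh.HH X ω 1 →ₗ[k] k, ∀ F : X.Modules, Coh.IsCoh F → H29Serre.RepDual t F := by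
  obtain ⟨L, hL⟩ := H22Alg.CurveProj.exists_ample k (X := X) hdim.le
  obtain ⟨N, ι, hι, hιk⟩ := H22Alg.CurveProj.exists_closedImmersion k X hL
  haveI := hι
  let P := CohB1.ProjSpace N k
  let g := CohB1.ProjSpace.toSpec N k
  haveI : SmoothOfRelativeDimension N g := FLI.smoothOfRelativeDimension_projSpace N k
  haveI : Smooth g := SmoothOfRelativeDimension.smooth N g
  haveI : IsLocallyNoetherian P := LocallyOfFiniteType.isLocallyNoetherian g
  haveI : IsLocallyNoetherian X := LocallyOfFiniteType.isLocallyNoetherian ι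
  haveI : CompactSpace X := QuasiCompact.compactSpace_of_compactSpace (X ↘ Spec (CommRingCat.of k))
  have hkos := S8656.result _ hk g ι hιk
  have hjq : RegImm.IsRegularImmersion .quasi ι := (S8905.result ι).2.2 ((S8905.result ι).2.1 hkos)
  obtain ⟨c, hC⟩ := exists_rank (genericPoint X)
    (fun V x hx => ((genericPoint_spec X).mem_open_set_iff V.isOpen).2 ⟨x, trivial, hx⟩)
    (H29Ref.ConormalQReg.isFinLocFree_conormal_of_quasi ι hjq.2)
  have hreg := regImm_ofCodim_of_rank ι ((S5003.result ι).2 hjq) hC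
  -- the codimension
  have hX : ∀ Z : Set X, Z ∈ irreducibleComponents X → topologicalKrullDim Z = ((1 : ℕ) : WithBot ℕ∞) := by
    intro Z hZ
    rw [irreducibleComponents_eq_singleton] at hZ
    rw [Set.mem_singleton_iff.1 hZ, (Homeomorph.Set.univ X).isHomeomorph.topologicalKrullDim_eq, hdim, Nat.cast_one]
  obtain ⟨z, -, hz⟩ := (isClosed_univ (X := X)).exists_closed_singleton Set.univ_nonempty
  haveI : IsIntegral P := LeadPic.PnRel.isIntegral_projSpace (n := N) k
  have hzP : IsClosed ({ι z} : Set P) := by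
    simpa using ι.isClosedEmbedding.isClosedMap _ hz
  have hc : 1 + c = N := by
    have h1 := ringKrullDim_stalk_add ι hreg z
    rw [DualSh.ringKrullDim_closed (X ↘ Spec (CommRingCat.of k)) 1 hX z hz] at h1
    letI : P.Over (Spec (CommRingCat.of k)) := ⟨g⟩
    haveI : SmoothOfRelativeDimension N (P ↘ Spec (CommRingCat.of k)) := ‹SmoothOfRelativeDimension N g›
    rw [(FLI.smooth_cm k (r := N) (ι z) hzP).2] at h1
    exact_mod_cast h1
  obtain rfl : c = N - 1 := by omega
  obtain ⟨ω, hω, hωi⟩ := exists_via (n := N) ι g hC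
  refine ⟨ω, hωi, ⟨P, ι, g, N - 1, N, hιk, hreg, ‹_›, inferInstance, inferInstance, hω⟩, ?_⟩
  obtain ⟨DC, DΩ, hDC, hDΩ, ⟨e⟩⟩ := hω
  obtain ⟨eΩ⟩ := FLI.nonempty_topForms_projSpace_iso N k hDΩ
  have hDCi : PicF.IsInvertible DC := FLI.isInvertible_of_rank_one (FLI.isInvertible_extPow hC hDC)
  haveI : DCoh.HasSheafHom DC := H10Coh.SheafHom.hasSheafHom DC
  obtain ⟨t, ht⟩ := FLI.exists_repDual_lci (k := k) (r := N - 1) (Nat.sub_le N 1) ι hιk
    (fun Z hZ => by rw [hX Z hZ, show N - (N - 1) = 1 by omega]) hreg hDC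
  obtain ⟨D, -, ⟨eD'⟩⟩ := H11Sym.exists_inverse hDCi
  obtain ⟨d⟩ := FLI.nonempty_homSh_tensor_iso hDCi D
  let eD : CohB1.tensorMod DC D ≅ Coh.structureModule X := H11Ample.tensorCommIso DC D ≪≫ eD'
  let e2 : (DCoh.sheafHom DC).obj (Coh.structureModule X) ≅ D :=
    H10Coh.SheafHom.homShIso _ _ ≪≫ (H10Inj.SheafExt.homFunctor DC).mapIso eD.symm ≪≫ d
  obtain ⟨u⟩ := nonempty_iso_of_tensor_iso hDCi
    (H10Coh.Tw.assoc _ ((DCoh.sheafHom DC).obj (Coh.structureModule X)) DC ≪≫
      H25Theta.tI ((Scheme.Modules.pullback ι).mapIso eΩ.symm)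
        (H25Theta.tI e2 (Iso.refl DC) ≪≫ eD') ≪≫ H10Coh.Tw.rightUnitIso _ ≪≫ e.symm)
  revert t ht
  rw [show N - (N - 1) = 1 by omega]
  intro t ht
  refine ⟨t ∘ₗ Canon.HHlin k u.inv 1, fun F hF ψ => ?_⟩
  obtain ⟨φ, hφ, huniq⟩ := ht F hF ψ
  have key : ∀ χ : F ⟶ ω, (t ∘ₗ Canon.HHlin k u.inv 1) ∘ₗ Canon.HHlin k χ 1 = t ∘ₗ Canon.HHlin k (χ ≫ u.inv) 1 :=
    fun χ => LinearMap.ext fun x => congrArg t (H29RR.hhlin_comp χ u.inv 1 x).symm
  refine ⟨φ ≫ u.hom, ?_, fun φ' h => ?_⟩
  · refine hφ.trans (Eq.trans ?_ (key _).symm)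
    rw [Category.assoc, Iso.hom_inv_id, Category.comp_id]
  · have h' := huniq (φ' ≫ u.inv) (h.trans (key φ'))
    rw [← h', Category.assoc, Iso.inv_hom_id, Category.comp_id]

attribute [local instance] H29CurveDual.homModule

/-- The Euler characteristic of the canonical sheaf of an lci curve. -/
theorem euler_canonical_curve {ω : X.Modules} (hω : PicF.IsInvertible ω)
    {t : Coh.HH X ω 1 →ₗ[k] k} (ht : ∀ F : X.Modules, Coh.IsCoh F → H29Serre.RepDual t F) :
    FGA.eulerCharLE k X ω 1 = - FGA.eulerCharLE k X (Coh.structureModule X) 1 := by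
  haveI := H29RR.isNoetherian_of_proper (k := k) (X := X)
  have hd : ∀ F : X.Modules, Coh.IsCoh F →
      Module.finrank k (Coh.HH X F 1) = Module.finrank k (F ⟶ ω) := fun F hF => by
    haveI := H10Coh.finite_HH_proper k X F hF 1
    rw [H29CurveDual.finrank_hom_dual t (ht F hF), Subspace.dual_finrank_eq]
  have h1 := hd _ (H10Coh.isCoh_structureModule' X)
  rw [H29CurveDual.finrank_hom_structure] at h1
  obtain ⟨N, hN, ⟨eN⟩⟩ := H29RR.exists_inverse_comm hω
  have h2 := hd _ (H29CurveDual.isCoh_of_isInvertible hω)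
  rw [H29CurveDual.finrank_hom_invertible k hN eN, H29CurveDual.finrank_h0_congr (k := k) eN 0] at h2
  simp only [FGA.eulerCharLE, Finset.sum_range_succ, Finset.range_one, Finset.sum_singleton]
  rw [h1, h2]
  ring

end Groth.Agent.H17.CanonSm
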