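import Groth.Agent.H17.Canon.RDual
import Groth.Agent.H10Coh.Proj.TwistQuot
import Groth.Agent.H16Derived.ProjFormula.ClosedImm

/-!
# Dualizing pairs on projective schemes over a Noetherian ring
-/

set_option autoImplicit false
set_option linter.style.haveILetI false

noncomputable section

universe u

open CategoryTheory CategoryTheory.Limits AlgebraicGeometry TopologicalSpace Opposite
open Groth.Agent.H10Coh

namespace Groth.Agent.H17.Canon

variable {A : Type u} [CommRing A] [IsNoetherianRing A] {n : ℕ}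

omit [IsNoetherianRing A] in
theorem exists_epi_twistProjSpace (F : (CohB1.ProjSpace n A).Modules) (hF : Coh.IsCoh F) :
    ∃ (N : ℕ) (d : Fin N → ℤ) (φ : (∐ fun j => Twist.twistProjSpace n A (d j)) ⟶ F), Epi φ := by
  refine ProjQ.exists_epi_twists (Pn.Gr n A) ?_ F hF
  rw [H29Serre.irrelevant_eq_span_X]
  exact ⟨_, rfl⟩

variable {X : Scheme.{u}} (ι : X ⟶ CohB1.ProjSpace n A) [IsClosedImmersion ι]

theorem exists_epi_pullback_twists (F : X.Modules) (hF : Coh.IsCoh F) :
    ∃ (N : ℕ) (d : Fin N → ℤ)
      (φ : (∐ fun j => (Scheme.Modules.pullback ι).obj (Twist.twistProjSpace n A (d j))) ⟶ F), Epi φ := by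
  haveI : IsNoetherian (CohB1.ProjSpace n A) := ProjQ.isNoetherian_proj (Pn.Gr n A)
  obtain ⟨N, d, φ, hφ⟩ := exists_epi_twistProjSpace _ (H10Coh.isCoh_push_of_isFinite ι F hF)
  haveI : IsIso ((Scheme.Modules.pullbackPushforwardAdjunction ι).counit.app F) :=
    H16Derived.ProjFormula.isIso_counit_of_isClosedImmersion ι F
  haveI : Epi ((Scheme.Modules.pullback ι).map φ) := inferInstance
  exact ⟨N, d, (PreservesCoproduct.iso (Scheme.Modules.pullback ι) _).inv ≫ (Scheme.Modules.pullback ι).map φ ≫
    (Scheme.Modules.pullbackPushforwardAdjunction ι).counit.app F, inferInstance⟩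

include ι in
theorem isNoetherian_source : AlgebraicGeometry.IsNoetherian X := by
  haveI : IsNoetherian (CohB1.ProjSpace n A) := ProjQ.isNoetherian_proj (Pn.Gr n A)
  haveI : IsLocallyNoetherian X := LocallyOfFiniteType.isLocallyNoetherian ι
  haveI : CompactSpace X := QuasiCompact.compactSpace_of_compactSpace ι
  exact ⟨⟩

end Groth.Agent.H17.Canon
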