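import Groth.Agent.H10Coh.ProjFormulaFLF
import Groth.Agent.H10Coh.SheafHom.Pullback
import Groth.Agent.H10Inj.SheafExt.RelExt
import Groth.Agent.H11Aff.DirImgColim
import Groth.Agent.H11Sym.InvertibleInverse
import Groth.Agent.H11Ample.Converse
import Groth.Agent.H17.FLI.DivExt
import Groth.Agent.H23Para.Restrict
import Groth.Agent.H29Disc.Generic
import Groth.Agent.H17.Canon.RDualPn
import Groth.Agent.H10Coh.TensorTilde
import Groth.Agent.H29Fitt.PullbackQCoh

/-!
# The right adjoint of the direct image along an affine morphism: twists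
-/

set_option autoImplicit false
set_option linter.style.haveILetI false
set_option linter.unusedSectionVars false

noncomputable section

universe u v

open CategoryTheory CategoryTheory.Limits AlgebraicGeometry TopologicalSpace Opposite
open Groth.Agent.H16Derived.ProjFormula Groth.Agent.H10Inj.SheafExt

namespace Groth.Agent.H17.Canon.FinPair

variable {X Z : Scheme.{u}} (π : X ⟶ Z)

/-- `- ⊗ N`. -/
abbrev TR {Y : Scheme.{u}} (N : Y.Modules) : Y.Modules ⥤ Y.Modules := (DCoh.tensorBi (X := Y)).flip.obj N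

/-- `N ⊗ -`. -/
abbrev TL {Y : Scheme.{u}} (N : Y.Modules) : Y.Modules ⥤ Y.Modules := (DCoh.tensorBi (X := Y)).obj N

/-- Symmetry, natural in one variable. -/
def swapIso {Y : Scheme.{u}} (N : Y.Modules) : TL N ≅ TR N := H15Site.ModTensor.tLIso (O := Y.sheaf) N

/-- `O ⊗ - ≅ id`. -/
def lam (Y : Scheme.{u}) : TL (Coh.structureModule Y) ≅ 𝟭 Y.Modules := swapIso _ ≪≫ ρ Y

theorem isQCoh_TL {Y : Scheme.{u}} {M N : Y.Modules} (hM : Coh.IsQCoh M) (hN : Coh.IsQCoh N) :
    Coh.IsQCoh ((TL M).obj N) :=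
  @H10Coh.TT.isQCoh_tensorMod Y M N hM hN

theorem isQCoh_pull {N : Z.Modules} (hN : Coh.IsQCoh N) : Coh.IsQCoh ((pull π).obj N) :=
  H29Fitt.isQCoh_pullback π N hN

theorem isQCoh_structure (Y : Scheme.{u}) : Coh.IsQCoh (Coh.structureModule Y) :=
  H29Fitt.isQCoh_of_isFP _ (H8Props.FinLocFree.isFP_of_isFinLocFree _ (H8Props.RelPC.isFinLocFree_structure Y))

theorem isQCoh_push [IsAffineHom π] {M : X.Modules} (hM : Coh.IsQCoh M) : Coh.IsQCoh ((push π).obj M) :=
  @H10Coh.isQuasicoherent_pushforward_of_isAffineHom _ _ π _ M hM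

/-- `F` preserves the small colimits of quasi-coherent modules. -/
def PresQC (F : Z.Modules ⥤ Z.Modules) : Prop :=
  ∀ (J : Type u) (_ : SmallCategory J) (D : J ⥤ Z.Modules), (∀ j, Coh.IsQCoh (D.obj j)) → PreservesColimit D F

theorem isIso_colimit_pt {F G : Z.Modules ⥤ Z.Modules} {J : Type u} [SmallCategory J] (D : J ⥤ Z.Modules)
    (hD : ∀ j, Coh.IsQCoh (D.obj j)) (α : ∀ E, Coh.IsQCoh E → (F.obj E ⟶ G.obj E))
    (hα : ∀ {E E'} (hE : Coh.IsQCoh E) (hE' : Coh.IsQCoh E') (f : E ⟶ E'), F.map f ≫ α E' hE' = α E hE ≫ G.map f)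
    (c : Cocone D) (hc : IsColimit c) (hpt : Coh.IsQCoh c.pt) (hF : PreservesColimit D F)
    (hG : PreservesColimit D G) (h : ∀ j, IsIso (α (D.obj j) (hD j))) : IsIso (α c.pt hpt) := by
  let w : D ⋙ F ≅ D ⋙ G :=
    NatIso.ofComponents (fun j => @asIso _ _ _ _ (α (D.obj j) (hD j)) (h j)) fun f => hα _ _ _
  let hF' := isColimitOfPreserves F hc
  let e := hF'.coconePointsIsoOfNatIso (isColimitOfPreserves G hc) w
  have he : e.hom = α c.pt hpt := hF'.hom_ext fun j => by
    rw [IsColimit.comp_coconePointsIsoOfNatIso_hom]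
    exact (hα (hD j) hpt (c.ι.app j)).symm
  rw [← he]
  infer_instance

/-- A map between functors preserving colimits of quasi-coherent modules is invertible on all of them when it is so
on a family of generators. -/
theorem isIso_of_gen [CompactSpace Z] [QuasiSeparatedSpace Z] {F G : Z.Modules ⥤ Z.Modules}
    (hF : PresQC F) (hG : PresQC G) (α : ∀ E, Coh.IsQCoh E → (F.obj E ⟶ G.obj E))
    (hα : ∀ {E E'} (hE : Coh.IsQCoh E) (hE' : Coh.IsQCoh E') (f : E ⟶ E'), F.map f ≫ α E' hE' = α E hE ≫ G.map f)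
    {κ : Type v} (L : κ → Z.Modules) (hL : ∀ a, Coh.IsQCoh (L a))
    (hgen : ∀ E : Z.Modules, Coh.IsQCoh E → ∃ (ι : Type u) (a : ι → κ) (p : (∐ fun i => L (a i)) ⟶ E), Epi p)
    (h : ∀ a, IsIso (α (L a) (hL a))) (E : Z.Modules) (hE : Coh.IsQCoh E) : IsIso (α E hE) := by
  have hq : ∀ (ι : Type u) (a : ι → κ), Coh.IsQCoh (∐ fun i => L (a i)) := fun ι a =>
    H10Coh.isQuasicoherent_coproduct _ fun i => hL (a i)
  have hsum : ∀ (ι : Type u) (a : ι → κ), IsIso (α (∐ fun i => L (a i)) (hq ι a)) := fun ι a =>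
    isIso_colimit_pt (Discrete.functor fun i => L (a i)) (fun j => hL (a j.as)) α hα _
      (colimit.isColimit _) (hq ι a) (hF _ _ _ fun j => hL (a j.as)) (hG _ _ _ fun j => hL (a j.as))
      fun j => h (a j.as)
  obtain ⟨ι, a, p, hp⟩ := hgen E hE
  obtain ⟨ι', a', p', hp'⟩ := hgen (kernel p) (@H10Coh.isQuasicoherent_kernel _ _ _ p (hq ι a) hE)
  let f := p' ≫ kernel.ι p
  let c : CokernelCofork f := CokernelCofork.ofπ p (by simp [f])
  have hc : IsColimit c := by
    have h0 : (ShortComplex.mk (kernel.ι p) p (kernel.condition p)).Exact := ShortComplex.exact_kernel p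
    exact isCokernelEpiComp h0.gIsCokernel p' rfl
  let eq : AsSmall.{u} WalkingParallelPair ≌ WalkingParallelPair := AsSmall.equiv.symm
  have hk : ∀ (k : WalkingParallelPair) (hk : Coh.IsQCoh ((parallelPair f 0).obj k)),
      IsIso (α ((parallelPair f 0).obj k) hk) := by
    intro k hk
    cases k
    · exact hsum ι' a'
    · exact hsum ι a
  have hD : ∀ j, Coh.IsQCoh ((eq.functor ⋙ parallelPair f 0).obj j) := fun j => by
    show Coh.IsQCoh ((parallelPair f 0).obj (eq.functor.obj j))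
    cases eq.functor.obj j
    · exact hq ι' a'
    · exact hq ι a
  exact isIso_colimit_pt (eq.functor ⋙ parallelPair f 0) hD α hα (c.whisker eq.functor)
    (hc.whiskerEquivalence eq) hE (hF _ _ _ hD) (hG _ _ _ hD) fun j => hk _ (hD j)

theorem presQC_of_isLeftAdjoint (F : Z.Modules ⥤ Z.Modules) [F.IsLeftAdjoint] : PresQC F :=
  fun J _ D _ => inferInstance

instance (Y : Scheme.{u}) (N : Y.Modules) : (TL N).IsLeftAdjoint := (homAdj N).isLeftAdjoint

/-- `N ↦ π_*(M ⊗ π^* N)`. -/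
abbrev T2 (M : X.Modules) : Z.Modules ⥤ Z.Modules := (pull π ⋙ TL M) ⋙ push π

theorem presQC_T2 [IsAffineHom π] {M : X.Modules} (hM : Coh.IsQCoh M) : PresQC (T2 π M) := by
  intro J _ D hD
  haveI : (pull π).IsLeftAdjoint := (adj π).isLeftAdjoint
  haveI : PreservesColimit D (pull π ⋙ TL M) := inferInstance
  haveI := H11Aff.DirImgColim.preservesColimit_pushforward π (D ⋙ pull π ⋙ TL M)
    fun j => isQCoh_TL hM (isQCoh_pull π (hD j))
  exact Limits.comp_preservesColimit _ _

section Gen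

variable [IsAffineHom π] [CompactSpace Z] [QuasiSeparatedSpace Z] {κ : Type v} (L : κ → Z.Modules)
  (hL : ∀ a, PicF.IsInvertible (L a))
  (hgen : ∀ E : Z.Modules, Coh.IsQCoh E → ∃ (ι : Type u) (a : ι → κ) (p : (∐ fun i => L (a i)) ⟶ E), Epi p)

include hL in
theorem isQCoh_gen (a : κ) : Coh.IsQCoh (L a) := (H11Ample.isCoh_of_isInvertible (hL a)).1

include hL hgen in
/-- The projection formula along an affine morphism. -/
theorem isIso_ψ_qcoh {M : X.Modules} (hM : Coh.IsQCoh M) (E : Z.Modules) (hE : Coh.IsQCoh E) :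
    IsIso (ψ π M E) :=
  isIso_of_gen (F := TL ((push π).obj M)) (G := T2 π M) (presQC_of_isLeftAdjoint _) (presQC_T2 π hM)
    (fun E _ => ψ π M E) (fun _ _ f => ψ_naturality π M f) L (isQCoh_gen L hL) hgen
    (fun a => H10Coh.PF.isIso_ψ_of_isFinLocFree π (H23Para.isFinLocFree_of_isInvertible (hL a)) M) E hE

end Gen

/-- `π_* O`. -/
abbrev P : Z.Modules := (push π).obj (Coh.structureModule X)

/-- The action of `π_* O` on a direct image. -/
def act (V : X.Modules) : (TL (P π)).obj ((push π).obj V) ⟶ (push π).obj V :=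
  ψ π (Coh.structureModule X) ((push π).obj V) ≫
    (push π).map ((lam X).hom.app ((pull π).obj ((push π).obj V)) ≫ (adj π).counit.app V)

theorem act_natural {V V' : X.Modules} (φ : V ⟶ V') :
    (TL (P π)).map ((push π).map φ) ≫ act π V' = act π V ≫ (push π).map φ := by
  have h1 := (adj π).counit.naturality φ
  have h2 := (lam X).hom.naturality ((pull π).map ((push π).map φ))
  simp only [Functor.id_map, Functor.comp_map] at h1 h2
  rw [act, act, ← Category.assoc, ψ_naturality, Category.assoc, Category.assoc, ← Functor.map_comp,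
    ← Functor.map_comp, Category.assoc, ← h1, ← Category.assoc, ← Category.assoc]
  exact congrArg (fun t => ψ π _ _ ≫ (push π).map (t ≫ _)) h2

/-- `π_* V ⟶ 𝓗om(π_* O, E)` defined by a trace. -/
def trMap {V : X.Modules} {E : Z.Modules} (τ : (push π).obj V ⟶ E) :
    (push π).obj V ⟶ (homFunctor (P π)).obj E :=
  (homAdj (P π)).homEquiv _ _ (act π V ≫ τ)

theorem trMap_natural {V V' : X.Modules} {E E' : Z.Modules} {τ : (push π).obj V ⟶ E}
    {τ' : (push π).obj V' ⟶ E'} {φ : V ⟶ V'} {f : E ⟶ E'} (h : (push π).map φ ≫ τ' = τ ≫ f) :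
    (push π).map φ ≫ trMap π τ' = trMap π τ ≫ (homFunctor (P π)).map f := by
  rw [trMap, trMap, ← Adjunction.homEquiv_naturality_left, ← Adjunction.homEquiv_naturality_right,
    ← Category.assoc, act_natural, Category.assoc, Category.assoc, h]

/-- `(V, τ)` represents `F ↦ Hom(π_* F, E)` on quasi-coherent modules. -/
def Univ {V : X.Modules} {E : Z.Modules} (τ : (push π).obj V ⟶ E) : Prop :=
  ∀ F : X.Modules, Coh.IsQCoh F → Function.Bijective (fun φ : F ⟶ V => (push π).map φ ≫ τ)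

theorem nonempty_iso_of_univ {V V' : X.Modules} {E : Z.Modules} {τ : (push π).obj V ⟶ E}
    {τ' : (push π).obj V' ⟶ E} (hV : Coh.IsQCoh V) (hV' : Coh.IsQCoh V') (h : Univ π τ) (h' : Univ π τ') :
    Nonempty (V ≅ V') := by
  obtain ⟨f, hf⟩ := (h' V hV).2 τ
  obtain ⟨g, hg⟩ := (h V' hV').2 τ'
  refine ⟨⟨f, g, (h V hV).1 ?_, (h' V' hV').1 ?_⟩⟩
  · dsimp only at hf hg ⊢
    simp [hf, hg]
  · dsimp only at hf hg ⊢
    simp [hf, hg]

theorem isIso_of_isIso_push [IsAffineHom π] {V V' : X.Modules} (hV : Coh.IsQCoh V) (hV' : Coh.IsQCoh V')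
    (φ : V ⟶ V') [IsIso ((push π).map φ)] : IsIso φ := by
  refine H11Aff.AffinePush.isIso_of_affineCover φ hV hV' (fun W : Z.affineOpens => π ⁻¹ᵁ W.1)
    (fun W => W.2.preimage π) (fun x => ?_) fun W => ?_
  · obtain ⟨W, hW, hxW, -⟩ := exists_isAffineOpen_mem_and_subset (U := (⊤ : Z.Opens)) (x := π.base x) trivial
    exact ⟨⟨W, hW⟩, hxW⟩
  · haveI : IsIso ((push π).map φ).mapPresheaf :=
      inferInstanceAs (IsIso ((Scheme.Modules.toPresheaf _).map ((push π).map φ)))
    exact ConcreteCategory.bijective_of_isIso (((push π).map φ).mapPresheaf.app (op W.1))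

section Flat

variable [IsAffineHom π] [CompactSpace Z] [QuasiSeparatedSpace Z] {κ : Type v} (L : κ → Z.Modules)
  (hL : ∀ a, PicF.IsInvertible (L a))
  (hgen : ∀ E : Z.Modules, Coh.IsQCoh E → ∃ (ι : Type u) (a : ι → κ) (p : (∐ fun i => L (a i)) ⟶ E), Epi p)
  (hP : FlatMod.IsFinLocFree (P π))

include hP in
theorem isQCoh_homP {E : Z.Modules} (hE : Coh.IsQCoh E) : Coh.IsQCoh ((homFunctor (P π)).obj E) :=
  H29Ref.isQCoh_homSh _ _ (H8Props.FinLocFree.isFP_of_isFinLocFree _ hP) hE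

include hL hgen hP in
theorem isIso_trMap_of_univ {V : X.Modules} {E : Z.Modules} {τ : (push π).obj V ⟶ E} (hV : Coh.IsQCoh V)
    (hE : Coh.IsQCoh E) (h : Univ π τ) : IsIso (trMap π τ) := by
  have bij : ∀ M : Z.Modules, Coh.IsQCoh M →
      Function.Bijective (fun k : M ⟶ (push π).obj V => k ≫ trMap π τ) := by
    intro M hM
    haveI := isIso_ψ_qcoh π L hL hgen (isQCoh_structure X) M hM
    let a : (TL (P π)).obj M ⟶ (push π).obj ((pull π).obj M) :=
      ψ π (Coh.structureModule X) M ≫ (push π).map ((lam X).hom.app ((pull π).obj M))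
    haveI : IsIso a := IsIso.comp_isIso
    have e : (fun k : M ⟶ (push π).obj V => k ≫ trMap π τ) = (homAdj (P π)).homEquiv M E ∘
        (fun g : (push π).obj ((pull π).obj M) ⟶ E => a ≫ g) ∘
          (fun φ : (pull π).obj M ⟶ V => (push π).map φ ≫ τ) ∘ ((adj π).homEquiv M V).symm := by
      funext k
      simp only [Function.comp_apply, trMap, ← Adjunction.homEquiv_naturality_left]
      congr 1
      have h2 := (lam X).hom.naturality ((pull π).map k)
      simp only [Functor.id_map] at h2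
      rw [act, Adjunction.homEquiv_counit]
      simp only [a, Category.assoc, Functor.map_comp]
      rw [← Category.assoc, ψ_naturality, Category.assoc]
      simp only [← Functor.map_comp_assoc]
      congr 2
      simp only [← Category.assoc, h2]
    rw [e]
    exact ((homAdj (P π)).homEquiv M E).bijective.comp
      (Function.Bijective.comp (⟨fun g g' hg => (cancel_epi a).1 hg,
        fun g => ⟨inv a ≫ g, IsIso.hom_inv_id_assoc a g⟩⟩ :
        Function.Bijective fun g : (push π).obj ((pull π).obj M) ⟶ E => a ≫ g)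
        ((h _ (isQCoh_pull π hM)).comp (((adj π).homEquiv M V).symm).bijective))
  obtain ⟨g, hg⟩ := (bij _ (isQCoh_homP π hP hE)).2 (𝟙 _)
  dsimp only at hg
  refine ⟨g, (bij _ (isQCoh_push π hV)).1 ?_, hg⟩
  dsimp only
  rw [Category.assoc, hg, Category.comp_id, Category.id_comp]

variable {W : X.Modules} (hW : Coh.IsQCoh W) (τ₀ : (push π).obj W ⟶ Coh.structureModule Z)

/-- The trace of `W ⊗ π^* E`. -/
def twTr (E : Z.Modules) (hψ : IsIso (ψ π W E)) : (push π).obj ((TL W).obj ((pull π).obj E)) ⟶ E :=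
  @inv _ _ _ _ (ψ π W E) hψ ≫ (TR E).map τ₀ ≫ (lam Z).hom.app E

include hL hgen hP hW in
theorem isIso_trMap_twTr (h₀ : Univ π τ₀) (hinv : ∀ a (hψ : IsIso (ψ π W (L a))), Univ π (twTr π τ₀ (L a) hψ))
    (E : Z.Modules) (hE : Coh.IsQCoh E) (hψ : IsIso (ψ π W E)) : IsIso (trMap π (twTr π τ₀ E hψ)) := by
  haveI : (homFunctor (P π)).IsLeftAdjoint :=
    ((homAdj (RefHull.dual (P π))).ofNatIsoLeft (dualHomIso (P π) hP)).isLeftAdjoint
  refine isIso_of_gen (F := T2 π W) (G := homFunctor (P π)) (presQC_T2 π hW) (presQC_of_isLeftAdjoint _)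
    (fun E hE => trMap π (twTr π τ₀ E (isIso_ψ_qcoh π L hL hgen hW E hE))) (fun {E E'} hE hE' f => ?_)
    L (isQCoh_gen L hL) hgen
    (fun a => isIso_trMap_of_univ π L hL hgen hP (isQCoh_TL hW (isQCoh_pull π (isQCoh_gen L hL a)))
      (isQCoh_gen L hL a) (hinv a _)) E hE
  refine trMap_natural π ?_
  haveI := isIso_ψ_qcoh π L hL hgen hW E hE
  haveI := isIso_ψ_qcoh π L hL hgen hW E' hE'
  show (push π).map ((TL W).map ((pull π).map f)) ≫ inv (ψ π W E') ≫ (TR E').map τ₀ ≫ (lam Z).hom.app E' =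
    (inv (ψ π W E) ≫ (TR E).map τ₀ ≫ (lam Z).hom.app E) ≫ f
  rw [← cancel_epi (ψ π W E), ← Category.assoc, ← ψ_naturality]
  simp only [Category.assoc, IsIso.hom_inv_id_assoc]
  have h1 := ((DCoh.tensorBi (X := Z)).map τ₀).naturality f
  have h2 := (lam Z).hom.naturality f
  dsimp at h1 h2 ⊢
  rw [← Category.assoc, h1, Category.assoc, h2]

end Flat

theorem bijective_postcomp {C : Type*} [Category C] {A B B' : C} (f : B ⟶ B') [IsIso f] :
    Function.Bijective fun g : A ⟶ B => g ≫ f :=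
  ⟨fun g g' h => (cancel_mono f).1 h, fun g => ⟨g ≫ inv f, by simp⟩⟩

theorem bijective_precomp {C : Type*} [Category C] {A A' B : C} (f : A' ⟶ A) [IsIso f] :
    Function.Bijective fun g : A ⟶ B => f ≫ g :=
  ⟨fun g g' h => (cancel_epi f).1 h, fun g => ⟨inv f ≫ g, by simp⟩⟩

variable {W : X.Modules} {τ₀ : (push π).obj W ⟶ Coh.structureModule Z}

/-- Twists of a universal pair by invertible modules are universal. -/
theorem univ_twTr_of_isInvertible (h₀ : Univ π τ₀) (L : Z.Modules) (hL : PicF.IsInvertible L)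
    (hψ : IsIso (ψ π W L)) : Univ π (twTr π τ₀ L hψ) := by
  intro F hF
  let N := (pull π).obj L
  obtain ⟨N', hN', ⟨e'⟩⟩ := H11Sym.exists_inverse (H11Ample.isInvertible_pullback π hL)
  obtain ⟨L', -, ⟨e⟩⟩ := H11Sym.exists_inverse hL
  haveI : (TR N).IsEquivalence := FLI.DivExt.isEquivalence_flip (H11Ample.tensorCommIso _ _ ≪≫ e')
  haveI : (TR L).IsEquivalence := FLI.DivExt.isEquivalence_flip (H11Ample.tensorCommIso _ _ ≪≫ e)
  let F' := CohB1.tensorMod F N'
  have hF' : Coh.IsQCoh F' := isQCoh_TL hF (H11Ample.isCoh_of_isInvertible hN').1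
  let j : (TR N).obj F' ≅ F := H11Ample.tensorAssocIso F N' N ≪≫ (TL F).mapIso e' ≪≫ (ρ X).app F
  haveI : IsIso (ψ π F' L) := H10Coh.PF.isIso_ψ_of_isFinLocFree π (H23Para.isFinLocFree_of_isInvertible hL) F'
  let c := ψ π F' L ≫ (push π).map j.hom
  haveI : IsIso c := IsIso.comp_isIso
  have key : (fun φ' : F' ⟶ W => (TR L).map ((push π).map φ' ≫ τ₀) ≫ (lam Z).hom.app L) =
      (fun g : (push π).obj F ⟶ L => c ≫ g) ∘
        (fun φ : F ⟶ (TL W).obj N => (push π).map φ ≫ twTr π τ₀ L hψ) ∘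
          (fun k : (TR N).obj F' ⟶ (TR N).obj W => j.inv ≫ k) ∘ (TR N).map := by
    funext φ'
    simp only [Function.comp_apply, c, twTr, Category.assoc, ← Functor.map_comp_assoc, Iso.hom_inv_id_assoc]
    rw [Functor.map_comp, Category.assoc]
    have h1 := ψ_naturality_left π φ' L
    dsimp at h1 ⊢
    rw [← reassoc_of% h1, IsIso.hom_inv_id_assoc]
  have hb : Function.Bijective fun φ' : F' ⟶ W => (TR L).map ((push π).map φ' ≫ τ₀) ≫ (lam Z).hom.app L :=
    (bijective_postcomp ((lam Z).hom.app L)).comp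
      (((Functor.FullyFaithful.ofFullyFaithful (TR L)).homEquiv.bijective).comp (h₀ F' hF'))
  rw [key] at hb
  refine ((bijective_precomp c).of_comp_iff' _).1 ?_
  exact (Function.Bijective.of_comp_iff _ ((bijective_precomp j.inv).comp
    ((Functor.FullyFaithful.ofFullyFaithful (TR N)).homEquiv.bijective))).1 hb

/-- The finite locally free twist of a universal pair is universal. -/
theorem exists_univ_of_isFinLocFree [IsAffineHom π] (h₀ : Univ π τ₀) (hW : Coh.IsQCoh W) {E : Z.Modules}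
    (hE : FlatMod.IsFinLocFree E) :
    ∃ (Q : X.Modules) (τ : (push π).obj Q ⟶ E), Coh.IsQCoh Q ∧ Univ π τ ∧
      Nonempty (Q ≅ CohB1.tensorMod W ((pull π).obj E)) := by
  let E' := RefHull.dual E
  have hE' : FlatMod.IsFinLocFree E' := isFinLocFree_dual hE
  haveI := isIso_bidualMap hE
  let j : (homFunctor E').obj (Coh.structureModule Z) ≅ E := (asIso (RefHull.bidualMap E)).symm
  let N := (pull π).obj E'
  have hN : CohB1.IsFP N :=
    H8Props.FinLocFree.isFP_of_isFinLocFree _ (H16Derived.KFlat.Stalk.isFinLocFree_pullback π hE')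
  let Φ : ∀ F : X.Modules, (F ⟶ (homFunctor N).obj W) → ((push π).obj F ⟶ E) := fun F φ =>
    (homAdj E').homEquiv _ _ ((swapIso E').hom.app ((push π).obj F) ≫ ψ π F E' ≫
      (push π).map ((swapIso N).inv.app F ≫ ((homAdj N).homEquiv _ _).symm φ) ≫ τ₀) ≫ j.hom
  have hΦ : ∀ {F F' : X.Modules} (h : F' ⟶ F) (φ : F ⟶ (homFunctor N).obj W),
      Φ F' (h ≫ φ) = (push π).map h ≫ Φ F φ := by
    intro F F' h φ
    simp only [Φ]
    refine Eq.trans (congrArg (· ≫ j.hom) ?_) (Category.assoc _ _ _)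
    rw [← Adjunction.homEquiv_naturality_left, Adjunction.homEquiv_naturality_left_symm]
    congr 1
    have h1 := (swapIso E').hom.naturality ((push π).map h)
    have h2 := ψ_naturality_left π h E'
    have h3 := (swapIso N).inv.naturality h
    dsimp at h1 h2 h3 ⊢
    rw [reassoc_of% h1, reassoc_of% h2, ← Category.assoc ((swapIso N).inv.app F'), ← h3]
    simp only [Functor.map_comp, Category.assoc]
    rfl
  refine ⟨(homFunctor N).obj W, Φ _ (𝟙 _), H29Ref.isQCoh_homSh _ _ hN hW, fun F hF => ?_, ?_⟩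
  · have e : (fun φ : F ⟶ (homFunctor N).obj W => (push π).map φ ≫ Φ _ (𝟙 _)) = Φ F := by
      funext φ
      rw [← hΦ φ (𝟙 _), Category.comp_id]
    rw [e]
    haveI := H10Coh.PF.isIso_ψ_of_isFinLocFree π hE' F
    have hN' : Coh.IsQCoh N := H29Fitt.isQCoh_of_isFP _ hN
    refine (bijective_postcomp j.hom).comp (((homAdj E').homEquiv _ _).bijective.comp ?_)
    refine (bijective_precomp _).comp ((bijective_precomp (ψ π F E')).comp ?_)
    exact (h₀ _ (isQCoh_TL hF hN')).comp ((bijective_precomp ((swapIso N).inv.app F)).comp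
      (((homAdj N).homEquiv _ _).symm.bijective))
  · haveI : E'.IsQuasicoherent := H29Fitt.isQCoh_of_isFP _ (H8Props.FinLocFree.isFP_of_isFinLocFree _ hE')
    haveI : (Coh.structureModule Z).IsQuasicoherent := isQCoh_structure Z
    obtain ⟨c, -⟩ := H10Coh.SheafHom.exists_pullIso (q := π) (F := E') (G := Coh.structureModule Z) hE'
    let d : RefHull.dual N ≅ (pull π).obj E :=
      (homFunctor N).mapIso (H16Derived.KFlat.Stalk.structurePullbackIso π).symm ≪≫ c.symm ≪≫ (pull π).mapIso j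
    exact ⟨(@asIso _ _ _ _ (dualHom N W) (isIso_dualHom W
      (H16Derived.KFlat.Stalk.isFinLocFree_pullback π hE'))).symm ≪≫
      ((DCoh.tensorBi (X := X)).mapIso d).app W ≪≫ tensorSwapIso _ _⟩

section Main

variable [IsAffineHom π] [CompactSpace Z] [QuasiSeparatedSpace Z] {κ : Type v} (L : κ → Z.Modules)
  (hL : ∀ a, PicF.IsInvertible (L a))
  (hgen : ∀ E : Z.Modules, Coh.IsQCoh E → ∃ (ι : Type u) (a : ι → κ) (p : (∐ fun i => L (a i)) ⟶ E), Epi p)

include hL hgen in
theorem nonempty_iso_of_finLocFree_push (hP : FlatMod.IsFinLocFree (P π)) (hW : Coh.IsQCoh W)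
    (h₀ : Univ π τ₀) {V : X.Modules} {E : Z.Modules} {τ : (push π).obj V ⟶ E} (hV : Coh.IsQCoh V)
    (hE : Coh.IsQCoh E) (h : Univ π τ) : Nonempty (V ≅ CohB1.tensorMod W ((pull π).obj E)) := by
  have hψ := isIso_ψ_qcoh π L hL hgen hW E hE
  have hG := isQCoh_TL hW (isQCoh_pull π hE)
  obtain ⟨φ, hφ⟩ := (h _ hG).2 (twTr π τ₀ E hψ)
  have h1 := isIso_trMap_twTr π L hL hgen hP hW τ₀ h₀
    (fun a hψ => univ_twTr_of_isInvertible π h₀ (L a) (hL a) hψ) E hE hψ
  have h2 := isIso_trMap_of_univ π L hL hgen hP hV hE h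
  have h3 : (push π).map φ ≫ trMap π τ = trMap π (twTr π τ₀ E hψ) := by
    refine (trMap_natural π (τ := twTr π τ₀ E hψ) (f := 𝟙 E) ?_).trans (by simp)
    simpa using hφ
  haveI : IsIso ((push π).map φ ≫ trMap π τ) := h3 ▸ h1
  haveI : IsIso ((push π).map φ) := IsIso.of_isIso_comp_right _ (trMap π τ)
  haveI := isIso_of_isIso_push π hG hV φ
  exact ⟨(asIso φ).symm⟩

end Main

end Groth.Agent.H17.Canon.FinPair
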