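import Groth.Agent.H17.Canon.Comp
import Groth.Agent.H7Lim.GenericSmoothDim
import Groth.Agent.H22Alg.FlatSurj
import Groth.Agent.H8Props.KoszImm.LCI
import Groth.Agent.H8Props.KoszImm.Comp
import Groth.Agent.S5003
import Groth.Agent.H11Ample.Converse
import Groth.Agent.H16Derived.KFlat.FinLocFree
import Groth.Prelude.Def_Dual3

/-!
# Canonical sheaves on the generic fibre
-/

set_option autoImplicit false
set_option linter.style.haveILetI false
set_option backward.isDefEq.respectTransparency false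
set_option synthInstance.maxHeartbeats 400000
set_option maxHeartbeats 3200000

universe u

open CategoryTheory CategoryTheory.Limits AlgebraicGeometry Opposite TopologicalSpace

namespace Groth.Agent.H17.CanonSm

/-- An lci morphism is Koszul at every point. -/
theorem isKoszulAt_of_isLCIMor {X S : Scheme.{u}} {f : X ⟶ S} (hf : Dual3.IsLCIMor f) (x : X) :
    Synt.IsKoszulAt f x := by
  obtain ⟨U, V, e, hxU, h⟩ := hf x
  letI := (f.appLE V.1 U.1 e).hom.toAlgebra
  obtain ⟨z, rfl⟩ : x ∈ Set.range U.2.fromSpec := by rw [U.2.range_fromSpec]; exact hxU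
  refine (H8Props.KoszImm.isKoszulAt_open_iff U.2.fromSpec f z).1 ?_
  rw [← IsAffineOpen.SpecMap_appLE_fromSpec f V.2 U.2 e]
  exact H8Props.KoszImm.isKoszulAt_comp _ _ z
    ((H8Props.KoszImm.forall_isKoszulAt_Spec_iff (A := Γ(S, V.1)) (B := Γ(X, U.1))).2 h z)
    (H8Props.AlgSpLci.isKoszulAt_of_smooth _ _)

/-- A locally free module on an irreducible scheme has constant rank. -/
theorem exists_rank {X : Scheme.{u}} (η : X) (hη : ∀ U : X.Opens, ∀ x ∈ U, η ∈ U) {M : X.Modules}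
    (hM : FlatMod.IsFinLocFree M) : ∃ c, FlatMod.IsFinLocFreeOfRank c M := by
  obtain ⟨U₀, c, hη₀, ⟨e₀⟩⟩ := hM η
  refine ⟨c, fun x => ?_⟩
  obtain ⟨U, m, hxU, ⟨e⟩⟩ := hM x
  obtain ⟨V, hV, hxV, hle⟩ := exists_isAffineOpen_mem_and_subset (x := η) (U := U ⊓ U₀) ⟨hη U x hxU, hη₀⟩
  obtain ⟨b⟩ := H8Props.FinLocFree.exists_basis_of_chart M e (fun y hy => (hle hy).1)
  obtain ⟨b₀⟩ := H8Props.FinLocFree.exists_basis_of_chart M e₀ (fun y hy => (hle hy).2)
  haveI : Nontrivial Γ(X, V) := (X.presheaf.germ V η hxV).hom.domain_nontrivial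
  obtain rfl : m = c := by
    simpa using (Module.finrank_eq_card_basis b).symm.trans (Module.finrank_eq_card_basis b₀)
  exact ⟨U, hxU, ⟨e⟩⟩

/-- A canonical sheaf through a factorisation with locally free conormal sheaf exists and is invertible. -/
theorem exists_via {X Y Z : Scheme.{u}} (i : X ⟶ Z) (g : Z ⟶ Y) [IsImmersion i] [QuasiCompact i] [QuasiSeparated g]
    {c n : ℕ} [SmoothOfRelativeDimension n g] (hC : FlatMod.IsFinLocFreeOfRank c (Omega.conormal i)) :
    ∃ ω : X.Modules, Canon.IsCanonicalVia i g c n ω ∧ PicF.IsInvertible ω := by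
  obtain ⟨DC, hDC⟩ := H22Alg.ExtPowSheaf.exists_isExtPow c (isQCoh_conormal' i)
  obtain ⟨DΩ, hDΩ⟩ := H22Alg.ExtPowSheaf.exists_isExtPow n (H29Omega.isQCoh_sheaf g)
  obtain ⟨I, hI, ⟨eI⟩⟩ := H11Sym.exists_inverse
    (FLI.isInvertible_of_rank_one (FLI.isInvertible_extPow hC hDC))
  refine ⟨CohB1.tensorMod ((Scheme.Modules.pullback i).obj DΩ) I, ⟨DC, DΩ, hDC, hDΩ,
    ⟨H10Coh.Tw.assoc _ I DC ≪≫ H25Theta.tI (Iso.refl _) eI ≪≫ H10Coh.Tw.rightUnitIso _⟩⟩, ?_⟩
  exact H28Mero.isInvertible_tensor (FLI.isInvertible_of_rank_one (FLI.isInvertible_extPow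
    (H26Gr.isFinLocFreeOfRank_pullback i (H28RR.isFinLocFreeOfRank_omega g n))
    (H22Alg.ExtPowHom.isExtPow_pullback i (H29Omega.isQCoh_sheaf g) hDΩ))) hI

/-- Restriction to an open of the target. -/
theorem via_restrict {X Y Z : Scheme.{u}} (i : X ⟶ Z) (g : Z ⟶ Y) [IsImmersion i] [QuasiCompact i] [QuasiSeparated g]
    {c n : ℕ} (hC : FlatMod.IsFinLocFreeOfRank c (Omega.conormal i)) {ω : X.Modules}
    (hω : Canon.IsCanonicalVia i g c n ω) (W : Z.Opens) [QuasiSeparated (W.ι ≫ g)] :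
    FlatMod.IsFinLocFreeOfRank c (Omega.conormal (i ∣_ W)) ∧
      Canon.IsCanonicalVia (i ∣_ W) (W.ι ≫ g) c n ((Scheme.Modules.pullback (i ⁻¹ᵁ W).ι).obj ω) := by
  obtain ⟨DC, DΩ, hDC, hDΩ, ⟨e⟩⟩ := hω
  obtain ⟨eC⟩ := nonempty_conormal_restrict i W
  obtain ⟨eW⟩ := H29Omega.nonempty_restrict_iso_sheaf (H17.PrinOmega.isUniversal_dOmega g) W.ι
  refine ⟨H26Gr.isFinLocFreeOfRank_of_iso eC (H26Gr.isFinLocFreeOfRank_pullback _ hC), _, _,
    H22Alg.ExtPowSES.isExtPow_of_iso eC (H22Alg.ExtPowHom.isExtPow_pullback _ (isQCoh_conormal' i) hDC),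
    H22Alg.ExtPowSES.isExtPow_of_iso
      (((Scheme.Modules.restrictFunctorIsoPullback W.ι).app (Omega.sheaf g)).symm ≪≫ eW)
      (H22Alg.ExtPowHom.isExtPow_pullback W.ι (H29Omega.isQCoh_sheaf g) hDΩ), ⟨?_⟩⟩
  exact (H25Theta.pT _ ω DC).symm ≪≫ (Scheme.Modules.pullback _).mapIso e ≪≫
    H25Theta.pC _ i rfl DΩ ≪≫ (H25Theta.pC (i ∣_ W) W.ι (morphismRestrict_ι i W) DΩ).symm

/-- An invertible module on a one-point scheme is trivial. -/
theorem nonempty_iso_structure_of_subsingleton {T : Scheme.{u}} [Subsingleton T] [Nonempty T] {L : T.Modules}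
    (hL : PicF.IsInvertible L) : Nonempty (L ≅ Coh.structureModule T) := by
  obtain ⟨t⟩ := ‹Nonempty T›
  obtain ⟨U, htU, ⟨e⟩⟩ := hL t
  haveI : IsIso U.ι := by
    haveI : Surjective U.ι := ⟨fun x => ⟨⟨x, Subsingleton.elim t x ▸ htU⟩, rfl⟩⟩
    exact isIso_iff_isOpenImmersion_and_epi_base U.ι |>.mpr
      ⟨inferInstance, (TopCat.epi_iff_surjective _).2 U.ι.surjective⟩
  exact ⟨(H25Theta.pI (inv U.ι ≫ U.ι) (IsIso.inv_hom_id _) L).symm ≪≫
    (H25Theta.pC (inv U.ι) U.ι rfl L).symm ≪≫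
    (Scheme.Modules.pullback (inv U.ι)).mapIso
      (((Scheme.Modules.restrictFunctorIsoPullback U.ι).app L).symm ≪≫ e) ≪≫
    H16Derived.KFlat.Stalk.structurePullbackIso (inv U.ι)⟩

/-- Immersions into locally Noetherian schemes are quasi-compact. -/
theorem quasiCompact_of_immersion {X Z : Scheme.{u}} (w : X ⟶ Z) [IsImmersion w] [IsLocallyNoetherian Z] :
    QuasiCompact w := by
  rw [← w.liftCoborder_ι]
  infer_instance

/-- The restriction of a canonical sheaf to the generic fibre of an lci morphism is canonical. -/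
theorem isCanonical_genericFibre {S X B : Scheme.{u}} [IsLocallyNoetherian S] [IsIntegral B] {pX : X ⟶ S}
    {pB : B ⟶ S} [QuasiSeparated pB] [LocallyOfFiniteType pB] [LocallyOfFiniteType pX] {π : X ⟶ B}
    (hπ : π ≫ pB = pX) (hπK : ∀ x, Synt.IsKoszulAt π x) (hBK : ∀ b, Synt.IsKoszulAt pB b)
    {ω : X.Modules} (hω : Canon.IsCanonical pX ω) :
    Canon.IsCanonical (pullback.snd π (B.fromSpecStalk (genericPoint B)))
      ((Scheme.Modules.pullback (pullback.fst π (B.fromSpecStalk (genericPoint B)))).obj ω) := by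
  obtain ⟨Z, i, g, c, n, hfac, hreg, hn, hqc, hqs, hvia⟩ := hω
  haveI := hreg.1
  haveI : Smooth g := SmoothOfRelativeDimension.smooth n g
  haveI : LocallyOfFiniteType π := by
    haveI : LocallyOfFiniteType (π ≫ pB) := hπ ▸ inferInstance
    exact locallyOfFiniteType_of_comp π pB
  let η := genericPoint B
  let T := Spec (B.presheaf.stalk η)
  let s0 : T ⟶ B := B.fromSpecStalk η
  let fX := pullback.fst π s0
  let sX := pullback.snd π s0
  haveI : IsLocallyNoetherian T := inferInstanceAs (IsLocallyNoetherian (Spec B.functionField))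
  haveI hTsub : Subsingleton T := inferInstanceAs (Subsingleton (PrimeSpectrum B.functionField))
  haveI : Nonempty T := inferInstanceAs (Nonempty (PrimeSpectrum B.functionField))
  haveI : IsLocallyNoetherian (pullback π s0) := LocallyOfFiniteType.isLocallyNoetherian sX
  rcases isEmpty_or_nonempty (pullback π s0 : Scheme.{u}) with hE | hE
  · have hz : ∀ M : (pullback π s0).Modules, IsZero M := fun M =>
      H16Derived.KFlat.Stalk.isZero_of_stalk fun x => isEmptyElim x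
    haveI : IsOpenImmersion sX := isOpenImmersion_of_isEmpty _
    haveI : QuasiCompact sX := quasiCompact_of_immersion sX
    obtain ⟨DC, hDC⟩ := H22Alg.ExtPowSheaf.exists_isExtPow 0 (isQCoh_conormal' sX)
    obtain ⟨DΩ, hDΩ⟩ := H22Alg.ExtPowSheaf.exists_isExtPow 0 (H29Omega.isQCoh_sheaf (𝟙 T))
    exact ⟨T, sX, 𝟙 T, 0, 0, Category.comp_id _, ⟨inferInstance, fun z => isEmptyElim z⟩, inferInstance,
      inferInstance, inferInstance, DC, DΩ, hDC, hDΩ, ⟨(hz _).iso (hz _)⟩⟩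
  -- a chart of the base at the generic point
  obtain ⟨U, P, k, πP, hηU, -, hk, hsm, hkfac⟩ := hBK η
  haveI := hsm
  haveI := hk.1
  haveI : IsLocallyNoetherian P := LocallyOfFiniteType.isLocallyNoetherian πP
  obtain ⟨O, d, hyO, hOd⟩ := H7Lim.GenericSmoothDim.exists_open_smoothOfRelativeDimension πP
    (x := k ⟨η, hηU⟩) (by rw [Scheme.Hom.smoothLocus_eq_top]; trivial)
  let B₀ := k ⁻¹ᵁ O
  let η₀ : B₀.toScheme := ⟨⟨η, hηU⟩, hyO⟩
  let jB : B₀.toScheme ⟶ B := B₀.ι ≫ U.ι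
  have hη₀ : ∀ V : B₀.toScheme.Opens, ∀ x ∈ V, η₀ ∈ V := fun V x hx => by
    obtain ⟨v, hv, hve⟩ : η ∈ jB ''ᵁ V :=
      (genericPoint_specializes (jB x)).mem_open (jB ''ᵁ V).isOpen ⟨x, hx, rfl⟩
    have : v = η₀ := jB.isOpenEmbedding.injective (hve.trans rfl)
    exact this ▸ hv
  let iB := k ∣_ O
  let g₂ := O.ι ≫ πP
  haveI : SmoothOfRelativeDimension d g₂ := hOd
  haveI : IsImmersion iB := IsZariskiLocalAtTarget.restrict hk.1 O
  haveI : QuasiCompact iB := quasiCompact_of_immersion iB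
  haveI : IsLocallyNoetherian O.toScheme := inferInstance
  haveI : QuasiSeparated g₂ := inferInstance
  have h₂ : iB ≫ g₂ = jB ≫ pB := by
    show k ∣_ O ≫ O.ι ≫ πP = (B₀.ι ≫ U.ι) ≫ pB
    rw [morphismRestrict_ι_assoc, hkfac, Category.assoc]
  have hBk : RegImm.IsRegularImmersion .koszul iB :=
    S8652.result k O.ι iB B₀.ι (isPullback_morphismRestrict k O).flip hk
  obtain ⟨c₂, hC₂⟩ := exists_rank η₀ hη₀ (H29Ref.ConormalQReg.isFinLocFree_conormal_of_quasi iB
    ((S8905.result iB).2.2 ((S8905.result iB).2.1 hBk)).2)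
  obtain ⟨ω₂, hω₂, hω₂inv⟩ := exists_via (n := d) iB g₂ hC₂
  -- restriction of the source
  obtain ⟨W₀, hW₀, hW₀eq⟩ := i.isEmbedding.isInducing.isOpen_iff.1 (π ⁻¹ᵁ jB.opensRange).isOpen
  let W : Z.Opens := ⟨W₀, hW₀⟩
  have hWeq : i ⁻¹ᵁ W = π ⁻¹ᵁ jB.opensRange := TopologicalSpace.Opens.ext hW₀eq
  let X₀ := i ⁻¹ᵁ W
  have hr : Set.range (X₀.ι ≫ π) ⊆ Set.range jB := by
    rintro _ ⟨x, rfl⟩
    exact (show X₀.ι x ∈ π ⁻¹ᵁ jB.opensRange from hWeq ▸ x.2)
  let π₀ := IsOpenImmersion.lift jB (X₀.ι ≫ π) hr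
  have hπ₀ : π₀ ≫ jB = X₀.ι ≫ π := IsOpenImmersion.lift_fac _ _ _
  have sqX : IsPullback π₀ X₀.ι jB π :=
    IsOpenImmersion.isPullback π₀ X₀.ι jB π hπ₀.symm (by rw [Scheme.Opens.opensRange_ι]; exact hWeq.symm)
  haveI : QuasiSeparated (W.ι ≫ g) := inferInstance
  haveI : SmoothOfRelativeDimension n (W.ι ≫ g) := IsZariskiLocalAtSource.comp hn W.ι
  haveI : IsImmersion (i ∣_ W) := IsZariskiLocalAtTarget.restrict hreg.1 W
  haveI : QuasiCompact (i ∣_ W) := IsZariskiLocalAtTarget.restrict hqc W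
  obtain ⟨hC₃, hω₃⟩ := via_restrict i g (isFinLocFreeOfRank_conormal_of_quasi i (isQuasiOfCodim_of_regular hreg))
    hvia W
  have h₃ : i ∣_ W ≫ W.ι ≫ g = π₀ ≫ jB ≫ pB := by
    rw [morphismRestrict_ι_assoc, hfac, ← hπ, ← Category.assoc π₀, hπ₀, Category.assoc]
  have hπ₀K : ∀ x, Synt.IsKoszulAt π₀ x := fun x =>
    H8Props.KoszImm.isKoszulAt_baseChange π jB π₀ X₀.ι sqX.flip x (hπK _)
  have hr0 : Set.range s0 ⊆ Set.range jB := by
    intro y hy
    rw [Scheme.range_fromSpecStalk] at hy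
    exact (show y ⤳ η from hy).mem_open jB.opensRange.isOpen ⟨η₀, rfl⟩
  let s := IsOpenImmersion.lift jB s0 hr0
  have hs : s ≫ jB = s0 := IsOpenImmersion.lift_fac _ _ _
  haveI : Flat s := by
    haveI : Flat s0 := H22Alg.flat_fromSpecStalk B η
    have : IsPullback (𝟙 T) s s0 jB := IsPullback.of_horiz_isIso_mono ⟨by rw [Category.id_comp, hs]⟩
    exact MorphismProperty.of_isPullback (P := @Flat) this inferInstance
  -- the generic fibre as a base change of `π₀`
  let fX₀ : pullback π s0 ⟶ X₀.toScheme :=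
    sqX.lift (sX ≫ s) fX (by rw [Category.assoc, hs]; exact pullback.condition.symm)
  have hfX : fX₀ ≫ X₀.ι = fX := sqX.lift_snd _ _ _
  have hsX : fX₀ ≫ π₀ = sX ≫ s := sqX.lift_fst _ _ _
  have sq₀ : IsPullback fX₀ sX π₀ s := by
    refine IsPullback.of_right ?_ hsX sqX.flip
    rw [hfX, hs]
    exact IsPullback.of_hasPullback π s0
  haveI : Nonempty X₀.toScheme := hE.map fX₀.base
  haveI : QuasiSeparated (jB ≫ pB) := inferInstance
  obtain ⟨c', ω', hC', hvia', ⟨eω⟩⟩ :=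
    exists_via_fibreProduct iB g₂ h₂ (i ∣_ W) (W.ι ≫ g) h₃ hC₂ hC₃ hπ₀K hω₂ hω₃
  let a := pullback.fst (jB ≫ pB) (W.ι ≫ g)
  let b := pullback.snd (jB ≫ pB) (W.ι ≫ g)
  let i' := pullback.lift π₀ (i ∣_ W) h₃.symm
  have hia : i' ≫ a = π₀ := pullback.lift_fst _ _ _
  have hib : i' ≫ b = i ∣_ W := pullback.lift_snd _ _ _
  haveI : QuasiSeparated b := inferInstanceAs (QuasiSeparated (pullback.snd (jB ≫ pB) (W.ι ≫ g)))
  haveI : QuasiSeparated a := inferInstanceAs (QuasiSeparated (pullback.fst (jB ≫ pB) (W.ι ≫ g)))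
  haveI : IsImmersion (i' ≫ b) := by rw [hib]; infer_instance
  haveI : IsImmersion i' := IsImmersion.of_comp i' b
  haveI : QuasiCompact (i' ≫ b) := by rw [hib]; infer_instance
  haveI : QuasiCompact i' := QuasiCompact.of_comp i' b
  haveI : SmoothOfRelativeDimension n a :=
    (smoothOfRelativeDimension_isStableUnderBaseChange n).of_isPullback
      (IsPullback.of_hasPullback (jB ≫ pB) (W.ι ≫ g)).flip ‹_›
  haveI : Smooth a := SmoothOfRelativeDimension.smooth n a
  have hi'q : RegImm.IsRegularImmersion .quasi i' :=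
    (S8905.result i').2.2 ((S8905.result i').2.1 (S8656.result π₀ hπ₀K a i' hia))
  let iη : pullback π s0 ⟶ pullback a s :=
    pullback.lift (fX₀ ≫ i') sX (by rw [Category.assoc, hia, hsX])
  have hiη : iη ≫ pullback.snd a s = sX := pullback.lift_snd _ _ _
  have H : IsPullback fX₀ iη i' (pullback.fst a s) := by
    refine IsPullback.of_bot ?_ (pullback.lift_fst _ _ _).symm (IsPullback.of_hasPullback a s)
    rw [hiη, hia]
    exact sq₀
  haveI : IsImmersion iη := MorphismProperty.of_isPullback H inferInstance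
  haveI : QuasiCompact iη := MorphismProperty.of_isPullback H inferInstance
  haveI : QuasiSeparated (pullback.snd a s) := inferInstance
  haveI : SmoothOfRelativeDimension n (pullback.snd a s) :=
    (smoothOfRelativeDimension_isStableUnderBaseChange n).of_isPullback (IsPullback.of_hasPullback a s) ‹_›
  haveI : Smooth (pullback.snd a s) := SmoothOfRelativeDimension.smooth n _
  haveI : IsLocallyNoetherian (pullback a s) := LocallyOfFiniteType.isLocallyNoetherian (pullback.snd a s)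
  obtain ⟨hCη, DC, DΩ, hDC, hDΩ, ⟨e⟩⟩ := exists_via_baseChange H (IsPullback.of_hasPullback a s)
    (isQuasiOfCodim_of_rank i' hi'q hC') (Or.inr inferInstance) hvia'
  have hkη : RegImm.IsRegularImmersion .koszul iη :=
    S8656.result sX (fun x => H8Props.KoszImm.isKoszulAt_baseChange π₀ s sX fX₀ sq₀ x (hπ₀K _))
      (pullback.snd a s) iη hiη
  have hrη : RegImm.IsRegularImmersion .regular iη :=
    (S5003.result iη).2 ((S8905.result iη).2.2 ((S8905.result iη).2.1 hkη))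
  obtain ⟨u⟩ := nonempty_iso_structure_of_subsingleton (T := T)
    (H11Ample.isInvertible_pullback s hω₂inv)
  let F₀ := Scheme.Modules.pullback fX₀
  let eη : (Scheme.Modules.pullback fX).obj ω ≅ F₀.obj ω' :=
    (H25Theta.pC fX₀ X₀.ι hfX ω).symm ≪≫ F₀.mapIso eω ≪≫ H25Theta.pT fX₀ ω' _ ≪≫
      H25Theta.tI (Iso.refl _) (H25Theta.pC fX₀ π₀ hsX ω₂ ≪≫ (H25Theta.pC sX s rfl ω₂).symm ≪≫
        (Scheme.Modules.pullback sX).mapIso u ≪≫ H16Derived.KFlat.Stalk.structurePullbackIso sX) ≪≫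
      H10Coh.Tw.rightUnitIso _
  exact ⟨pullback a s, iη, pullback.snd a s, c', n, hiη, regImm_ofCodim_of_rank iη hrη hCη, inferInstance,
    inferInstance, inferInstance, DC, DΩ, hDC, hDΩ, ⟨H25Theta.tI eη (Iso.refl DC) ≪≫ e⟩⟩

end Groth.Agent.H17.CanonSm
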