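import Groth.Agent.H17.Canon.SmoothLocus
import Groth.Agent.H26Gr.QuotBC
import Groth.Agent.H26Gr.GrSub
import Groth.Agent.S9711
import Groth.Agent.S15539
import Groth.Agent.H19AbSch.OmegaGrp
import Groth.Agent.H11Tilde.Local
import Groth.Agent.H28Mero.Tensor

/-!
# A canonical sheaf does not depend on the factorisation
-/

set_option autoImplicit false
set_option linter.style.haveILetI false
set_option backward.isDefEq.respectTransparency false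
set_option synthInstance.maxHeartbeats 400000
set_option maxHeartbeats 1600000

universe u

open CategoryTheory CategoryTheory.Limits AlgebraicGeometry Opposite TopologicalSpace

namespace Groth.Agent.H17.CanonSm

/-- Conormal sheaves are quasi-coherent. -/
theorem isQCoh_conormal' {X Z : Scheme.{u}} (i : X ⟶ Z) [IsImmersion i] [QuasiCompact i] :
    Coh.IsQCoh (Omega.conormal i) :=
  H29Fitt.isQCoh_pullback i _ (H17.OmegaLocal.isQuasicoherent_idealMod i.ker)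

/-- Two extensions with the same middle term have the same total rank. -/
theorem middle_rank {X : Scheme.{u}} [Nonempty X] {S T : ShortComplex X.Modules} (hS : S.ShortExact)
    (hT : T.ShortExact) (h : S.X₂ = T.X₂) {a b a' b' : ℕ}
    (hA : FlatMod.IsFinLocFreeOfRank a S.X₁) (hC : FlatMod.IsFinLocFreeOfRank b S.X₃)
    (hA' : FlatMod.IsFinLocFreeOfRank a' T.X₁) (hC' : FlatMod.IsFinLocFreeOfRank b' T.X₃)
    (hq : Coh.IsQCoh S.X₂) : a + b = a' + b' := by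
  haveI := hS.epi_g
  haveI := hT.epi_g
  haveI : S.X₂.IsQuasicoherent := hq
  haveI : T.X₂.IsQuasicoherent := h ▸ hq
  haveI : S.X₃.IsQuasicoherent :=
    H8Props.FinLocFree.isQCoh_of_isFinLocFree _ (FLI.isFinLocFree_of_rank hC)
  haveI : T.X₃.IsQuasicoherent :=
    H8Props.FinLocFree.isQCoh_of_isFinLocFree _ (FLI.isFinLocFree_of_rank hC')
  obtain ⟨x⟩ := ‹Nonempty X›
  obtain ⟨U₁, hx₁, ⟨e₁⟩⟩ := hA x
  obtain ⟨U₂, hx₂, ⟨e₂⟩⟩ := hC x
  obtain ⟨U₃, hx₃, ⟨e₃⟩⟩ := hA' x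
  obtain ⟨U₄, hx₄, ⟨e₄⟩⟩ := hC' x
  obtain ⟨V, hV, hxV, hle⟩ := exists_isAffineOpen_mem_and_subset (x := x) (U := U₁ ⊓ U₂ ⊓ U₃ ⊓ U₄)
    ⟨⟨⟨hx₁, hx₂⟩, hx₃⟩, hx₄⟩
  obtain ⟨u₁⟩ := H8Props.FinLocFree.exists_basis_of_chart S.X₁ e₁ (fun y hy => (hle hy).1.1.1)
  obtain ⟨u₂⟩ := H8Props.FinLocFree.exists_basis_of_chart S.X₃ e₂ (fun y hy => (hle hy).1.1.2)
  obtain ⟨u₃⟩ := H8Props.FinLocFree.exists_basis_of_chart T.X₁ e₃ (fun y hy => (hle hy).1.2)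
  obtain ⟨u₄⟩ := H8Props.FinLocFree.exists_basis_of_chart T.X₃ e₄ (fun y hy => (hle hy).2)
  choose l hl using fun j => H10Coh.surjective_app_of_epi S.g hV (u₂ j)
  choose l' hl' using fun j => H10Coh.surjective_app_of_epi T.g hV (u₄ j)
  obtain ⟨B, -⟩ := FLI.DetSES.exists_basis_app2 finSumFinEquiv hS u₁ u₂ l hl
  obtain ⟨B', -⟩ := FLI.DetSES.exists_basis_app2 finSumFinEquiv hT u₃ u₄ l' hl'
  haveI : Nontrivial Γ(X, V) := (X.presheaf.germ V x hxV).hom.domain_nontrivial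
  have h1 := Module.finrank_eq_card_basis B
  have h2 := Module.finrank_eq_card_basis B'
  simp only [Fintype.card_fin] at h1 h2
  rw [← h1, ← h2]
  congr 1 <;> rw [h]

variable {X P Z : Scheme.{u}} (p : P ⟶ Z) (i : X ⟶ P) (j : X ⟶ Z)
  [IsImmersion i] [IsImmersion j] [QuasiCompact i] [QuasiCompact j]

/-- The conormal sequence of a factorisation through a smooth morphism. -/
theorem exists_ses (hij : i ≫ p = j) [Smooth p] [QuasiSeparated p] :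
    ∃ (S : ShortComplex X.Modules), S.ShortExact ∧ Nonempty (Omega.conormal j ≅ S.X₁) ∧
      S.X₂ = Omega.conormal i ∧ S.X₃ = (Scheme.Modules.pullback i).obj (Omega.sheaf p) := by
  obtain ⟨ψ, hψ, -⟩ := S9371.result i j p (𝟙 X) ((Category.id_comp j).trans hij.symm)
  obtain ⟨φ, hφ⟩ := H19AbSch.OmegaGrp.exists_isConormalDiff i (OmegaSh.dOmega p)
  obtain ⟨w, hS⟩ := S9711.result p i j hij _ _ (H17.PrinOmega.isUniversal_dOmega p) ψ hψ φ hφ
  exact ⟨_, hS, ⟨((Scheme.Modules.pullbackId X).app (Omega.conormal j)).symm⟩, rfl, rfl⟩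

/-- The determinant of that sequence. -/
theorem nonempty_det_step (hij : i ≫ p = j) {r c : ℕ} [SmoothOfRelativeDimension r p] [QuasiSeparated p]
    (hC : FlatMod.IsFinLocFreeOfRank c (Omega.conormal j))
    {DCj : X.Modules} {DΩ : P.Modules} {DB : X.Modules}
    (hDCj : ExtPow.IsExtPow c (Omega.conormal j) DCj) (hDΩ : ExtPow.IsExtPow r (Omega.sheaf p) DΩ)
    (hDB : ExtPow.IsExtPow (c + r) (Omega.conormal i) DB) :
    Nonempty (CohB1.tensorMod DCj ((Scheme.Modules.pullback i).obj DΩ) ≅ DB) := by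
  haveI : Smooth p := SmoothOfRelativeDimension.smooth r p
  obtain ⟨S, hS, ⟨e₁⟩, h₂, h₃⟩ := exists_ses p i j hij
  exact FLI.DetSES.nonempty_iso finSumFinEquiv hS (H26Gr.isFinLocFreeOfRank_of_iso e₁ hC) (h₂ ▸ isQCoh_conormal' i)
    (h₃ ▸ H26Gr.isFinLocFreeOfRank_pullback i (H28RR.isFinLocFreeOfRank_omega p r))
    (H22Alg.ExtPowSES.isExtPow_of_iso e₁ hDCj) (h₂ ▸ hDB)
    (h₃ ▸ H22Alg.ExtPowHom.isExtPow_pullback i (H29Omega.isQCoh_sheaf p) hDΩ)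

/-- Tensor products of invertible modules, rearranged. -/
noncomputable def rot {Y : Scheme.{u}} (A B C : Y.Modules) :
    CohB1.tensorMod (CohB1.tensorMod A B) C ≅ CohB1.tensorMod (CohB1.tensorMod A C) B :=
  H10Coh.Tw.assoc A B C ≪≫ H25Theta.tI (Iso.refl A) (H10Coh.Tw.commIso B C) ≪≫ (H10Coh.Tw.assoc A C B).symm

/-- Cancelling an invertible factor. -/
theorem nonempty_iso_of_tensor_iso {Y : Scheme.{u}} {A B L : Y.Modules} (hL : PicF.IsInvertible L)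
    (e : CohB1.tensorMod A L ≅ CohB1.tensorMod B L) : Nonempty (A ≅ B) := by
  obtain ⟨L', -, ⟨eL⟩⟩ := H11Sym.exists_inverse hL
  exact ⟨(H10Coh.Tw.rightUnitIso A).symm ≪≫
    H25Theta.tI (Iso.refl _) (eL.symm ≪≫ H10Coh.Tw.commIso L' L) ≪≫
    (H10Coh.Tw.assoc A L L').symm ≪≫ H25Theta.tI e (Iso.refl L') ≪≫ H10Coh.Tw.assoc B L L' ≪≫
    H25Theta.tI (Iso.refl B) (H10Coh.Tw.commIso L L' ≪≫ eL) ≪≫ H10Coh.Tw.rightUnitIso B⟩

/-- Independence of the factorisation: only local freeness of the two conormal sheaves is used. -/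
theorem nonempty_iso_of_via {X Y Z₁ Z₂ : Scheme.{u}} (i₁ : X ⟶ Z₁) (g₁ : Z₁ ⟶ Y) (i₂ : X ⟶ Z₂) (g₂ : Z₂ ⟶ Y)
    [IsImmersion i₁] [IsImmersion i₂] [QuasiCompact i₁] [QuasiCompact i₂] [QuasiSeparated g₁] [QuasiSeparated g₂]
    (h : i₁ ≫ g₁ = i₂ ≫ g₂) {c₁ n₁ c₂ n₂ : ℕ} [SmoothOfRelativeDimension n₁ g₁] [SmoothOfRelativeDimension n₂ g₂]
    (hC₁ : FlatMod.IsFinLocFreeOfRank c₁ (Omega.conormal i₁)) (hC₂ : FlatMod.IsFinLocFreeOfRank c₂ (Omega.conormal i₂))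
    {ω₁ ω₂ : X.Modules} (hω₁ : Canon.IsCanonicalVia i₁ g₁ c₁ n₁ ω₁) (hω₂ : Canon.IsCanonicalVia i₂ g₂ c₂ n₂ ω₂) :
    Nonempty (ω₁ ≅ ω₂) := by
  rcases isEmpty_or_nonempty X with hE | hE
  · have hz : ∀ M : X.Modules, IsZero M := fun M =>
      H16Derived.KFlat.Stalk.isZero_of_stalk fun x => isEmptyElim x
    exact ⟨(hz _).iso (hz _)⟩
  obtain ⟨DC₁, DΩ₁, hDC₁, hDΩ₁, ⟨e₁⟩⟩ := hω₁
  obtain ⟨DC₂, DΩ₂, hDC₂, hDΩ₂, ⟨e₂⟩⟩ := hω₂
  let p₁ := pullback.fst g₁ g₂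
  let p₂ := pullback.snd g₁ g₂
  let i : X ⟶ pullback g₁ g₂ := pullback.lift i₁ i₂ h
  have hp₁ : i ≫ p₁ = i₁ := pullback.lift_fst _ _ _
  have hp₂ : i ≫ p₂ = i₂ := pullback.lift_snd _ _ _
  haveI : QuasiSeparated p₁ := inferInstanceAs (QuasiSeparated (pullback.fst g₁ g₂))
  haveI : QuasiSeparated p₂ := inferInstanceAs (QuasiSeparated (pullback.snd g₁ g₂))
  haveI : SmoothOfRelativeDimension n₂ p₁ := (smoothOfRelativeDimension_isStableUnderBaseChange n₂).of_isPullback (IsPullback.of_hasPullback g₁ g₂).flip ‹_›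
  haveI : SmoothOfRelativeDimension n₁ p₂ := (smoothOfRelativeDimension_isStableUnderBaseChange n₁).of_isPullback (IsPullback.of_hasPullback g₁ g₂) ‹_›
  haveI : Smooth p₁ := SmoothOfRelativeDimension.smooth n₂ p₁
  haveI : Smooth p₂ := SmoothOfRelativeDimension.smooth n₁ p₂
  haveI : IsImmersion (i ≫ p₁) := hp₁ ▸ ‹IsImmersion i₁›
  haveI : IsImmersion i := IsImmersion.of_comp i p₁
  haveI : QuasiCompact (i ≫ p₁) := hp₁ ▸ ‹QuasiCompact i₁›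
  haveI : QuasiCompact i := QuasiCompact.of_comp i p₁
  have sq₁ : IsPullback p₂ p₁ g₂ g₁ := (IsPullback.of_hasPullback g₁ g₂).flip
  have sq₂ : IsPullback p₁ p₂ g₁ g₂ := IsPullback.of_hasPullback g₁ g₂
  have hΩp₁ := S15539.result _ _ _ _ g₂ p₁ p₂ g₁ sq₁ n₂ DΩ₂ hDΩ₂
  have hΩp₂ := S15539.result _ _ _ _ g₁ p₂ p₁ g₂ sq₂ n₁ DΩ₁ hDΩ₁
  have hsum : c₁ + n₂ = c₂ + n₁ := by
    obtain ⟨S, hS, ⟨a⟩, h₂, h₃⟩ := exists_ses p₁ i i₁ hp₁
    obtain ⟨T, hT, ⟨a'⟩, h₂', h₃'⟩ := exists_ses p₂ i i₂ hp₂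
    exact middle_rank hS hT (h₂.trans h₂'.symm) (H26Gr.isFinLocFreeOfRank_of_iso a hC₁)
      (h₃ ▸ H26Gr.isFinLocFreeOfRank_pullback i (H28RR.isFinLocFreeOfRank_omega p₁ n₂))
      (H26Gr.isFinLocFreeOfRank_of_iso a' hC₂)
      (h₃' ▸ H26Gr.isFinLocFreeOfRank_pullback i (H28RR.isFinLocFreeOfRank_omega p₂ n₁))
      (h₂ ▸ isQCoh_conormal' i)
  obtain ⟨DB, hDB⟩ := H22Alg.ExtPowSheaf.exists_isExtPow (c₁ + n₂) (isQCoh_conormal' i)
  obtain ⟨s₁⟩ := nonempty_det_step p₁ i i₁ hp₁ hC₁ hDC₁ hΩp₁ hDB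
  obtain ⟨s₂⟩ := nonempty_det_step p₂ i i₂ hp₂ hC₂ hDC₂ hΩp₂ (hsum ▸ hDB)
  let t₁ : (Scheme.Modules.pullback i).obj ((Scheme.Modules.pullback p₂).obj DΩ₂) ≅
    (Scheme.Modules.pullback i₂).obj DΩ₂ := H25Theta.pC i p₂ hp₂ DΩ₂
  let t₂ : (Scheme.Modules.pullback i).obj ((Scheme.Modules.pullback p₁).obj DΩ₁) ≅
    (Scheme.Modules.pullback i₁).obj DΩ₁ := H25Theta.pC i p₁ hp₁ DΩ₁
  let a₁ : CohB1.tensorMod ω₁ DB ≅
      CohB1.tensorMod ((Scheme.Modules.pullback i₁).obj DΩ₁) ((Scheme.Modules.pullback i₂).obj DΩ₂) :=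
    H25Theta.tI (Iso.refl _) (s₁.symm ≪≫ H25Theta.tI (Iso.refl _) t₁) ≪≫
      (H10Coh.Tw.assoc _ _ _).symm ≪≫ H25Theta.tI e₁ (Iso.refl _)
  let a₂ : CohB1.tensorMod ω₂ DB ≅
      CohB1.tensorMod ((Scheme.Modules.pullback i₂).obj DΩ₂) ((Scheme.Modules.pullback i₁).obj DΩ₁) :=
    H25Theta.tI (Iso.refl _) (s₂.symm ≪≫ H25Theta.tI (Iso.refl _) t₂) ≪≫
      (H10Coh.Tw.assoc _ _ _).symm ≪≫ H25Theta.tI e₂ (Iso.refl _)
  have hDBinv : PicF.IsInvertible DB := by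
    have h1 := FLI.isInvertible_of_rank_one (FLI.isInvertible_extPow hC₁ hDC₁)
    have h2 := FLI.isInvertible_of_rank_one (FLI.isInvertible_extPow
      (H26Gr.isFinLocFreeOfRank_pullback i (H28RR.isFinLocFreeOfRank_omega p₁ n₂))
      (H22Alg.ExtPowHom.isExtPow_pullback i (H29Omega.isQCoh_sheaf p₁) hΩp₁))
    exact H11Tilde.isInvertible_of_iso s₁ (H28Mero.isInvertible_tensor h1 h2)
  exact nonempty_iso_of_tensor_iso hDBinv (a₁ ≪≫ H10Coh.Tw.commIso _ _ ≪≫ a₂.symm)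

/-- The conormal sheaf of a regular immersion, not necessarily closed, is locally free of the codimension. -/
theorem isFinLocFreeOfRank_conormal_imm {X Z : Scheme.{u}} (i : X ⟶ Z) [IsImmersion i] [QuasiCompact i]
    [IsLocallyNoetherian Z] {c : ℕ} (h : RegImm.IsRegularImmersionOfCodim RegImm.Kind.regular c i) :
    FlatMod.IsFinLocFreeOfRank c (Omega.conormal i) := by
  let W := i.coborderRange
  have hU : i ⁻¹ᵁ W = ⊤ := top_le_iff.mp fun x _ => subset_coborder ⟨x, rfl⟩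
  let ι := (i ⁻¹ᵁ W).ι
  haveI : IsIso ι := by
    haveI : Surjective ι := ⟨fun x => ⟨⟨x, hU ▸ trivial⟩, rfl⟩⟩
    exact isIso_iff_isOpenImmersion_and_epi_base ι |>.mpr ⟨inferInstance, (TopCat.epi_iff_surjective _).2 ι.surjective⟩
  haveI : IsClosedImmersion (i ∣_ W) := by
    haveI : IsImmersion (i ∣_ W) := IsZariskiLocalAtTarget.restrict ‹IsImmersion i› W
    refine IsClosedImmersion.of_isPreimmersion _ ?_
    have hr : Set.range (i ∣_ W) = W.ι ⁻¹' Set.range i := by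
      ext w
      refine ⟨fun ⟨v, hv⟩ => ⟨v.1, hv ▸ ?_⟩, fun ⟨x, hx⟩ => ?_⟩
      · rw [← Scheme.Hom.comp_apply, morphismRestrict_ι, Scheme.Hom.comp_apply]
        rfl
      · refine ⟨⟨x, show i x ∈ W from hx ▸ w.2⟩, W.ι.isEmbedding.injective ?_⟩
        rw [← Scheme.Hom.comp_apply, morphismRestrict_ι, Scheme.Hom.comp_apply]
        exact hx
    rw [hr]
    exact (isClosed_preimage_val_coborder (s := Set.range i))
  obtain ⟨e⟩ := nonempty_conormal_restrict i W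
  exact H26Gr.isFinLocFreeOfRank_of_iso
    ((Scheme.Modules.pullback (inv ι)).mapIso e.symm ≪≫ H25Theta.pC (inv ι) ι rfl _ ≪≫
      H25Theta.pI (inv ι ≫ ι) (IsIso.inv_hom_id ι) _)
    (H26Gr.isFinLocFreeOfRank_pullback (inv ι) (FLI.isFinLocFreeOfRank_conormal (i ∣_ W) (regImm_restrict i h W)))

end Groth.Agent.H17.CanonSm
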