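import Groth.Agent.H17.Canon.Indep
import Groth.Agent.H29Ref.ConormalQReg
import Groth.Agent.H29Slice.RegImm

/-!
# Quasi-regular immersions of constant codimension
-/

set_option autoImplicit false
set_option linter.style.haveILetI false
set_option linter.unusedSectionVars false
set_option maxHeartbeats 1600000
universe u

open CategoryTheory CategoryTheory.Limits AlgebraicGeometry TopologicalSpace TensorProduct

namespace Groth.Agent.H17.CanonSm

open Groth.Agent.H06Mod Groth.Agent.H29Omega Groth.Agent.H17.Conormal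

attribute [local instance] Groth.Agent.H06Mod.stalkAlgebra

variable {X Y Z S S' : Scheme.{u}}

/-- Quasi-regular charts of a fixed length. -/
def IsQuasiOfCodim (c : ℕ) (i : Z ⟶ X) : Prop :=
  ∀ z : Z, ∃ U : X.affineOpens, i z ∈ U.1 ∧ IsClosedImmersion (i ∣_ U.1) ∧
    ∃ rs : List Γ(X, U.1), rs.length = c ∧ CAlgX.IsQuasiRegular rs.get ∧
      RingHom.ker (i.app U.1).hom = Ideal.ofList rs

theorem IsQuasiOfCodim.at {c : ℕ} {i : Z ⟶ X} (h : IsQuasiOfCodim c i) (z : Z) :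
    RegImm.IsRegularImmersionAt .quasi i z := by
  obtain ⟨U, hz, hcl, rs, -, hrs, hker⟩ := h z
  exact ⟨U, hz, hcl, rs, hrs, hker⟩

theorem isQuasiOfCodim_of_regular {c : ℕ} {i : Z ⟶ X}
    (h : RegImm.IsRegularImmersionOfCodim RegImm.Kind.regular c i) : IsQuasiOfCodim c i := fun z => by
  obtain ⟨U, hz, hcl, rs, hlen, hrs, hker⟩ := h.2 z
  exact ⟨U, hz, hcl, rs, hlen, RegQuasi.quasi_of_regular hrs, hker⟩

/-- The rank of a locally free module read off from bases of sections. -/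
theorem rank_of_bases {M : X.Modules} {c : ℕ} (hM : Coh.IsQCoh M) (hlf : FlatMod.IsFinLocFree M)
    (h : ∀ x : X, ∃ (U : X.Opens) (_ : IsAffineOpen U), x ∈ U ∧ Nonempty (Module.Basis (Fin c) Γ(X, U) Γ(M, U))) :
    FlatMod.IsFinLocFreeOfRank c M := fun x => by
  obtain ⟨W, m, hxW, ⟨e⟩⟩ := hlf x
  obtain ⟨U, hU, hxU, ⟨b⟩⟩ := h x
  obtain ⟨V, hV, hxV, hle⟩ := exists_isAffineOpen_mem_and_subset (x := x) (U := W) hxW
  obtain ⟨bW⟩ := H8Props.FinLocFree.exists_basis_of_chart _ e hle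
  obtain ⟨b₁⟩ := H22Alg.ExtPowSum.exists_stalkBasis hM hV bW hxV
  obtain ⟨b₂⟩ := H22Alg.ExtPowSum.exists_stalkBasis hM hU b hxU
  obtain rfl : m = c := by
    simpa using (Module.finrank_eq_card_basis b₁).symm.trans (Module.finrank_eq_card_basis b₂)
  exact ⟨W, hxW, ⟨e⟩⟩

/-- A quasi-regular sequence cutting out an immersion over an affine open gives a basis of the conormal sections. -/
theorem exists_basis_of_quasi_chart (i : Z ⟶ X) [IsImmersion i] [QuasiCompact i] (U : X.affineOpens)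
    (hcl : IsClosedImmersion (i ∣_ U.1)) (rs : List Γ(X, U.1)) (hrs : CAlgX.IsQuasiRegular rs.get)
    (hker : RingHom.ker (i.app U.1).hom = Ideal.ofList rs) :
    IsAffineOpen (i ⁻¹ᵁ U.1) ∧
      Nonempty (Module.Basis (Fin rs.length) Γ(Z, i ⁻¹ᵁ U.1) Γ(Omega.conormal i, i ⁻¹ᵁ U.1)) := by
  classical
  haveI := hcl
  obtain ⟨happ, hBU⟩ := H17.app_surjective_of_restrict i U.2
  refine ⟨hBU, ?_⟩
  obtain ⟨hsurj, hkerQ⟩ := H17.PullSect.isQuotOn_of_isAffineOpen i (ClSub.idealMod i.ker)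
    (H17.OmegaLocal.isQuasicoherent_idealMod i.ker) U.2
  have hK : RingHom.ker (i.app U.1).hom = i.ker.ideal U := (Scheme.Hom.ker_apply i U).symm
  set K := RingHom.ker (i.app U.1).hom with hKdef
  choose L hL using fun a : K => (H29Blow.mem_ideal_iff_exists_idealSect i.ker U.2 a.1).1 (hK.le a.2)
  have hinj := H29Blow.idealSect_injective i.ker U.1
  let C := Omega.conormal i
  let e : K →+ Γ(C, i ⁻¹ᵁ U.1) :=
    { toFun := fun a => OmegaSh.pullSect i (ClSub.idealMod i.ker) U.1 (L a)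
      map_zero' := by
        rw [show L 0 = 0 from hinj (by rw [hL, map_zero]; rfl)]
        exact map_zero _
      map_add' := fun a b => by
        rw [show L (a + b) = L a + L b from hinj (by rw [hL, map_add, hL, hL]; rfl)]
        exact map_add _ _ _ }
  have he_smul : ∀ (x : Γ(X, U.1)) a, e (x • a) = i.app U.1 x • e a := fun x a => by
    show OmegaSh.pullSect i (ClSub.idealMod i.ker) U.1 (L (x • a)) = _
    rw [show L (x • a) = x • L a from hinj (by rw [hL, H29Blow.idealSect_smul, hL]; rfl)]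
    exact Scheme.Modules.Hom.app_smul _ x (L a)
  have he_surj : Function.Surjective e := fun n => by
    obtain ⟨m, rfl⟩ := hsurj n
    have hm : OmegaSh.idealSect i.ker U.1 m ∈ K :=
      hK.ge ((H29Blow.mem_ideal_iff_exists_idealSect i.ker U.2 _).2 ⟨m, rfl⟩)
    exact ⟨⟨_, hm⟩, congrArg (OmegaSh.pullSect i (ClSub.idealMod i.ker) U.1) (hinj (hL ⟨_, hm⟩))⟩
  have he_ker : ∀ a, e a = 0 → (a : Γ(X, U.1)) ∈ K ^ 2 := by
    intro a ha
    rw [← hL a]
    refine Submodule.smul_induction_on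
      (p := fun m => OmegaSh.idealSect i.ker U.1 m ∈ K ^ 2) (hkerQ (L a) ha) (fun r hr n _ => ?_)
      fun m n hm hn => by rw [map_add]; exact add_mem hm hn
    rw [H29Blow.idealSect_smul, pow_two]
    exact Ideal.mul_mem_mul hr (hK.ge ((H29Blow.mem_ideal_iff_exists_idealSect i.ker U.2 _).2 ⟨n, rfl⟩))
  have hspan : Ideal.span (Set.range rs.get) = K := by
    rw [hker]
    refine congrArg Ideal.span (Set.ext fun y => ?_)
    exact ⟨fun ⟨k, hk⟩ => hk ▸ List.get_mem rs k, fun hy => (List.mem_iff_get.1 hy).imp fun k hk => hk⟩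
  have hfK : ∀ k, rs.get k ∈ K := fun k => hspan ▸ Ideal.subset_span ⟨k, rfl⟩
  obtain ⟨hli, -⟩ := H06QR.cotangent_basis hrs hspan (fun k => ⟨rs.get k, hfK k⟩) fun k => rfl
  have hind : LinearIndependent Γ(Z, i ⁻¹ᵁ U.1) fun k => e ⟨rs.get k, hfK k⟩ := by
    rw [Fintype.linearIndependent_iff] at hli ⊢
    intro c hc k
    choose a ha using fun k => happ (c k)
    have h0 : e (∑ k, a k • (⟨rs.get k, hfK k⟩ : K)) = 0 := by
      rw [map_sum]
      refine Eq.trans (Finset.sum_congr rfl fun k _ => ?_) hc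
      rw [he_smul]
      exact congrArg (· • e ⟨rs.get k, hfK k⟩) (ha k)
    have h1 : K.toCotangent (∑ k, a k • (⟨rs.get k, hfK k⟩ : K)) = 0 :=
      (Ideal.toCotangent_eq_zero _ _).2 (he_ker _ h0)
    rw [map_sum] at h1
    have h2 := hli (fun k => Ideal.Quotient.mk K (a k)) (Eq.trans (Finset.sum_congr rfl fun k _ => by
      rw [map_smul]
      exact algebraMap_smul (Γ(X, U.1) ⧸ K) (a k) _) h1) k
    rw [← ha k]
    exact Ideal.Quotient.eq_zero_iff_mem.1 h2
  have hsp : ⊤ ≤ Submodule.span Γ(Z, i ⁻¹ᵁ U.1) (Set.range fun k => e ⟨rs.get k, hfK k⟩) := by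
    rintro n -
    obtain ⟨a, rfl⟩ := he_surj n
    obtain ⟨a, ha⟩ := a
    have hmem : a ∈ Ideal.span (Set.range rs.get) := hspan.symm ▸ ha
    obtain ⟨c, hc⟩ := Ideal.mem_span_range_iff_exists_fun.1 hmem
    rw [show (⟨a, ha⟩ : K) = ∑ k, c k • (⟨rs.get k, hfK k⟩ : K) from
      Subtype.ext (hc.symm.trans (by rw [AddSubmonoidClass.coe_finsetSum]; rfl)), map_sum]
    refine Submodule.sum_mem _ fun k _ => ?_
    rw [he_smul]
    exact Submodule.smul_mem _ _ (Submodule.subset_span ⟨k, rfl⟩)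
  exact ⟨Module.Basis.mk hind hsp⟩

/-- The conormal sheaf of a quasi-regular immersion of constant codimension. -/
theorem isFinLocFreeOfRank_conormal_of_quasi (i : Z ⟶ X) [IsImmersion i] [QuasiCompact i] {c₀ : ℕ}
    (hi : IsQuasiOfCodim c₀ i) : FlatMod.IsFinLocFreeOfRank c₀ (Omega.conormal i) := by
  refine rank_of_bases (isQCoh_conormal' i) (H29Ref.ConormalQReg.isFinLocFree_conormal_of_quasi i hi.at) fun z => ?_
  obtain ⟨U, hzU, hcl, rs, hlen, hrs, hker⟩ := hi z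
  obtain ⟨hU, ⟨b⟩⟩ := exists_basis_of_quasi_chart i U hcl rs hrs hker
  exact ⟨_, hU, hzU, ⟨b.reindex (finCongr hlen)⟩⟩

/-- The length of a quasi-regular sequence is the rank of the conormal sheaf. -/
theorem length_eq_of_rank (i : Z ⟶ X) [IsImmersion i] [QuasiCompact i] {c : ℕ}
    (hc : FlatMod.IsFinLocFreeOfRank c (Omega.conormal i)) (z : Z) (U : X.affineOpens) (hz : i z ∈ U.1)
    (hcl : IsClosedImmersion (i ∣_ U.1)) (rs : List Γ(X, U.1)) (hrs : CAlgX.IsQuasiRegular rs.get)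
    (hker : RingHom.ker (i.app U.1).hom = Ideal.ofList rs) : rs.length = c := by
  obtain ⟨W, hxW, ⟨e⟩⟩ := hc z
  obtain ⟨hU, ⟨b⟩⟩ := exists_basis_of_quasi_chart i U hcl rs hrs hker
  obtain ⟨V, hV, hxV, hle⟩ := exists_isAffineOpen_mem_and_subset (x := z) (U := W) hxW
  obtain ⟨bW⟩ := H8Props.FinLocFree.exists_basis_of_chart _ e hle
  obtain ⟨b₁⟩ := H22Alg.ExtPowSum.exists_stalkBasis (isQCoh_conormal' i) hV bW hxV
  obtain ⟨b₂⟩ := H22Alg.ExtPowSum.exists_stalkBasis (isQCoh_conormal' i) hU b hz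
  simpa using ((Module.finrank_eq_card_basis b₁).symm.trans (Module.finrank_eq_card_basis b₂)).symm

/-- A regular immersion with conormal sheaf of constant rank has constant codimension. -/
theorem regImm_ofCodim_of_rank (i : Z ⟶ X) [IsImmersion i] [QuasiCompact i] {c : ℕ}
    (hi : RegImm.IsRegularImmersion .regular i) (hc : FlatMod.IsFinLocFreeOfRank c (Omega.conormal i)) :
    RegImm.IsRegularImmersionOfCodim RegImm.Kind.regular c i := by
  refine ⟨hi.1, fun z => ?_⟩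
  obtain ⟨U, hz, hcl, rs, hrs, hker⟩ := hi.2 z
  exact ⟨U, hz, hcl, rs, length_eq_of_rank i hc z U hz hcl rs (RegQuasi.quasi_of_regular hrs) hker, hrs, hker⟩

/-- A quasi-regular immersion with conormal sheaf of constant rank has constant codimension. -/
theorem isQuasiOfCodim_of_rank (i : Z ⟶ X) [IsImmersion i] [QuasiCompact i] {c : ℕ}
    (hi : RegImm.IsRegularImmersion .quasi i) (hc : FlatMod.IsFinLocFreeOfRank c (Omega.conormal i)) :
    IsQuasiOfCodim c i := fun z => by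
  obtain ⟨U, hz, hcl, rs, hrs, hker⟩ := hi.2 z
  exact ⟨U, hz, hcl, rs, length_eq_of_rank i hc z U hz hcl rs hrs hker, hrs, hker⟩

open Groth.Agent.H29Slice in
/-- Quasi-regular immersions flat over the base keep their codimension under base change. -/
theorem isQuasiOfCodim_baseChange {Z' X' : Scheme.{u}} {i : Z ⟶ X} {f : X ⟶ S} {g : S' ⟶ S}
    {pr : X' ⟶ X} {q : X' ⟶ S'} {i' : Z' ⟶ X'} {pZ : Z' ⟶ Z}
    (H : IsPullback pZ i' i pr) (HS : IsPullback pr q f g) [Flat (i ≫ f)] {c : ℕ}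
    (h : IsQuasiOfCodim c i) : IsQuasiOfCodim c i' := fun z' => by
  let z := pZ z'
  have hzz : pr (i' z') = i z := by
    rw [← Scheme.Hom.comp_apply, ← H.w]; rfl
  obtain ⟨V, hV, hxV, -⟩ := exists_isAffineOpen_mem_and_subset (Opens.mem_top (f (i z)))
  obtain ⟨U₀, hz₀, hcl₀, rs₀, hlen₀, hrs₀, hker₀⟩ := h z
  obtain ⟨b, hb, hzb⟩ := U₀.2.exists_basicOpen_le (V := f ⁻¹ᵁ V) ⟨i z, hxV⟩ hz₀
  let U : X.affineOpens := ⟨X.basicOpen b, U₀.2.basicOpen b⟩
  have hle : U.1 ≤ U₀.1 := X.basicOpen_le b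
  have HI : IsPullback (𝟙 Z) i i (𝟙 X) := IsPullback.of_horiz_isIso ⟨by simp⟩
  obtain ⟨hcl, hkerU⟩ := restrict_baseChange HI U₀.2 hcl₀ U.2 (e := hle)
  let rs := rs₀.map (X.presheaf.map (homOfLE hle).op).hom
  have hlen : rs.length = c := by simp [rs, hlen₀]
  have hrs : RegImm.Kind.quasi.Seq Γ(X, U.1) rs := by
    letI : Algebra Γ(X, U₀.1) Γ(X, U.1) := (X.presheaf.map (homOfLE hle).op).hom.toAlgebra
    haveI : IsLocalization.Away b Γ(X, U.1) := U₀.2.isLocalization_basicOpen b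
    exact seq_localization (Or.inr rfl) (Submonoid.powers b) hrs₀
  have hker : RingHom.ker (i.app U.1).hom = Ideal.ofList rs := by
    rw [hkerU, hker₀, Ideal.map_ofList]
    simp only [Scheme.Hom.appLE, Scheme.Hom.id_app]
    rfl
  have hq : g (q (i' z')) ∈ V := by
    rw [← Scheme.Hom.comp_apply, ← HS.w, Scheme.Hom.comp_apply, hzz]; exact hxV
  obtain ⟨V', hV', hxV', hV'le⟩ := exists_isAffineOpen_mem_and_subset (U := g ⁻¹ᵁ V) (x := q (i' z')) hq
  let W := pr ⁻¹ᵁ U.1 ⊓ q ⁻¹ᵁ V'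
  have hUV : U.1 ≤ f ⁻¹ᵁ V := hb
  haveI := isIso_pushoutSection_of_isAffineOpen (UY := W) HS hV'le hUV rfl hV hV' U.2
  have hW : IsAffineOpen W := by
    haveI : IsAffine V := hV
    haveI : IsAffine V' := hV'
    haveI : IsAffine U.1.toScheme := U.2
    exact .of_isIso (Scheme.Hom.isPullback_resLE HS hV'le hUV (rfl : W = _)).isoPullback.hom
  have hpush := (isIso_pushoutSection_iff (UY := W) HS hV'le hUV rfl).mp inferInstance
  obtain ⟨hcl', hker'⟩ := restrict_baseChange H U.2 hcl hW (e := inf_le_left)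
  refine ⟨⟨W, hW⟩, ⟨show pr (i' z') ∈ U.1 from hzz ▸ hzb, hxV'⟩, hcl',
    rs.map (pr.appLE U.1 W inf_le_left).hom, by simp [hlen], ?_, ?_⟩
  · letI := (f.appLE V U.1 hUV).hom.toAlgebra
    letI := (g.appLE V V' hV'le).hom.toAlgebra
    letI := (pr.appLE U.1 W inf_le_left).hom.toAlgebra
    letI := (q.appLE V' W inf_le_right).hom.toAlgebra
    letI : Algebra Γ(S, V) Γ(X', W) := (f.appLE V U.1 hUV ≫ pr.appLE U.1 W inf_le_left).hom.toAlgebra
    haveI : IsScalarTower Γ(S, V) Γ(X, U.1) Γ(X', W) := IsScalarTower.of_algebraMap_eq' rfl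
    haveI : IsScalarTower Γ(S, V) Γ(S', V') Γ(X', W) :=
      IsScalarTower.of_algebraMap_eq' (congrArg CommRingCat.Hom.hom hpush.w)
    haveI : Algebra.IsPushout Γ(S, V) Γ(S', V') Γ(X, U.1) Γ(X', W) :=
      CommRingCat.isPushout_iff_isPushout.mp hpush.flip
    haveI : Module.Flat Γ(S, V) (Γ(X, U.1) ⧸ Ideal.ofList rs) := hker ▸ flat_quotient_ker f i U.2 hcl hV hUV
    exact seq_pushout (Or.inr rfl) Γ(S, V) Γ(X, U.1) Γ(S', V') Γ(X', W) hrs
  · rw [hker', hker, Ideal.map_ofList]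

end Groth.Agent.H17.CanonSm
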