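import Groth.Agent.H29Serre.Duality
import Groth.Agent.H7Flat.CohDim.RightExact
import Groth.Agent.H7Flat.CohDim.Fibre
import Groth.Agent.H17.FPExt.Colimit
import Groth.Agent.LeadBC.GenBC.PullMod
import Groth.Agent.H24Quot.Scalars

/-!
# Dualizing pairs: extension to quasi-coherent modules and transport along affine morphisms
-/

set_option autoImplicit false
set_option linter.style.haveILetI false

noncomputable section

universe u v

open CategoryTheory CategoryTheory.Limits AlgebraicGeometry TopologicalSpace Opposite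
open Groth.Agent.H10Coh

namespace Groth.Agent.H17.Canon

attribute [local instance 10000] hasSheafifyAb hasWeakSheafifyAb hasExtAb enoughInjAb

variable {A : Type u} [CommRing A] {X : Scheme.{u}} [X.Over (Spec (CommRingCat.of A))] {r : ℕ}
  {ω : X.Modules} {t : Coh.HH X ω r →ₗ[A] A}

theorem repDual_iff (F : X.Modules) :
    H29Serre.RepDual t F ↔ Function.Bijective (_root_.Canon.dualityMap A X r ω t F) := by
  rw [Function.bijective_iff_existsUnique]
  exact ⟨fun h ψ => (existsUnique_congr fun φ => eq_comm).1 (h ψ), fun h ψ =>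
    (existsUnique_congr fun φ => eq_comm).1 (h ψ)⟩

/-- Representability passes to arbitrary coproducts on a qcqs scheme. -/
theorem repDual_sigma [CompactSpace X] [QuasiSeparatedSpace X] {ι : Type u} (G : ι → X.Modules)
    (h : ∀ i, H29Serre.RepDual t (G i)) : H29Serre.RepDual t (∐ G) := by
  intro ψ
  choose φ hφ huniq using fun i => h i (ψ ∘ₗ _root_.Canon.HHlin A (Sigma.ι G i) r)
  refine ⟨Sigma.desc φ, LinearMap.ext fun x => ?_, fun φ' hφ' => Sigma.hom_ext _ _ fun i => ?_⟩
  · obtain ⟨s, y, rfl⟩ := H7Flat.CohDim.exists_sum_sigma G r x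
    rw [map_sum, map_sum]
    refine Finset.sum_congr rfl fun i _ => ?_
    change (ψ ∘ₗ _root_.Canon.HHlin A (Sigma.ι G i) r) (y i) =
      (t ∘ₗ _root_.Canon.HHlin A (Sigma.desc φ) r ∘ₗ _root_.Canon.HHlin A (Sigma.ι G i) r) (y i)
    rw [← H29Serre.lin_comp, Sigma.ι_desc, hφ i]
  · rw [Sigma.ι_desc]
    exact huniq i _ (by dsimp only; rw [hφ', LinearMap.comp_assoc, H29Serre.lin_comp])

/-- Enough representable generators give representability at every quasi-coherent module. -/
theorem repDual_qcoh [CompactSpace X] [QuasiSeparatedSpace X]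
    (hvan : ∀ K : X.Modules, Coh.IsQCoh K → Subsingleton (Coh.HH X K (r + 1)))
    {κ : Type v} (G : κ → X.Modules) (hGq : ∀ a, Coh.IsQCoh (G a)) (hG : ∀ a, H29Serre.RepDual t (G a))
    (hgen : ∀ F : X.Modules, Coh.IsQCoh F →
      ∃ (ι : Type u) (a : ι → κ) (p : (∐ fun i => G (a i)) ⟶ F), Epi p)
    (F : X.Modules) (hF : Coh.IsQCoh F) : H29Serre.RepDual t F := by
  have hq : ∀ (ι : Type u) (a : ι → κ), (∐ fun i => G (a i)).IsQuasicoherent := fun ι a =>
    isQuasicoherent_coproduct _ fun i => hGq (a i)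
  obtain ⟨ι, a, p, hp⟩ := hgen F hF
  haveI := hq ι a
  haveI : F.IsQuasicoherent := hF
  obtain ⟨ι', a', p', hp'⟩ := hgen (kernel p) (isQuasicoherent_kernel p)
  haveI := hq ι' a'
  haveI := isQuasicoherent_kernel p
  exact H29Serre.repDual_of_cover p p' (hvan _ (isQuasicoherent_kernel p)) (hvan _ (isQuasicoherent_kernel p'))
    (repDual_sigma _ fun i => hG (a i)) (repDual_sigma _ fun i => hG (a' i))

/-- Quasi-coherent modules on a Noetherian scheme are quotients of coproducts of generators of coherent ones. -/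
theorem exists_epi_of_coh [IsNoetherian X] {κ : Type v} (G : κ → X.Modules)
    (h : ∀ F : X.Modules, Coh.IsCoh F → ∃ (n : ℕ) (a : Fin n → κ) (p : (∐ fun i => G (a i)) ⟶ F), Epi p)
    (F : X.Modules) (hF : Coh.IsQCoh F) :
    ∃ (ι : Type u) (a : ι → κ) (p : (∐ fun i => G (a i)) ⟶ F), Epi p := by
  obtain ⟨I, _, _, D, c, hc, hD, hpt⟩ := H17.FPExt.exists_isColimit_fp (F := F) hF
  subst hpt
  choose n a p hp using fun i => h (D.obj i) (H17.ConsProp.isCoh_of_isFP (hD i))
  refine ⟨Σ i, ULift.{u} (Fin (n i)), fun x => a x.1 x.2.down,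
    Sigma.desc fun x => Sigma.ι (fun j => G (a x.1 j)) x.2.down ≫ p x.1 ≫ c.ι.app x.1, ⟨fun {Z} g h hgh => ?_⟩⟩
  refine hc.hom_ext fun i => ?_
  haveI := hp i
  rw [← cancel_epi (p i)]
  refine Sigma.hom_ext _ _ fun j => ?_
  have e := congrArg (fun q => Sigma.ι (fun x : (Σ i, ULift.{u} (Fin (n i))) => G (a x.1 x.2.down)) ⟨i, ⟨j⟩⟩ ≫ q) hgh
  simpa using e

/-- A dualizing pair from representability at generators of coherent modules. -/
theorem isRDualOver_of_gen [IsNoetherian X]
    (hvan : ∀ K : X.Modules, Coh.IsQCoh K → Subsingleton (Coh.HH X K (r + 1)))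
    {κ : Type v} (G : κ → X.Modules) (hGq : ∀ a, Coh.IsQCoh (G a)) (hG : ∀ a, H29Serre.RepDual t (G a))
    (hgen : ∀ F : X.Modules, Coh.IsCoh F → ∃ (n : ℕ) (a : Fin n → κ) (p : (∐ fun i => G (a i)) ⟶ F), Epi p)
    (hω : Coh.IsQCoh ω) : _root_.Canon.IsRDualOver A X r ω t :=
  ⟨hω, fun F hF => (repDual_iff F).1 (repDual_qcoh hvan G hGq hG (fun F hF => exists_epi_of_coh G hgen F hF) F hF)⟩

/-- Cohomology above a bound on the fibre dimensions vanishes. -/
theorem subsingleton_HH_succ [IsProper (X ↘ Spec (CommRingCat.of A))]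
    (hfib : ∀ y, topologicalKrullDim ↥((X ↘ Spec (CommRingCat.of A)).fiber y) ≤ (r : WithBot ℕ∞))
    (K : X.Modules) (hK : Coh.IsQCoh K) : Subsingleton (Coh.HH X K (r + 1)) := by
  haveI : Coh.IsQCoh K := hK
  exact H7Flat.CohDim.subsingleton_HH (X ↘ Spec (CommRingCat.of A)) r hfib K (r + 1) (Nat.lt_succ_self r)

variable {Z : Scheme.{u}} [Z.Over (Spec (CommRingCat.of A))] (π : X ⟶ Z)

theorem pushEdge_natural {G G' : X.Modules} (φ : G ⟶ G') (p : ℕ)
    (y : Coh.HH Z ((Scheme.Modules.pushforward π).obj G) p) :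
    CohPull.pushEdge π G' p (CohPull.mapH ((Scheme.Modules.pushforward π).map φ) p y) =
      CohPull.mapH φ p (CohPull.pushEdge π G p y) := by
  refine (congrArg (CohPull.mapH _ p) (LeadBC.GenBC.pullMod_natural π _ p y)).trans ?_
  refine (LeadBC.GenBC.mapH_comp _ _ p _).symm.trans ?_
  refine Eq.trans ?_ (LeadBC.GenBC.mapH_comp _ _ p _)
  exact congrArg (fun k => CohPull.mapH k p _) ((Scheme.Modules.pullbackPushforwardAdjunction π).counit.naturality φ)

/-- The edge isomorphism of an affine morphism over the base, linear over the base. -/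
def edge [IsAffineHom π] (hπ : π ≫ (Z ↘ Spec (CommRingCat.of A)) = X ↘ Spec (CommRingCat.of A))
    (G : X.Modules) [G.IsQuasicoherent] (p : ℕ) :
    Coh.HH Z ((Scheme.Modules.pushforward π).obj G) p ≃ₗ[A] Coh.HH X G p :=
  haveI := enoughInjMod X
  LinearEquiv.ofBijective
    { CohPull.pushEdge π G p with
      map_smul' := fun a x => by
        have e : Coh.toGlobal (X ↘ Spec (CommRingCat.of A)) a =
            π.appTop (Coh.toGlobal (Z ↘ Spec (CommRingCat.of A)) a) := by
          rw [← hπ]; rfl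
        show CohPull.pushEdge π G p (CohPull.mapH (Formal.smulModΓ _ (Coh.toGlobal (Z ↘ Spec (CommRingCat.of A)) a)) p x) =
          CohPull.mapH (Formal.smulModΓ G (Coh.toGlobal (X ↘ Spec (CommRingCat.of A)) a)) p (CohPull.pushEdge π G p x)
        rw [e, ← pushEdge_natural, H24Quot.pushforward_map_smulModΓ] }
    (bijective_pushEdge π G (isAcyclic_push_of_isAffineHom π G) p)

theorem edge_natural [IsAffineHom π] (hπ : π ≫ (Z ↘ Spec (CommRingCat.of A)) = X ↘ Spec (CommRingCat.of A))
    {G G' : X.Modules} [G.IsQuasicoherent] [G'.IsQuasicoherent] (φ : G ⟶ G') (p : ℕ)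
    (y : Coh.HH Z ((Scheme.Modules.pushforward π).obj G) p) :
    edge π hπ G' p (_root_.Canon.HHlin A ((Scheme.Modules.pushforward π).map φ) p y) =
      _root_.Canon.HHlin A φ p (edge π hπ G p y) :=
  pushEdge_natural π φ p y

end Groth.Agent.H17.Canon
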