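import Groth.Agent.H17.Canon.RDualPn
import Groth.Agent.H17.DualSh.Closed
import Groth.Agent.H17.EdgeIso.Main
import Groth.Agent.H10Inj.SheafExt.ChangeRings
import Groth.Agent.H10Inj.SheafExt.HomFunctor
import Groth.Agent.LeadDev.Filt

/-!
# Dualizing pairs of projective schemes over a field
-/

set_option autoImplicit false
set_option linter.style.haveILetI false

noncomputable section

universe u

open CategoryTheory CategoryTheory.Limits AlgebraicGeometry TopologicalSpace Opposite
open Groth.Agent.H10Inj.SheafExt Groth.Agent.H16Derived.ProjFormula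
open scoped ZeroObject

namespace Groth.Agent.H17.Canon

/-- `Ext^q(i_* E, G)` is a direct image. -/
theorem exists_push_iso_extSh {P X : Scheme.{u}} (ι : X ⟶ P) [IsClosedImmersion ι] (E : X.Modules)
    [ModSite.HasSheafHom (O := P.sheaf) ((Scheme.Modules.pushforward ι).obj E)]
    [HasInjectiveResolutions (ModSite.Mod P.sheaf)] (q : ℕ) (G : P.Modules) :
    ∃ ω : X.Modules, Nonempty ((Scheme.Modules.pushforward ι).obj ω ≅
      (ModSite.extSh (O := P.sheaf) ((Scheme.Modules.pushforward ι).obj E) q).obj G) := by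
  haveI : HasInjectiveResolutions P.Modules := ‹HasInjectiveResolutions (ModSite.Mod P.sheaf)›
  haveI : (push ι).PreservesHomology := preservesHomology_push ι
  let J : InjectiveResolution G := injectiveResolution G
  let K := ((changeFunctor ι E).mapHomologicalComplex (ComplexShape.up ℕ)).obj J.cocomplex
  let e : ((changeFunctor ι E ⋙ push ι).mapHomologicalComplex (ComplexShape.up ℕ)).obj J.cocomplex ≅
      ((homFunctor ((push ι).obj E)).mapHomologicalComplex (ComplexShape.up ℕ)).obj J.cocomplex :=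
    (NatIso.mapHomologicalComplex (changeIso ι E) _).app _
  exact ⟨K.homology q, ⟨((K.sc q).mapHomologyIso (push ι)).symm ≪≫
    (HomologicalComplex.homologyFunctor _ _ q).mapIso e ≪≫
    (J.isoRightDerivedObj (homFunctor ((push ι).obj E)) q).symm ≪≫
    (extShIso ((push ι).obj E) q G).symm⟩⟩

variable {k : Type u} [Field k] {n r : ℕ} {X : Scheme.{u}} [X.Over (Spec (CommRingCat.of k))]

theorem exists_isCoh_isRDualOver (ι : X ⟶ CohB1.ProjSpace n k) [IsClosedImmersion ι]
    (hι : ι ≫ CohB1.ProjSpace.toSpec n k = X ↘ Spec (CommRingCat.of k))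
    (hdim : topologicalKrullDim ↥X ≤ (r : WithBot ℕ∞)) :
    ∃ (ω : X.Modules) (tr : Coh.HH X ω r →ₗ[k] k), Coh.IsCoh ω ∧ _root_.Canon.IsRDualOver k X r ω tr := by
  haveI : AlgebraicGeometry.IsNoetherian X := isNoetherian_source ι
  haveI : IsProper (X ↘ Spec (CommRingCat.of k)) := by
    rw [← hι]
    infer_instance
  have hfib : ∀ y, topologicalKrullDim ↥((X ↘ Spec (CommRingCat.of k)).fiber y) ≤ (r : WithBot ℕ∞) := fun y =>
    ((Scheme.Hom.fiberι (X ↘ Spec (CommRingCat.of k)) y).isEmbedding.isInducing.topologicalKrullDim_le).trans hdim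
  by_cases hr : r ≤ n
  · haveI := EdgeIso.hasSheafHom (X := CohB1.ProjSpace n k) ((Scheme.Modules.pushforward ι).obj (Coh.structureModule X))
    haveI := EdgeIso.hasInjectiveResolutions (CohB1.ProjSpace n k)
    obtain ⟨ω, hω⟩ := exists_push_iso_extSh ι (Coh.structureModule X) (n - r)
      (Twist.twistProjSpace n k (-((n : ℤ) + 1)))
    have hd : topologicalKrullDim ↥X + ((n - r : ℕ) : WithBot ℕ∞) ≤ (n : WithBot ℕ∞) := by
      refine le_trans (add_le_add hdim le_rfl) ?_
      exact_mod_cast (by omega : r + (n - r) ≤ n)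
    obtain ⟨t, ht⟩ := DualSh.exists_repDual_closed ι hι (c := n - r) (Nat.add_sub_cancel' hr) hd ω hω
    exact ⟨ω, t, DualSh.isCoh_dualizing ι hω, isRDualOver_of_gen (subsingleton_HH_succ hfib)
      (fun F : {F : X.Modules // Coh.IsCoh F} => F.1) (fun F => F.2.1) (fun F => ht _ F.2)
      (fun F hF => ⟨1, fun _ => ⟨F, hF⟩, Sigma.desc fun _ => 𝟙 F,
        haveI : Epi (Sigma.ι (fun _ : Fin 1 => F) 0 ≫ Sigma.desc fun _ => 𝟙 F) := by
          rw [Sigma.ι_desc]; infer_instance
        epi_of_epi (Sigma.ι (fun _ : Fin 1 => F) 0) _⟩) (DualSh.isCoh_dualizing ι hω).1⟩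
  · have hn : ∀ K : X.Modules, Coh.IsQCoh K → Subsingleton (Coh.HH X K r) := fun K hK => by
      haveI : K.IsQuasicoherent := hK
      haveI := H10Coh.enoughInjMod X
      let M := (Scheme.Modules.pushforward ι).obj K
      have hM : Coh.IsQCoh M := H10Coh.isQuasicoherent_pushforward_of_isAffineHom ι K
      haveI : Subsingleton (Coh.HH (CohB1.ProjSpace n k) M r) :=
        @Equiv.subsingleton _ _ (H10Coh.HHEquiv M r).toEquiv
          (@H10Coh.Pn.subsingleton_HnM_proj n k _ M hM r (by omega))
      exact (H10Coh.bijective_pushEdge ι K (H10Coh.isAcyclic_push_of_isAffineHom ι K) r).2.subsingleton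
    refine ⟨0, 0, LeadDev.isCoh_of_isZero (isZero_zero _), (LeadDev.isCoh_of_isZero (isZero_zero _)).1, fun F hF => ⟨fun a b _ => (isZero_zero _).eq_of_tgt a b,
      fun ψ => ⟨0, LinearMap.ext fun x => ?_⟩⟩⟩
    haveI := hn F hF
    rw [Subsingleton.elim x 0, map_zero, map_zero]

end Groth.Agent.H17.Canon
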