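import Groth.Agent.H17.Canon.Adjunction
import Groth.Agent.H28Vert.VertGen
import Groth.Agent.H28Vert.Degree
import Groth.Agent.H17.Canon.CurveDual
import Groth.Agent.H28Vert.PicInter
import Groth.Agent.S9773
import Groth.Agent.S9775
import Groth.Agent.H17.InvertibleTensor

/-!
# The adjunction formula on a vertical prime divisor
-/

set_option autoImplicit false
set_option linter.style.haveILetI false
set_option backward.isDefEq.respectTransparency false
set_option synthInstance.maxHeartbeats 400000
set_option maxHeartbeats 3200000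

universe u

open CategoryTheory CategoryTheory.Limits AlgebraicGeometry Opposite TopologicalSpace

namespace Groth.Agent.H17.CanonSm

theorem isInvertible_of_isCanonical {X S : Scheme.{u}} [IsLocallyNoetherian S] {f : X ⟶ S} {ω : X.Modules}
    (hω : Canon.IsCanonical f ω) : PicF.IsInvertible ω := by
  obtain ⟨Z, i, g, c, n, hfac, hreg, hn, hqc, hqs, hvia⟩ := hω
  haveI := hreg.1
  haveI : Smooth g := SmoothOfRelativeDimension.smooth n g
  haveI : IsLocallyNoetherian Z := LocallyOfFiniteType.isLocallyNoetherian g
  have hC := isFinLocFreeOfRank_conormal_imm i hreg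
  obtain ⟨ω', hω', hi⟩ := exists_via i g (n := n) hC
  obtain ⟨e⟩ := nonempty_iso_of_via i g i g rfl hC hC hω' hvia
  exact H11Tilde.isInvertible_of_iso e hi

/-- The closed point of a discrete valuation ring is a Cartier divisor. -/
theorem isEffCartierIdeal_ker_residue (R : Type u) [CommRing R] [IsDomain R] [IsDiscreteValuationRing R] :
    BlowUp.IsEffCartierIdeal (Spec.map (CommRingCat.ofHom (IsLocalRing.residue R))).ker := by
  obtain ⟨ϖ, hϖ⟩ := IsDiscreteValuationRing.exists_irreducible R
  let φ := CommRingCat.ofHom (IsLocalRing.residue R)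
  haveI : IsClosedImmersion (Spec.map φ) := IsClosedImmersion.spec_of_surjective φ IsLocalRing.residue_surjective
  let α := (Scheme.ΓSpecIso (CommRingCat.of R)).commRingCatIsoToRingEquiv
  intro x
  have hT : (⊤ : (Spec (CommRingCat.of R)).Opens) ∈ (Spec (CommRingCat.of R)).affineOpens := isAffineOpen_top _
  refine ⟨⟨⊤, hT⟩, trivial, α.symm ϖ, ?_, ?_⟩
  · refine mem_nonZeroDivisors_iff_right.2 fun a ha => α.injective ?_
    have h1 : α a * ϖ = 0 := by simpa using congrArg α ha
    simpa using (mul_eq_zero.1 h1).resolve_right hϖ.ne_zero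
  · ext a
    rw [Scheme.Hom.ker_apply, RingHom.mem_ker, Ideal.mem_span_singleton,
      show (Spec.map φ).app ⊤ = (Spec.map φ).appTop from rfl]
    have h2 : (Spec.map φ).appTop.hom a = 0 ↔ IsLocalRing.residue R (α a) = 0 := by
      have h3 : (Scheme.ΓSpecIso (CommRingCat.of (IsLocalRing.ResidueField R))).commRingCatIsoToRingEquiv
          ((Spec.map φ).appTop.hom a) = IsLocalRing.residue R (α a) :=
        RingHom.congr_fun (congrArg CommRingCat.Hom.hom (Scheme.ΓSpecIso_naturality φ)) a
      rw [← h3]
      exact (map_eq_zero_iff _ (RingEquiv.injective _)).symm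
    refine h2.trans ?_
    rw [IsLocalRing.residue_eq_zero_iff, hϖ.maximalIdeal_eq, Ideal.mem_span_singleton,
      show ϖ = α (α.symm ϖ) from (α.apply_symm_apply ϖ).symm]
    simp only [RingEquiv.symm_apply_apply]
    exact map_dvd_iff α

variable {R : Type u} [CommRing R] [IsDomain R] [IsDiscreteValuationRing R]
  {X : Over (Spec (CommRingCat.of R))}

section general

variable [IsIntegral X.left] [Flat X.hom] [IsProper X.hom] (hreg : Models.IsRegularScheme X.left)
  (hd : topologicalKrullDim X.left = 2)

include hreg hd in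
theorem isEffCartierIdeal_vert (E : ArSurf.VertComp R X) : BlowUp.IsEffCartierIdeal E.ι.ker := by
  haveI : IsLocallyNoetherian X.left := LocallyOfFiniteType.isLocallyNoetherian X.hom
  exact H28Vert.isEffCartierIdeal_ker_of_mem hreg E (H28Vert.mem_fibreComponents (H28Vert.dim_fibre_le hd) E)

include hreg hd in
/-- A vertical prime divisor is lci over the residue field. -/
theorem isKoszulAt_curve (E : ArSurf.VertComp R X) {ω : X.left.Modules}
    (hω : Canon.IsCanonical X.hom ω) (x : E.curve.left) : Synt.IsKoszulAt E.curve.hom x := by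
  haveI : IsLocallyNoetherian X.left := LocallyOfFiniteType.isLocallyNoetherian X.hom
  have hE := isEffCartierIdeal_vert hreg hd E
  obtain ⟨Z, i, g, c, n, hfac, hr, hn, hqc, hqs, hvia⟩ := hω
  haveI := hr.1
  haveI : Smooth g := SmoothOfRelativeDimension.smooth n g
  haveI : IsClosedImmersion (Spec.map (CommRingCat.ofHom (IsLocalRing.residue R))) :=
    IsClosedImmersion.spec_of_surjective _ IsLocalRing.residue_surjective
  refine (S9775.result E.curve.hom (Spec.map (CommRingCat.ofHom (IsLocalRing.residue R))) (fun s => ?_)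
    fun y => ?_).1 x
  · exact H19Grp.isRegularLocalRing_stalk_of_smooth (k := IsLocalRing.ResidueField R)
      (𝟙 (Spec (CommRingCat.of (IsLocalRing.ResidueField R)))) s
  · rw [← E.w, ← hfac]
    exact H8Props.KoszImm.isKoszulAt_comp _ _ y
      (S9773.result E.ι _ (Or.inl rfl) (regImm_of_ofCodim (regImm_of_effCartier E.ι hE)) y)
      (H8Props.KoszImm.isKoszulAt_comp _ _ _
        (S9773.result i _ (Or.inl rfl) (regImm_of_ofCodim hr) _) (H8Props.AlgSpLci.isKoszulAt_of_smooth g _))

include hreg hd in
/-- Adjunction on a vertical prime divisor. -/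
theorem canonical_vert (E : ArSurf.VertComp R X) {L : X.left.Modules}
    (hL : ClSub.IsInverseOf L (ClSub.idealMod E.ι.ker)) {ω : X.left.Modules}
    (hω : Canon.IsCanonical X.hom ω) {ωE : E.curve.left.Modules} (hωE : Canon.IsCanonical E.curve.hom ωE) :
    Nonempty (ωE ≅ (Scheme.Modules.pullback E.ι).obj (CohB1.tensorMod L ω)) := by
  obtain ⟨ϖ, hϖ⟩ := IsDiscreteValuationRing.exists_irreducible R
  let φ := CommRingCat.ofHom (IsLocalRing.residue R)
  haveI : IsClosedImmersion (Spec.map φ) := IsClosedImmersion.spec_of_surjective φ IsLocalRing.residue_surjective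
  have hκ : BlowUp.IsEffCartierIdeal (Spec.map φ).ker := isEffCartierIdeal_ker_residue R
  exact adjunction_effCartier E.ι (Spec.map φ) E.w (isEffCartierIdeal_vert hreg hd E)
    (regImm_of_effCartier _ hκ) hL hω hωE

include hreg hd in
/-- The degree of `O(E) ⊗ ω` on `E` is `-2χ(O_E)`. -/
theorem inter_adjunction (E : ArSurf.VertComp R X) {L : X.left.Modules}
    (hL : ClSub.IsInverseOf L (ClSub.idealMod E.ι.ker)) {ω : X.left.Modules}
    (hω : Canon.IsCanonical X.hom ω) :
    ArSurf.inter R X (CohB1.tensorMod L ω) E = -2 *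
      FGA.eulerCharLE (IsLocalRing.ResidueField R) E.curve.left (Coh.structureModule E.curve.left) 1 := by
  haveI := H28Vert.isProper_curve E
  haveI : IsProper (E.curve.left ↘ Spec (CommRingCat.of (IsLocalRing.ResidueField R))) :=
    inferInstanceAs (IsProper E.curve.hom)
  obtain ⟨ωE, hi, hωE, t, ht⟩ := exists_canonical_dual_curve (k := IsLocalRing.ResidueField R) E.dim_eq
    (isKoszulAt_curve hreg hd E hω)
  obtain ⟨e⟩ := canonical_vert hreg hd E hL hω hωE
  have he : ∀ i, Module.finrank (IsLocalRing.ResidueField R)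
      (Coh.HH E.curve.left ((Scheme.Modules.pullback E.ι).obj (CohB1.tensorMod L ω)) i) =
      Module.finrank (IsLocalRing.ResidueField R) (Coh.HH E.curve.left ωE i) := fun i =>
    H29CurveDual.finrank_h0_congr e.symm i
  have h := euler_canonical_curve hi ht
  unfold ArSurf.inter ArSurf.curveDeg
  simp only [FGA.eulerCharLE, he]
  simp only [FGA.eulerCharLE] at h
  rw [h]
  ring

include hreg hd in
/-- The adjunction formula. -/
theorem inter_add_inter_eq_of_regular (E : ArSurf.VertComp R X) {L : X.left.Modules}
    (hL : ClSub.IsInverseOf L (ClSub.idealMod E.ι.ker)) {ω : X.left.Modules}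
    (hω : Canon.IsCanonical X.hom ω) :
    ArSurf.inter R X L E + ArSurf.inter R X ω E = -2 *
      FGA.eulerCharLE (IsLocalRing.ResidueField R) E.curve.left (Coh.structureModule E.curve.left) 1 := by
  rw [← inter_adjunction hreg hd E hL hω]
  obtain ⟨eL⟩ := hL
  exact (H28Vert.inter_tensor E (H17.InvertibleTensor.isInvertible_of_tensor_iso _ _ eL)
    (isInvertible_of_isCanonical hω)).symm

end general

/-- The adjunction formula on a fibered surface. -/
theorem inter_add_inter_eq (hX : ArSurf.IsArithSurface R X) (E : ArSurf.VertComp R X) {L : X.left.Modules}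
    (hL : ClSub.IsInverseOf L (ClSub.idealMod E.ι.ker)) {ω : X.left.Modules}
    (hω : Canon.IsCanonical X.hom ω) :
    ArSurf.inter R X L E + ArSurf.inter R X ω E = -2 *
      FGA.eulerCharLE (IsLocalRing.ResidueField R) E.curve.left (Coh.structureModule E.curve.left) 1 := by
  haveI : IsIntegral X.left := hX.2.1
  haveI : Flat X.hom := hX.2.2.2.1
  haveI := H28Vert.isProper_of_isArithSurface hX
  exact inter_add_inter_eq_of_regular hX.1 hX.2.2.1 E hL hω

end Groth.Agent.H17.CanonSm
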