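import Groth.Agent.H28Vert.Genus
import Groth.Agent.H28Vert.Sub

/-!
# Euler characteristics of vertical divisors inside the closed fibre, for arbitrary families of components
-/

set_option autoImplicit false
set_option linter.style.haveILetI false
set_option backward.isDefEq.respectTransparency.types false
universe u

open CategoryTheory CategoryTheory.Limits AlgebraicGeometry Opposite TopologicalSpace

namespace Groth.Agent.H17.VertEuler

open Groth.Agent.H28Int Groth.Agent.H28Vert

variable {R : Type u} [CommRing R] [IsDomain R] [IsDiscreteValuationRing R]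
  {X : Over (Spec (CommRingCat.of R))} [IsProper X.hom] [Flat X.hom] [IsLocallyNoetherian X.left]
  {n : ℕ} {Γ : Fin n → ArSurf.VertComp R X}
  (hd : topologicalKrullDim ↥(pullback X.hom (closedPt R)) ≤ ((1 : ℕ) : WithBot ℕ∞))
  (hker : ∀ j, BlowUp.IsEffCartierIdeal (Γ j).ι.ker)
  (hinj : Function.Injective fun i => Set.range ((Γ i).ι.base : (Γ i).curve.left → X.left))
  {L : Fin n → X.left.Modules} (hL : ∀ j, ClSub.IsInverseOf (L j) (ClSub.idealMod (Γ j).ι.ker))

include hd hker hL in
/-- Adding a component to a vertical divisor. -/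
theorem chiLen_succ_of_le (a : Fin n → ℕ) (i : Fin n)
    (hle : Models.specialFibreIdeal R X ≤ divIdeal Γ (fun j => a j + if j = i then 1 else 0)) :
    chiLen R X (ClSub.quotMod (divIdeal Γ (fun j => a j + if j = i then 1 else 0))) -
        chiLen R X (ClSub.quotMod (divIdeal Γ a)) =
      -(∑ j, (a j : ℤ) * ArSurf.inter R X (L j) (Γ i)) +
        ((Models.wdeg R X (Γ i) : ℤ) - (Models.h1 R X (Γ i) : ℤ)) := by
  let k := IsLocalRing.ResidueField R
  let Y := pullback X.hom (closedPt R)
  let b := pullback.fst X.hom (closedPt R)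
  haveI := isNoetherian k (X := Y)
  haveI := isProper_curve (Γ i)
  let C := (Γ i).curve.left
  haveI : IsProper (C ↘ Spec (CommRingCat.of k)) := inferInstanceAs (IsProper (Γ i).curve.hom)
  haveI := isNoetherian k (X := C)
  have hA : BlowUp.IsEffCartierIdeal (divIdeal Γ a) := isEffCartierIdeal_prod _ _ (fun j _ => hker j) a
  obtain ⟨S, hS, ⟨e₁⟩, h2, h3⟩ := exists_ses (Γ i).ι (hker i) _ hA
  obtain ⟨G₂, hG₂, ⟨e₂⟩, hχ₂⟩ := exists_fibre_quot hd _ hle
  obtain ⟨G₃, hG₃, ⟨e₃⟩, hχ₃⟩ := exists_fibre_quot hd _ (hle.trans (divIdeal_antitone fun j => Nat.le_add_right _ _))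
  let j := toFibre (Γ i)
  let M := (Scheme.Modules.pullback (Γ i).ι).obj (ClSub.idealMod (divIdeal Γ a))
  have hM : PicF.IsInvertible M := H11Ample.isInvertible_pullback _ (H29Blow.isInvertible_of_isEffCartierIdeal _ hA)
  haveI : M.IsQuasicoherent := (H11Ample.isCoh_of_isInvertible hM).1
  have hG₁ : Coh.IsCoh ((Coh.push j).obj M) :=
    H10Coh.isCoh_push_of_isFinite j _ (H11Ample.isCoh_of_isInvertible hM)
  have hj : j ≫ (Y ↘ Spec (CommRingCat.of k)) = C ↘ Spec (CommRingCat.of k) := pullback.lift_snd _ _ _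
  have key := euler_of_push_ses k b hS hG₁ hG₂ hG₃
    (e₁ ≪≫ eqToIso (by rw [toFibre_fst]) ≪≫ ((Scheme.Modules.pushforwardComp j b).app M).symm)
    (eqToIso (by rw [h2, divIdeal_succ]) ≪≫ e₂) (eqToIso h3 ≪≫ e₃)
  rw [hχ₂, hχ₃, Push.euler_push k j hj M] at key
  have h4 : Curv2.euler k C M = Curv2.euler k C (Coh.structureModule C) -
      D k [M] (Coh.structureModule C) := by
    show _ = _ - (Curv2.euler k C _ - Curv2.euler k C (CohB1.tensorMod M _))
    rw [H25Euler.euler_congr (H10Coh.Tw.rightUnitIso M)]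
    ring
  have h5 : Curv2.euler k C (Coh.structureModule C) = (Models.wdeg R X (Γ i) : ℤ) - (Models.h1 R X (Γ i) : ℤ) := by
    rw [← eulerCharLE_eq k (d := 1) (Γ i).dim_eq.le H10Coh.isQuasicoherent_unit, FGA.eulerCharLE]
    simp [Finset.sum_range_succ, Models.wdeg, Models.h1]
    ring
  have h6 := D_pullback_divIdeal hL hker i a
  rw [h4, h5, h6] at key
  linarith [key]

include hd hker hinj hL in
/-- The Euler characteristic of a vertical divisor. -/
theorem chiLen_divIdeal_of_le : ∀ (s : ℕ) (a : Fin n → ℕ), (∑ j, a j) = s → Models.specialFibreIdeal R X ≤ divIdeal Γ a →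
    2 * chiLen R X (ClSub.quotMod (divIdeal Γ a)) =
      -(∑ j, ∑ l, (a j : ℤ) * (a l : ℤ) * ArSurf.inter R X (L l) (Γ j)) +
        ∑ j, (a j : ℤ) * (ArSurf.inter R X (L j) (Γ j) +
          2 * ((Models.wdeg R X (Γ j) : ℤ) - (Models.h1 R X (Γ j) : ℤ))) := by
  intro s
  induction s with
  | zero =>
    intro a hs ha
    have h0 : ∀ j, a j = 0 := fun j => (Finset.sum_eq_zero_iff.1 hs) j (Finset.mem_univ j)
    have hdiv : divIdeal Γ a = ⊤ := by
      rw [divIdeal]
      exact Finset.prod_eq_one fun j _ => by rw [h0 j, pow_zero]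
    rw [hdiv, chiLen_top hd]
    simp [h0]
  | succ s ih =>
    intro a hs ha
    classical
    obtain ⟨i, hi⟩ : ∃ i, a i ≠ 0 := by
      by_contra h
      push Not at h
      simp [h] at hs
    let b : Fin n → ℕ := fun j => a j - if j = i then 1 else 0
    have hab : a = fun j => b j + if j = i then 1 else 0 := by
      funext j
      show a j = a j - _ + _
      split_ifs with hj
      · subst hj; omega
      · omega
    have hbs : ∑ j, b j = s := by
      have h1 : ∑ j, a j = ∑ j, b j + ∑ j, (if j = i then 1 else 0) := by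
        rw [← Finset.sum_add_distrib]
        exact Finset.sum_congr rfl fun j _ => congrFun hab j
      rw [Finset.sum_ite_eq' Finset.univ i, if_pos (Finset.mem_univ i)] at h1
      omega
    have hb := ih b hbs (ha.trans (divIdeal_antitone fun j => Nat.sub_le _ _))
    have hstep := chiLen_succ_of_le hd hker hL b i (hab ▸ ha)
    rw [← hab] at hstep
    have hsymm : ∀ j l, ArSurf.inter R X (L j) (Γ l) = ArSurf.inter R X (L l) (Γ j) := fun j l => by
      rcases eq_or_ne l j with rfl | hne
      · rfl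
      · exact inter_symm (Γ l) (Γ j) (fun h => hne (hinj h)) (hL l) (hL j)
    have hz : ∀ j, (a j : ℤ) = (b j : ℤ) + if j = i then 1 else 0 := fun j => by
      rw [congrFun hab j]; push_cast; rfl
    simp only [hz, add_mul, mul_add, Finset.sum_add_distrib, ite_mul, mul_ite, one_mul, mul_one, zero_mul, mul_zero,
      Finset.sum_ite_irrel, Finset.sum_ite_eq', Finset.mem_univ, if_true, Finset.sum_const_zero] at hb ⊢
    have h2 : ∑ j, (b j : ℤ) * ArSurf.inter R X (L i) (Γ j) = ∑ j, (b j : ℤ) * ArSurf.inter R X (L j) (Γ i) :=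
      Finset.sum_congr rfl fun j _ => by rw [hsymm i j]
    rw [h2]
    linarith [hb, hstep]

include hd hker hinj hL in
/-- Adjunction for an effective vertical divisor inside the closed fibre. -/
theorem sum_inter_add_inter (ω : X.left.Modules)
    (hω : ∀ i, ArSurf.inter R X (L i) (Γ i) + ArSurf.inter R X ω (Γ i) =
      -2 * ((Models.wdeg R X (Γ i) : ℤ) - (Models.h1 R X (Γ i) : ℤ)))
    (a : Fin n → ℕ) (hle : Models.specialFibreIdeal R X ≤ divIdeal Γ a) :
    ∑ i, (a i : ℤ) * (∑ j, (a j : ℤ) * ArSurf.inter R X (L j) (Γ i) + ArSurf.inter R X ω (Γ i)) =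
      -2 * chiLen R X (ClSub.quotMod (divIdeal Γ a)) := by
  have h := chiLen_divIdeal_of_le hd hker hinj hL _ a rfl hle
  have h2 : ∀ i, (a i : ℤ) * ArSurf.inter R X ω (Γ i) = -((a i : ℤ) * (ArSurf.inter R X (L i) (Γ i) +
      2 * ((Models.wdeg R X (Γ i) : ℤ) - (Models.h1 R X (Γ i) : ℤ)))) := fun i => by
    linear_combination (a i : ℤ) * hω i
  simp only [mul_add, Finset.sum_add_distrib, h2, Finset.sum_neg_distrib, Finset.mul_sum, ← mul_assoc] at h ⊢
  linarith [h]

end Groth.Agent.H17.VertEuler
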